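import Mathlib
import Cfsg.Prelude.Def_Local
import Cfsg.Prelude.Def_CaseTheorems

/-!
The pointwise stabiliser of four points in the alternating group of degree `n ≥ 9` is a standard
subgroup.
-/

set_option autoImplicit false

namespace Cfsg.Agent.Lib.Helper38.AltStd

open Equiv Equiv.Perm Subgroup
open scoped commutatorElement

theorem isQuasisimple_of_simple {X : Type*} [Group X] [hs : IsSimpleGroup X]
    (hna : ∃ a b : X, a * b ≠ b * a) : Cfsg.IsQuasisimple X := by
  obtain ⟨a, b, hab⟩ := hna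
  constructor
  · refine ⟨?_⟩
    rcases hs.eq_bot_or_eq_top_of_normal (commutator X) inferInstance with h | h
    · exfalso
      apply hab
      have h1 : ⁅a, b⁆ ∈ commutator X :=
        Subgroup.commutator_mem_commutator (mem_top a) (mem_top b)
      rw [h, mem_bot, commutatorElement_eq_one_iff_mul_comm] at h1
      exact h1
    · exact h
  · have hc : center X = ⊥ := by
      rcases hs.eq_bot_or_eq_top_of_normal (center X) inferInstance with h | h
      · exact h
      · exfalso
        apply hab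
        have h1 : b ∈ center X := h ▸ mem_top b
        exact mem_center_iff.1 h1 a
    exact ((QuotientGroup.quotientMulEquivOfEq hc).trans QuotientGroup.quotientBot).isSimpleGroup

theorem pinv_apply {α : Type*} (g : Perm α) (x : α) : g⁻¹ (g x) = x := by simp

theorem papply_inv {α : Type*} (g : Perm α) (x : α) : g (g⁻¹ x) = x := by simp

variable {n : ℕ}

/-- pointwise stabiliser of the first four points -/
def LL (n : ℕ) : Subgroup (alternatingGroup (Fin n)) where
  carrier := {g | ∀ x : Fin n, x.val < 4 → (g : Perm (Fin n)) x = x}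
  one_mem' := fun _ _ => rfl
  mul_mem' := by
    intro a b ha hb x hx
    show (a : Perm (Fin n)) ((b : Perm (Fin n)) x) = x
    rw [hb x hx, ha x hx]
  inv_mem' := by
    intro a ha x hx
    show (a : Perm (Fin n))⁻¹ x = x
    rw [Perm.inv_eq_iff_eq, ha x hx]

/-- pointwise stabiliser of the other points -/
def KK (n : ℕ) : Subgroup (alternatingGroup (Fin n)) where
  carrier := {g | ∀ x : Fin n, 4 ≤ x.val → (g : Perm (Fin n)) x = x}
  one_mem' := fun _ _ => rfl
  mul_mem' := by
    intro a b ha hb x hx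
    show (a : Perm (Fin n)) ((b : Perm (Fin n)) x) = x
    rw [hb x hx, ha x hx]
  inv_mem' := by
    intro a ha x hx
    show (a : Perm (Fin n))⁻¹ x = x
    rw [Perm.inv_eq_iff_eq, ha x hx]

theorem mem_LL (g : alternatingGroup (Fin n)) :
    g ∈ LL n ↔ ∀ x : Fin n, x.val < 4 → (g : Perm (Fin n)) x = x := Iff.rfl

theorem mem_KK (g : alternatingGroup (Fin n)) :
    g ∈ KK n ↔ ∀ x : Fin n, 4 ≤ x.val → (g : Perm (Fin n)) x = x := Iff.rfl

theorem exists_avoid (hn : 9 ≤ n) (S : Finset (Fin n)) (hS : S.card ≤ 4) :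
    ∃ a : Fin n, 4 ≤ a.val ∧ a ∉ S := by
  let f : Fin 5 → Fin n := fun i => ⟨i.val + 4, by omega⟩
  have hf : Function.Injective f := by
    intro i j hij
    have : i.val + 4 = j.val + 4 := congrArg Fin.val hij
    exact Fin.ext (by omega)
  have hcard : (Finset.univ.image f).card = 5 := by
    rw [Finset.card_image_of_injective _ hf, Finset.card_univ, Fintype.card_fin]
  obtain ⟨a, ha, haS⟩ := Finset.exists_mem_notMem_of_card_lt_card
    (s := S) (t := Finset.univ.image f) (by omega)
  obtain ⟨i, -, rfl⟩ := Finset.mem_image.1 ha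
  exact ⟨f i, by show 4 ≤ i.val + 4; omega, haS⟩

/-- a three-cycle -/
def tc (a b c : Fin n) (hab : a ≠ b) (hac : a ≠ c) : alternatingGroup (Fin n) :=
  ⟨swap a b * swap a c, by
    rw [mem_alternatingGroup, map_mul, sign_swap hab, sign_swap hac]; rfl⟩

theorem tc_mem_LL {a b c : Fin n} (hab : a ≠ b) (hac : a ≠ c) (ha : 4 ≤ a.val) (hb : 4 ≤ b.val)
    (hc : 4 ≤ c.val) : tc a b c hab hac ∈ LL n := by
  intro x hx
  show swap a b (swap a c x) = x
  have h1 : x ≠ a := by rintro rfl; omega
  have h2 : x ≠ b := by rintro rfl; omega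
  have h3 : x ≠ c := by rintro rfl; omega
  rw [swap_apply_of_ne_of_ne h1 h3, swap_apply_of_ne_of_ne h1 h2]

theorem exists_LL_fix_move (hn : 9 ≤ n) {x y : Fin n} (hxy : x ≠ y) (hy : 4 ≤ y.val) :
    ∃ h ∈ LL n, (h : Perm (Fin n)) x = x ∧ (h : Perm (Fin n)) y ≠ y := by
  obtain ⟨a, ha, haS⟩ := exists_avoid hn {x, y} (by
    have := Finset.card_le_two (a := x) (b := y); omega)
  obtain ⟨b, hb, hbS⟩ := exists_avoid hn {x, y, a} (by
    have := Finset.card_le_three (a := x) (b := y) (c := a); omega)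
  simp only [Finset.mem_insert, Finset.mem_singleton, not_or] at haS hbS
  have hya : y ≠ a := fun h => haS.2 h.symm
  have hyb : y ≠ b := fun h => hbS.2.1 h.symm
  refine ⟨tc y a b hya hyb, tc_mem_LL hya hyb hy ha hb, ?_, ?_⟩
  · show swap y a (swap y b x) = x
    rw [swap_apply_of_ne_of_ne hxy (fun h => hbS.1 h.symm),
      swap_apply_of_ne_of_ne hxy (fun h => haS.1 h.symm)]
  · show swap y a (swap y b y) ≠ y
    rw [swap_apply_left, swap_apply_of_ne_of_ne hyb.symm hbS.2.2]
    exact hyb.symm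

theorem exists_LL_move (hn : 9 ≤ n) {y : Fin n} (hy : 4 ≤ y.val) :
    ∃ h ∈ LL n, (h : Perm (Fin n)) y ≠ y := by
  obtain ⟨a, -, haS⟩ := exists_avoid hn {y} (by simp)
  obtain ⟨h, hh, -, h2⟩ := exists_LL_fix_move hn (x := a) (y := y)
    (by simpa using haS) hy
  exact ⟨h, hh, h2⟩

theorem centralizer_LL (hn : 9 ≤ n) : centralizer (LL n : Set (alternatingGroup (Fin n))) = KK n := by
  ext g
  rw [mem_centralizer_iff]
  constructor
  · intro hg x hx
    by_contra hne
    by_cases hy : 4 ≤ ((g : Perm (Fin n)) x).val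
    · obtain ⟨h, hh, h1, h2⟩ := exists_LL_fix_move hn (x := x) (y := (g : Perm (Fin n)) x)
        (fun e => hne e.symm) hy
      have h3 := congrArg (fun t : alternatingGroup (Fin n) => (t : Perm (Fin n)) x) (hg h hh)
      have h4 : (h : Perm (Fin n)) ((g : Perm (Fin n)) x) = (g : Perm (Fin n)) ((h : Perm (Fin n)) x) := h3
      rw [h1] at h4
      exact h2 h4
    · obtain ⟨h, hh, h2⟩ := exists_LL_move hn hx
      have h3 := congrArg (fun t : alternatingGroup (Fin n) => (t : Perm (Fin n)) x) (hg h hh)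
      have h4 : (h : Perm (Fin n)) ((g : Perm (Fin n)) x) = (g : Perm (Fin n)) ((h : Perm (Fin n)) x) := h3
      rw [hh _ (by omega)] at h4
      exact h2 ((g : Perm (Fin n)).injective h4).symm
  · intro hg h hh
    apply Subtype.ext
    have hd : Perm.Disjoint (h : Perm (Fin n)) (g : Perm (Fin n)) := by
      intro x
      by_cases hx : x.val < 4
      · exact Or.inl (hh x hx)
      · exact Or.inr (hg x (by omega))
    exact hd.commute

/-- setwise stabiliser condition -/
def StabD (g : Perm (Fin n)) : Prop := ∀ x : Fin n, x.val < 4 → (g x).val < 4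

theorem StabD.pow {g : Perm (Fin n)} (hg : StabD g) (k : ℕ) : StabD (g ^ k) := by
  induction k with
  | zero => intro x hx; simpa using hx
  | succ k ih =>
    intro x hx
    rw [pow_succ, Perm.mul_apply]
    exact ih _ (hg x hx)

theorem StabD.inv {g : Perm (Fin n)} (hg : StabD g) : StabD g⁻¹ := by
  have h1 : g ^ (orderOf g - 1) * g = 1 := by
    rw [← pow_succ, Nat.sub_add_cancel (orderOf_pos g), pow_orderOf_eq_one]
  rw [← eq_inv_of_mul_eq_one_left h1]
  exact hg.pow _

theorem StabD.ge {g : Perm (Fin n)} (hg : StabD g) {x : Fin n} (hx : 4 ≤ x.val) :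
    4 ≤ (g x).val := by
  by_contra h
  have := hg.inv (g x) (by omega)
  rw [pinv_apply] at this
  omega

theorem conj_mem_KK {g h : alternatingGroup (Fin n)} (hg : StabD (g : Perm (Fin n)))
    (hh : h ∈ KK n) : g * h * g⁻¹ ∈ KK n := by
  intro x hx
  show (g : Perm (Fin n)) ((h : Perm (Fin n)) ((g : Perm (Fin n))⁻¹ x)) = x
  rw [hh _ (hg.inv.ge hx), papply_inv]

theorem conj_mem_LL {g h : alternatingGroup (Fin n)} (hg : StabD (g : Perm (Fin n)))
    (hh : h ∈ LL n) : g * h * g⁻¹ ∈ LL n := by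
  intro x hx
  show (g : Perm (Fin n)) ((h : Perm (Fin n)) ((g : Perm (Fin n))⁻¹ x)) = x
  rw [hh _ (hg.inv x hx), papply_inv]

theorem mem_normalizer_of_conj {G : Type*} [Group G] {H : Subgroup G} {g : G}
    (h1 : ∀ h ∈ H, g * h * g⁻¹ ∈ H) (h2 : ∀ h ∈ H, g⁻¹ * h * g⁻¹⁻¹ ∈ H) :
    g ∈ normalizer (H : Set G) := by
  rw [mem_normalizer_iff]
  intro h
  refine ⟨h1 h, fun hh => ?_⟩
  have := h2 _ hh
  have e : g⁻¹ * (g * h * g⁻¹) * g⁻¹⁻¹ = h := by group
  rwa [e] at this

theorem mem_normalizer_KK_of {g : alternatingGroup (Fin n)} (hg : StabD (g : Perm (Fin n))) :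
    g ∈ normalizer (KK n : Set (alternatingGroup (Fin n))) :=
  mem_normalizer_of_conj (fun _ hh => conj_mem_KK hg hh)
    (fun _ hh => conj_mem_KK (g := g⁻¹) hg.inv hh)

theorem mem_normalizer_LL_of {g : alternatingGroup (Fin n)} (hg : StabD (g : Perm (Fin n))) :
    g ∈ normalizer (LL n : Set (alternatingGroup (Fin n))) :=
  mem_normalizer_of_conj (fun _ hh => conj_mem_LL hg hh)
    (fun _ hh => conj_mem_LL (g := g⁻¹) hg.inv hh)

theorem stabD_of_mem_normalizer_LL (hn : 9 ≤ n) {g : alternatingGroup (Fin n)}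
    (hg : g ∈ normalizer (LL n : Set (alternatingGroup (Fin n)))) : StabD (g : Perm (Fin n)) := by
  intro x hx
  by_contra hge
  obtain ⟨h, hh, h2⟩ := exists_LL_move hn (y := (g : Perm (Fin n)) x) (by omega)
  have h3 : g⁻¹ * h * g⁻¹⁻¹ ∈ LL n := (mem_normalizer_iff.1 (inv_mem hg) h).1 hh
  have h4 := h3 x hx
  have h5 : (g : Perm (Fin n))⁻¹ ((h : Perm (Fin n)) ((g : Perm (Fin n))⁻¹⁻¹ x)) = x := h4
  rw [inv_inv, Perm.inv_eq_iff_eq] at h5
  exact h2 h5

section t0

/-- small points -/
def pt (hn : 9 ≤ n) (i : ℕ) (hi : i < 9) : Fin n := ⟨i, by omega⟩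

theorem pt_ne (hn : 9 ≤ n) {i j : ℕ} (hi : i < 9) (hj : j < 9) (hij : i ≠ j) :
    pt hn i hi ≠ pt hn j hj := fun h => hij (congrArg Fin.val h)

theorem ne_pt (hn : 9 ≤ n) {x : Fin n} {j : ℕ} (hj : j < 9) (hij : x.val ≠ j) :
    x ≠ pt hn j hj := fun h => hij (congrArg Fin.val h)

/-- the involution `(0 1)(2 3)` -/
def t0 (hn : 9 ≤ n) : alternatingGroup (Fin n) :=
  ⟨swap (pt hn 0 (by omega)) (pt hn 1 (by omega)) * swap (pt hn 2 (by omega)) (pt hn 3 (by omega)), by
    rw [mem_alternatingGroup, map_mul, sign_swap (pt_ne hn _ _ (by omega)),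
      sign_swap (pt_ne hn _ _ (by omega))]; rfl⟩

theorem t0_apply (hn : 9 ≤ n) (x : Fin n) : (t0 hn : Perm (Fin n)) x =
    swap (pt hn 0 (by omega)) (pt hn 1 (by omega))
      (swap (pt hn 2 (by omega)) (pt hn 3 (by omega)) x) := rfl

theorem t0_mem (hn : 9 ≤ n) : t0 hn ∈ KK n := by
  intro x hx
  have h1 : swap (pt hn 2 (by omega)) (pt hn 3 (by omega)) x = x :=
    swap_apply_of_ne_of_ne (ne_pt hn _ (by omega)) (ne_pt hn _ (by omega))
  rw [t0_apply, h1]
  exact swap_apply_of_ne_of_ne (ne_pt hn _ (by omega)) (ne_pt hn _ (by omega))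

theorem t0_move (hn : 9 ≤ n) {x : Fin n} (hx : x.val < 4) : (t0 hn : Perm (Fin n)) x ≠ x := by
  rw [t0_apply]
  have h : x = pt hn 0 (by omega) ∨ x = pt hn 1 (by omega) ∨ x = pt hn 2 (by omega) ∨
      x = pt hn 3 (by omega) := by
    have : x.val = 0 ∨ x.val = 1 ∨ x.val = 2 ∨ x.val = 3 := by omega
    rcases this with h | h | h | h
    · exact Or.inl (Fin.ext h)
    · exact Or.inr (Or.inl (Fin.ext h))
    · exact Or.inr (Or.inr (Or.inl (Fin.ext h)))
    · exact Or.inr (Or.inr (Or.inr (Fin.ext h)))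
  rcases h with h | h | h | h <;> rw [h]
  · rw [swap_apply_of_ne_of_ne (pt_ne hn _ _ (by omega)) (pt_ne hn _ _ (by omega)), swap_apply_left]
    exact pt_ne hn _ _ (by omega)
  · rw [swap_apply_of_ne_of_ne (pt_ne hn _ _ (by omega)) (pt_ne hn _ _ (by omega)), swap_apply_right]
    exact pt_ne hn _ _ (by omega)
  · rw [swap_apply_left, swap_apply_of_ne_of_ne (pt_ne hn _ _ (by omega)) (pt_ne hn _ _ (by omega))]
    exact pt_ne hn _ _ (by omega)
  · rw [swap_apply_right, swap_apply_of_ne_of_ne (pt_ne hn _ _ (by omega)) (pt_ne hn _ _ (by omega))]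
    exact pt_ne hn _ _ (by omega)

theorem t0_sq (hn : 9 ≤ n) : t0 hn * t0 hn = 1 := by
  apply Subtype.ext
  show (swap (pt hn 0 (by omega)) (pt hn 1 (by omega)) *
      swap (pt hn 2 (by omega)) (pt hn 3 (by omega))) *
    (swap (pt hn 0 (by omega)) (pt hn 1 (by omega)) *
      swap (pt hn 2 (by omega)) (pt hn 3 (by omega))) = 1
  have hd : Perm.Disjoint (swap (pt hn 0 (by omega)) (pt hn 1 (by omega)))
      (swap (pt hn 2 (by omega)) (pt hn 3 (by omega))) := by
    intro x
    by_cases h : x.val < 2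
    · right
      exact swap_apply_of_ne_of_ne (ne_pt hn _ (by omega)) (ne_pt hn _ (by omega))
    · left
      exact swap_apply_of_ne_of_ne (ne_pt hn _ (by omega)) (ne_pt hn _ (by omega))
  rw [hd.commute.symm.mul_mul_mul_comm, swap_mul_self, swap_mul_self, one_mul]

theorem even_card_KK (hn : 9 ≤ n) : Even (Nat.card (KK n)) := by
  have h1 : orderOf (t0 hn) = 2 := by
    apply orderOf_eq_prime
    · rw [pow_two]; exact t0_sq hn
    · intro h
      have := t0_move hn (x := pt hn 0 (by omega)) (by show 0 < 4; omega)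
      rw [h] at this
      exact this rfl
  have h2 := Subgroup.orderOf_dvd_natCard (KK n) (t0_mem hn)
  rw [h1] at h2
  exact even_iff_two_dvd.2 h2

theorem stabD_of_mem_normalizer_KK (hn : 9 ≤ n) {g : alternatingGroup (Fin n)}
    (hg : g ∈ normalizer (KK n : Set (alternatingGroup (Fin n)))) : StabD (g : Perm (Fin n)) := by
  intro x hx
  by_contra hge
  have h3 : g * t0 hn * g⁻¹ ∈ KK n := (mem_normalizer_iff.1 hg _).1 (t0_mem hn)
  have h4 := h3 ((g : Perm (Fin n)) x) (by omega)
  have h5 : (g : Perm (Fin n)) ((t0 hn : Perm (Fin n)) ((g : Perm (Fin n))⁻¹ ((g : Perm (Fin n)) x)))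
      = (g : Perm (Fin n)) x := h4
  rw [pinv_apply] at h5
  exact t0_move hn hx ((g : Perm (Fin n)).injective h5)

end t0

/-- an even involution supported on the first four points moves all of them -/
theorem involution_moves (h4 : 4 ≤ n) {t : alternatingGroup (Fin n)} (ht : t ∈ KK n)
    (ho : orderOf t = 2) {x : Fin n} (hx : x.val < 4) : (t : Perm (Fin n)) x ≠ x := by
  intro hfix
  have ho' : orderOf (t : Perm (Fin n)) = 2 := by rw [Subgroup.orderOf_coe, ho]
  have hsub : (t : Perm (Fin n)).support ⊆ (Finset.univ.image (Fin.castLE h4)).erase x := by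
    intro y hy
    rw [Finset.mem_erase]
    refine ⟨by rintro rfl; exact (mem_support.1 hy) hfix, ?_⟩
    have hy4 : y.val < 4 := by
      by_contra h
      exact (mem_support.1 hy) (ht y (by omega))
    exact Finset.mem_image.2 ⟨⟨y.val, hy4⟩, Finset.mem_univ _, Fin.ext rfl⟩
  have hxD : x ∈ Finset.univ.image (Fin.castLE h4) :=
    Finset.mem_image.2 ⟨⟨x.val, hx⟩, Finset.mem_univ _, Fin.ext rfl⟩
  have hD : (Finset.univ.image (Fin.castLE h4 : Fin 4 → Fin n)).card ≤ 4 := by
    have := Finset.card_image_le (s := (Finset.univ : Finset (Fin 4))) (f := Fin.castLE h4)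
    rwa [Finset.card_univ, Fintype.card_fin] at this
  have hc : (t : Perm (Fin n)).support.card ≤ 3 := by
    have h1 := Finset.card_le_card hsub
    rw [Finset.card_erase_of_mem hxD] at h1
    omega
  have hcases : (t : Perm (Fin n)).support.card = 0 ∨ (t : Perm (Fin n)).support.card = 1 ∨
      (t : Perm (Fin n)).support.card = 2 ∨ (t : Perm (Fin n)).support.card = 3 := by omega
  rcases hcases with h | h | h | h
  · rw [card_support_eq_zero] at h
    rw [h, orderOf_one] at ho'
    omega
  · exact card_support_ne_one _ h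
  · rw [card_support_eq_two] at h
    have h1 := h.sign_eq
    have h2 : sign (t : Perm (Fin n)) = 1 := mem_alternatingGroup.1 t.2
    rw [h2] at h1
    exact absurd h1 (by decide)
  · rw [card_support_eq_three_iff] at h
    have := h.orderOf
    omega

theorem tightly_embedded_KK (hn : 9 ≤ n) : Cfsg.IsTightlyEmbedded (KK n) := by
  refine ⟨even_card_KK hn, fun g hg => ?_⟩
  by_contra hodd
  rw [Nat.not_odd_iff_even, even_iff_two_dvd] at hodd
  obtain ⟨⟨t, ht⟩, hto⟩ := exists_prime_orderOf_dvd_card' 2 hodd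
  have hto' : orderOf t = 2 := by
    rw [← hto]
    exact (Subgroup.orderOf_mk t ht).symm
  obtain ⟨htK, s, hs, hst⟩ := ht
  have hst' : g * s * g⁻¹ = t := hst
  apply hg
  have h1 : StabD ((g : Perm (Fin n))⁻¹) := by
    intro x hx
    by_contra hge
    have h2 := involution_moves (by omega) htK hto' hx
    apply h2
    rw [← hst']
    show (g : Perm (Fin n)) ((s : Perm (Fin n)) ((g : Perm (Fin n))⁻¹ x)) = x
    rw [hs _ (by omega), papply_inv]
  have h3 := h1.inv
  rw [inv_inv] at h3
  exact mem_normalizer_KK_of h3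

theorem not_commute_conj (hn : 9 ≤ n) (g : alternatingGroup (Fin n)) :
    ⁅LL n, (LL n).map (MulAut.conj g).toMonoidHom⁆ ≠ ⊥ := by
  intro hbot
  rw [Subgroup.commutator_comm, commutator_eq_bot_iff_le_centralizer, centralizer_LL hn] at hbot
  have h4 : 4 ≤ n := by omega
  obtain ⟨y, hy, hyS⟩ := exists_avoid hn
    (Finset.univ.image (fun i : Fin 4 => (g : Perm (Fin n))⁻¹ (Fin.castLE h4 i))) (by
      have := Finset.card_image_le (s := (Finset.univ : Finset (Fin 4)))
        (f := fun i : Fin 4 => (g : Perm (Fin n))⁻¹ (Fin.castLE h4 i))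
      rwa [Finset.card_univ, Fintype.card_fin] at this)
  have hgy : 4 ≤ ((g : Perm (Fin n)) y).val := by
    by_contra hlt
    apply hyS
    refine Finset.mem_image.2 ⟨⟨((g : Perm (Fin n)) y).val, by omega⟩, Finset.mem_univ _, ?_⟩
    have e : Fin.castLE h4 ⟨((g : Perm (Fin n)) y).val, by omega⟩ = (g : Perm (Fin n)) y :=
      Fin.ext rfl
    rw [e, pinv_apply]
  obtain ⟨h, hh, hmove⟩ := exists_LL_move hn hy
  have h1 : g * h * g⁻¹ ∈ KK n := hbot ⟨h, hh, rfl⟩
  have h2 := h1 _ hgy
  have h3 : (g : Perm (Fin n)) ((h : Perm (Fin n)) ((g : Perm (Fin n))⁻¹ ((g : Perm (Fin n)) y)))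
      = (g : Perm (Fin n)) y := h2
  rw [pinv_apply] at h3
  exact hmove ((g : Perm (Fin n)).injective h3)

theorem normalizer_eq (hn : 9 ≤ n) : normalizer (LL n : Set (alternatingGroup (Fin n))) =
    normalizer (KK n : Set (alternatingGroup (Fin n))) := by
  ext g
  exact ⟨fun h => mem_normalizer_KK_of (stabD_of_mem_normalizer_LL hn h),
    fun h => mem_normalizer_LL_of (stabD_of_mem_normalizer_KK hn h)⟩

/-- the embedding of the alternating group on the remaining points -/
def emb (n : ℕ) : alternatingGroup {x : Fin n // 4 ≤ x.val} →* alternatingGroup (Fin n) :=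
  ((ofSubtype (p := fun x : Fin n => 4 ≤ x.val)).comp
    (alternatingGroup {x : Fin n // 4 ≤ x.val}).subtype).codRestrict (alternatingGroup (Fin n))
    (fun σ => by
      rw [mem_alternatingGroup]
      show sign (ofSubtype (σ : Perm {x : Fin n // 4 ≤ x.val})) = 1
      rw [sign_ofSubtype]
      exact mem_alternatingGroup.1 σ.2)

theorem emb_injective : Function.Injective (emb n) := by
  intro a b hab
  have h1 : ofSubtype (a : Perm {x : Fin n // 4 ≤ x.val}) = ofSubtype (b : Perm {x : Fin n // 4 ≤ x.val}) :=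
    congrArg Subtype.val hab
  exact Subtype.ext (ofSubtype_injective h1)

theorem emb_range : (emb n).range = LL n := by
  ext g
  constructor
  · rintro ⟨σ, rfl⟩ x hx
    show ofSubtype (σ : Perm {x : Fin n // 4 ≤ x.val}) x = x
    exact ofSubtype_apply_of_not_mem _ (by omega)
  · intro hg
    have hst : StabD (g : Perm (Fin n)) := by
      intro x hx
      rw [hg x hx]; exact hx
    have h1 : ∀ x : Fin n, 4 ≤ ((g : Perm (Fin n)) x).val ↔ 4 ≤ x.val := by
      intro x
      constructor
      · intro h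
        by_contra hlt
        have := hst x (by omega)
        omega
      · exact fun h => hst.ge h
    have h2 : ∀ x : Fin n, (g : Perm (Fin n)) x ≠ x → 4 ≤ x.val := by
      intro x hx
      by_contra hlt
      exact hx (hg x (by omega))
    have h3 := ofSubtype_subtypePerm (p := fun x : Fin n => 4 ≤ x.val) h1 h2
    refine ⟨⟨subtypePerm (g : Perm (Fin n)) h1, ?_⟩, ?_⟩
    · rw [mem_alternatingGroup, ← sign_ofSubtype, h3]
      exact mem_alternatingGroup.1 g.2
    · exact Subtype.ext h3

theorem isSimpleGroup_LL (hn : 9 ≤ n) : IsSimpleGroup (LL n) := by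
  have hcard : 5 ≤ Nat.card {x : Fin n // 4 ≤ x.val} := by
    let f : Fin 5 → {x : Fin n // 4 ≤ x.val} := fun i => ⟨⟨i.val + 4, by omega⟩, by simp⟩
    have hf : Function.Injective f := by
      intro i j hij
      have : i.val + 4 = j.val + 4 := congrArg (fun t : {x : Fin n // 4 ≤ x.val} => t.1.val) hij
      exact Fin.ext (by omega)
    have := Nat.card_le_card_of_injective f hf
    rwa [Nat.card_fin] at this
  have := alternatingGroup.isSimpleGroup hcard
  exact ((MulEquiv.subgroupCongr emb_range.symm).trans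
    (MonoidHom.ofInjective emb_injective).symm).isSimpleGroup

theorem isQuasisimple_LL (hn : 9 ≤ n) : Cfsg.IsQuasisimple (LL n) := by
  have := isSimpleGroup_LL hn
  apply isQuasisimple_of_simple
  by_contra hcon
  push Not at hcon
  have hle : LL n ≤ centralizer (LL n : Set (alternatingGroup (Fin n))) := by
    intro a ha
    rw [mem_centralizer_iff]
    intro b hb
    exact congrArg Subtype.val (hcon ⟨b, hb⟩ ⟨a, ha⟩)
  rw [centralizer_LL hn] at hle
  obtain ⟨h, hh, hmove⟩ := exists_LL_move hn (y := pt hn 4 (by omega)) (by show 4 ≤ 4; omega)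
  exact hmove (hle hh _ (by show 4 ≤ 4; omega))

theorem isStandard_LL (hn : 9 ≤ n) : Cfsg.IsStandardSubgroup (LL n) := by
  refine ⟨isQuasisimple_LL hn, ?_, fun g _ => not_commute_conj hn g, ?_⟩
  · rw [centralizer_LL hn]; exact tightly_embedded_KK hn
  · rw [centralizer_LL hn]; exact normalizer_eq hn

theorem iInf_stabilizer_eq (h4 : 4 ≤ n) :
    (⨅ i : Fin 4, MulAction.stabilizer ↥(alternatingGroup (Fin n)) (Fin.castLE h4 i : Fin n))
      = LL n := by
  ext g
  rw [mem_iInf]
  constructor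
  · intro h x hx
    have := h ⟨x.val, hx⟩
    rw [MulAction.mem_stabilizer_iff] at this
    exact this
  · intro h i
    rw [MulAction.mem_stabilizer_iff]
    exact h _ i.2

end Cfsg.Agent.Lib.Helper38.AltStd
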