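import Mathlib
import Cfsg.Agent.Lib.Helper52.FPF
import Cfsg.Agent.Lib.Helper29.NormalRankTwo

/-!
`p`-groups acting on elementary abelian `q`-groups with all stabilisers of nonzero vectors of the
same order.
-/

set_option autoImplicit false

namespace Cfsg.Agent.Lib.Helper38

section
variable {P E : Type*} [Group P] [Finite P] [AddCommGroup E] [DistribMulAction P E]

/-- The sum of the translates of `e` under the subgroup `N`. -/
noncomputable def normSum (N : Subgroup P) (e : E) : E :=
  letI := Fintype.ofFinite N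
  ∑ n : N, (n : P) • e

theorem smul_normSum_of_mem (N : Subgroup P) (e : E) {h : P} (hh : h ∈ N) :
    h • normSum N e = normSum N e := by
  unfold normSum
  let _ := Fintype.ofFinite N
  rw [Finset.smul_sum]
  exact Fintype.sum_equiv (Equiv.mulLeft (⟨h, hh⟩ : N)) _ _ (fun n => by simp [mul_smul])

theorem smul_normSum_of_normal (N : Subgroup P) [N.Normal] (e : E) (g : P) :
    g • normSum N e = normSum N (g • e) := by
  unfold normSum
  let _ := Fintype.ofFinite N
  rw [Finset.smul_sum]
  refine Fintype.sum_equiv (MulAut.conjNormal g : MulAut N).toEquiv _ _ (fun n => ?_)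
  simp only [MulEquiv.toEquiv_eq_coe, MulEquiv.coe_toEquiv, MulAut.conjNormal_apply, smul_smul]
  congr 1
  group

theorem smul_normSum_of_commute (N : Subgroup P) (e : E) (g : P) (hg : ∀ n ∈ N, g * n = n * g) :
    g • normSum N e = normSum N (g • e) := by
  unfold normSum
  let _ := Fintype.ofFinite N
  rw [Finset.smul_sum]
  refine Finset.sum_congr rfl (fun n _ => ?_)
  rw [smul_smul, smul_smul, hg n n.2]

theorem normSum_of_fixed (N : Subgroup P) (e : E) (he : ∀ n ∈ N, n • e = e) :
    normSum N e = Nat.card N • e := by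
  unfold normSum
  let _ := Fintype.ofFinite N
  rw [Finset.sum_congr rfl (fun (n : N) _ => he (n : P) n.2), Finset.sum_const, Finset.card_univ,
    Nat.card_eq_fintype_card]

theorem normSum_add (N : Subgroup P) (e e' : E) : normSum N (e + e') = normSum N e + normSum N e' := by
  unfold normSum
  let _ := Fintype.ofFinite N
  simp only [smul_add, Finset.sum_add_distrib]

theorem normSum_zero (N : Subgroup P) : normSum N (0 : E) = 0 := by
  unfold normSum
  let _ := Fintype.ofFinite N
  simp

theorem normSum_neg (N : Subgroup P) (e : E) : normSum N (-e) = - normSum N e := by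
  unfold normSum
  let _ := Fintype.ofFinite N
  simp only [smul_neg, Finset.sum_neg_distrib]

theorem normSum_sub (N : Subgroup P) (e e' : E) : normSum N (e - e') = normSum N e - normSum N e' := by
  rw [sub_eq_add_neg, normSum_add, normSum_neg, sub_eq_add_neg]

theorem normSum_nsmul (N : Subgroup P) (k : ℕ) (e : E) : normSum N (k • e) = k • normSum N e := by
  induction k with
  | zero => simp [normSum_zero]
  | succ k ih => rw [succ_nsmul, succ_nsmul, normSum_add, ih]

omit [Group P] [Finite P] [DistribMulAction P E] in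
theorem eq_zero_of_coprime_nsmul {q m : ℕ} (hcop : m.Coprime q) {e : E} (hq : q • e = 0)
    (hm : m • e = 0) : e = 0 := by
  have h1 := addOrderOf_dvd_of_nsmul_eq_zero hq
  have h2 := addOrderOf_dvd_of_nsmul_eq_zero hm
  have h3 := Nat.dvd_gcd h2 h1
  rw [hcop, Nat.dvd_one, AddMonoid.addOrderOf_eq_one_iff] at h3
  exact h3

theorem fixed_eq_zero_of_normal [FaithfulSMul P E] {q : ℕ} (hE : ∀ e : E, q • e = 0)
    (hconst : ∀ a b : E, a ≠ 0 → b ≠ 0 →
      Nat.card (MulAction.stabilizer P a) = Nat.card (MulAction.stabilizer P b))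
    (N : Subgroup P) [N.Normal] (hN : N ≠ ⊥) (hcop : (Nat.card N).Coprime q)
    (a : E) (ha : ∀ n ∈ N, n • a = a) : a = 0 := by
  by_contra ha0
  obtain ⟨⟨n0, hn0⟩, hn01'⟩ := Subgroup.ne_bot_iff_exists_ne_one.1 hN
  have hn01 : n0 ≠ 1 := fun h => hn01' (Subtype.ext h)
  have hex : ∃ e : E, n0 • e ≠ e := by
    by_contra hcon
    push Not at hcon
    exact hn01 (FaithfulSMul.eq_of_smul_eq_smul (α := E) (fun e => by rw [hcon e, one_smul]))
  obtain ⟨e, he⟩ := hex
  set m := Nat.card N with hm
  set b := m • e - normSum N e with hb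
  have hfixN : ∀ n ∈ N, n • normSum N e = normSum N e := fun n hn => smul_normSum_of_mem N e hn
  have hNb : normSum N b = 0 := by
    rw [hb, normSum_sub, normSum_nsmul, normSum_of_fixed N (normSum N e) hfixN, sub_self]
  have hz : ∀ c : E, (∀ n ∈ N, n • c = c) → normSum N c = 0 → c = 0 := by
    intro c hc hc0
    rw [normSum_of_fixed N c hc] at hc0
    exact eq_zero_of_coprime_nsmul hcop (hE c) hc0
  have hb0 : b ≠ 0 := by
    intro h0
    have h1 : m • e = normSum N e := sub_eq_zero.1 h0
    have h2 : n0 • (m • e) = m • e := by rw [h1]; exact hfixN n0 hn0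
    have h3 : m • (n0 • e - e) = 0 := by
      rw [smul_sub, sub_eq_zero, ← smul_comm, h2]
    exact he (sub_eq_zero.1 (eq_zero_of_coprime_nsmul hcop (hE _) h3))
  have hab0 : a + b ≠ 0 := by
    intro h0
    have h1 : b = -a := by rw [eq_neg_iff_add_eq_zero, add_comm]; exact h0
    apply hb0
    apply hz b _ hNb
    intro n hn
    rw [h1, smul_neg, ha n hn]
  have hle : MulAction.stabilizer P (a + b) ≤ MulAction.stabilizer P a := by
    intro g hg
    rw [MulAction.mem_stabilizer_iff] at hg ⊢
    rw [smul_add] at hg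
    have h1 : g • a - a = -(g • b - b) := by
      rw [neg_sub, sub_eq_sub_iff_add_eq_add, add_comm b a]
      exact hg
    have h2 : g • a - a = 0 := by
      apply hz
      · intro n hn
        rw [smul_sub, ha n hn]
        congr 1
        have h3 : g⁻¹ * n * g ∈ N := by
          have := ‹N.Normal›.conj_mem n hn g⁻¹
          simpa using this
        have h4 := ha _ h3
        calc n • g • a = g • (g⁻¹ * n * g) • a := by
              rw [smul_smul, smul_smul]; congr 1; group
          _ = g • a := by rw [h4]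
      · rw [h1, normSum_neg, normSum_sub, ← smul_normSum_of_normal, hNb, smul_zero, sub_zero,
          neg_zero]
    exact sub_eq_zero.1 h2
  have heq : MulAction.stabilizer P (a + b) = MulAction.stabilizer P a :=
    Subgroup.eq_of_le_of_card_ge hle (hconst _ _ ha0 hab0).le
  apply hb0
  apply hz b _ hNb
  intro n hn
  have h1 : n ∈ MulAction.stabilizer P (a + b) := by
    rw [heq, MulAction.mem_stabilizer_iff]; exact ha n hn
  rw [MulAction.mem_stabilizer_iff, smul_add, ha n hn] at h1
  exact add_left_cancel h1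

/-- The multiplicative version of a distributive action. -/
@[instance_reducible]
def mulDistribOfDistrib (M E : Type*) [Monoid M] [AddCommGroup E] [DistribMulAction M E] :
    MulDistribMulAction M (Multiplicative E) where
  smul a v := Multiplicative.ofAdd (a • v.toAdd)
  one_smul v := by
    change Multiplicative.ofAdd ((1 : M) • v.toAdd) = v
    rw [one_smul]; rfl
  mul_smul a b v := by
    change Multiplicative.ofAdd ((a * b) • v.toAdd) = Multiplicative.ofAdd (a • (b • v.toAdd))
    rw [mul_smul]
  smul_mul a v w := by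
    change Multiplicative.ofAdd (a • (v.toAdd + w.toAdd)) =
      Multiplicative.ofAdd (a • v.toAdd) * Multiplicative.ofAdd (a • w.toAdd)
    rw [smul_add]; rfl
  smul_one a := by
    change Multiplicative.ofAdd (a • (0 : E)) = 1
    rw [smul_zero]; rfl

theorem isCyclic_of_const_stab [FaithfulSMul P E] [Finite E] {p q : ℕ} [hp : Fact p.Prime]
    (hp2 : p ≠ 2) (hP : IsPGroup p P) (hpq : p ≠ q) (hq : q.Prime) (hE : ∀ e : E, q • e = 0)
    (hconst : ∀ a b : E, a ≠ 0 → b ≠ 0 →
      Nat.card (MulAction.stabilizer P a) = Nat.card (MulAction.stabilizer P b)) :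
    IsCyclic P := by
  by_contra hnc
  have hnc' : ¬ IsCyclic (⊤ : Subgroup P) := fun h =>
    hnc (isCyclic_of_surjective (Subgroup.topEquiv (G := P)).toMonoidHom
      (Subgroup.topEquiv (G := P)).surjective)
  obtain ⟨A, -, hAn, hAc, hAexp, hAcard⟩ :=
    Cfsg.Agent.Lib.Helper29.exists_normal_elemAb_sq_of_not_isCyclic hp2 hP ⊤ hnc'
  have hcop : ∀ N : Subgroup P, (Nat.card N).Coprime q := by
    intro N
    obtain ⟨k, hk⟩ := IsPGroup.iff_card.1 (hP.to_subgroup N)
    rw [hk]
    exact Nat.Coprime.pow_left k ((Nat.coprime_primes hp.out hq).2 hpq)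
  have hcopp : p.Coprime q := (Nat.coprime_primes hp.out hq).2 hpq
  have hAbot : A ≠ ⊥ := by
    rintro rfl
    rw [Subgroup.card_bot] at hAcard
    have := Nat.one_lt_pow (by norm_num : 2 ≠ 0) hp.out.one_lt
    omega
  have hA0 : ∀ a : E, (∀ n ∈ A, n • a = a) → a = 0 := fun a ha =>
    fixed_eq_zero_of_normal hE hconst A hAbot (hcop A) a ha
  have hord : ∀ b ∈ A, b ≠ 1 → orderOf b = p := fun b hb hb1 => orderOf_eq_prime (hAexp b hb) hb1
  have hcomm : ∀ a ∈ A, ∀ b ∈ A, a * b = b * a := by
    intro a ha b hb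
    exact congrArg Subtype.val (hAc.is_comm.comm ⟨a, ha⟩ ⟨b, hb⟩)
  have htwo : ∀ b ∈ A, b ≠ 1 → ∀ b' ∈ A, b' ∉ Subgroup.zpowers b → ∀ e : E, b • e = e → b' • e = e →
      e = 0 := by
    intro b hb hb1 b' hb' hb'n e he he'
    apply hA0
    set S := MulAction.stabilizer P e ⊓ A with hS
    have hSA : S ≤ A := inf_le_right
    have hbS : Subgroup.zpowers b ≤ S := by
      rw [Subgroup.zpowers_le]; exact ⟨he, hb⟩
    have hlt : Subgroup.zpowers b < S := by
      refine lt_of_le_of_ne hbS ?_
      intro h
      apply hb'n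
      rw [h]
      exact ⟨he', hb'⟩
    have hc1 : Nat.card (Subgroup.zpowers b) < Nat.card S := by
      by_contra h
      push Not at h
      exact hlt.ne (Subgroup.eq_of_le_of_card_ge hbS h)
    rw [Nat.card_zpowers, hord b hb hb1] at hc1
    have hc2 : Nat.card S ∣ p ^ 2 := hAcard ▸ Subgroup.card_dvd_of_le hSA
    obtain ⟨k, hk, hk'⟩ := (Nat.dvd_prime_pow hp.out).1 hc2
    have hk2 : k = 2 := by
      interval_cases k
      · rw [hk', pow_zero] at hc1; have := hp.out.one_lt; omega
      · rw [hk', pow_one] at hc1; omega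
      · rfl
    have hSeq : S = A := Subgroup.eq_of_le_of_card_ge hSA (by rw [hAcard, hk', hk2])
    intro n hn
    have : n ∈ S := hSeq ▸ hn
    exact this.1
  have hEnt : Nontrivial E := by
    by_contra hE'
    rw [not_nontrivial_iff_subsingleton] at hE'
    apply hAbot
    rw [eq_bot_iff]
    intro n _
    rw [Subgroup.mem_bot]
    exact FaithfulSMul.eq_of_smul_eq_smul (α := E) (fun e => Subsingleton.elim _ _)
  -- some nonidentity element of `A` has a nonzero fixed vector
  have hnf : ∃ w ∈ A, w ≠ 1 ∧ ∃ v0 : E, v0 ≠ 0 ∧ w • v0 = v0 := by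
    by_contra hcon
    push Not at hcon
    let _ : MulDistribMulAction A (Multiplicative E) := mulDistribOfDistrib A E
    have hfpf : ∀ a : A, a ≠ 1 → ∀ v : Multiplicative E, a • v = v → v = 1 := by
      intro a ha v hv
      by_contra hv1
      exact hcon a a.2 (fun h => ha (Subtype.ext h)) v.toAdd (fun h => hv1 (by simpa using h))
        (congrArg Multiplicative.toAdd hv)
    obtain ⟨d, hd1⟩ := Subgroup.ne_bot_iff_exists_ne_one.1 hAbot
    have hdo : orderOf d = p := by
      rw [← Subgroup.orderOf_coe]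
      exact hord d d.2 (fun h => hd1 (Subtype.ext h))
    have hex : ∃ c : A, c ∉ Subgroup.zpowers d := by
      by_contra hall
      push Not at hall
      have htop : Subgroup.zpowers d = ⊤ := by
        rw [eq_top_iff]; intro c _; exact hall c
      have h1 := Nat.card_zpowers d
      rw [htop, Subgroup.card_top, hdo, hAcard] at h1
      have := hp.out.one_lt
      nlinarith
    obtain ⟨c, hc⟩ := hex
    have := Cfsg.Agent.Lib.Helper52.subsingleton_of_fpf hfpf c d (hAc.is_comm.comm c d) p hp.out
      (Subtype.ext (hAexp c c.2)) hdo hc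
    have h2 : Subsingleton E := ⟨fun a b => congrArg Multiplicative.toAdd
      (Subsingleton.elim (Multiplicative.ofAdd a) (Multiplicative.ofAdd b))⟩
    exact not_subsingleton E h2
  obtain ⟨w, hwA, hw1, v0, hv0, hwv0⟩ := hnf
  have hfixw : ∀ e : E, w • e = e → ∀ n ∈ Subgroup.zpowers w, n • e = e := by
    intro e he n hn
    have : Subgroup.zpowers w ≤ MulAction.stabilizer P e := by
      rw [Subgroup.zpowers_le]; exact he
    exact this hn
  have hwbot : Subgroup.zpowers w ≠ ⊥ := by
    rw [Ne, Subgroup.zpowers_eq_bot]; exact hw1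
  have hnn : ∃ y : P, y * w * y⁻¹ ∉ Subgroup.zpowers w := by
    by_contra hcon
    push Not at hcon
    have hnorm : (Subgroup.zpowers w).Normal := ⟨fun n hn g => by
      obtain ⟨k, rfl⟩ := hn
      have : g * w ^ k * g⁻¹ = (g * w * g⁻¹) ^ k := by
        rw [← MulAut.conj_apply, ← MulAut.conj_apply, map_zpow]
      rw [this]
      exact zpow_mem (hcon g) k⟩
    exact hv0 (fixed_eq_zero_of_normal hE hconst _ hwbot (hcop _) v0 (hfixw v0 hwv0))
  obtain ⟨y, hy⟩ := hnn
  set w1 := y * w * y⁻¹ with hw1def
  set v1 := y • v0 with hv1def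
  have hw1A : w1 ∈ A := hAn.conj_mem w hwA y
  have hconjfix : ∀ (g b : P) (e : E), b • e = e → (g * b * g⁻¹) • (g • e) = g • e := by
    intro g b e he
    rw [smul_smul, inv_mul_cancel_right, mul_smul, he]
  have hw1v1 : w1 • v1 = v1 := hconjfix y w v0 hwv0
  have hcardw : Nat.card (Subgroup.zpowers w) = p := by rw [Nat.card_zpowers, hord w hwA hw1]
  have F1 : ∀ e : E, w • e = e → normSum (Subgroup.zpowers w) e = p • e := by
    intro e he
    rw [normSum_of_fixed _ e (hfixw e he), hcardw]
  have hzA : Subgroup.zpowers w ≤ A := by rw [Subgroup.zpowers_le]; exact hwA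
  have F2 : ∀ b ∈ A, b ∉ Subgroup.zpowers w → ∀ e : E, b • e = e →
      normSum (Subgroup.zpowers w) e = 0 := by
    intro b hb hbn e he
    apply htwo w hwA hw1 b hb hbn
    · exact smul_normSum_of_mem _ e (Subgroup.mem_zpowers w)
    · rw [smul_normSum_of_commute _ e b (fun n hn => hcomm b hb n (hzA hn)), he]
  have hpz : ∀ e : E, p • e = 0 → e = 0 := fun e he => eq_zero_of_coprime_nsmul hcopp (hE e) he
  have hv1ne : ¬ (w • v1 = v1) := by
    intro h
    have h0 := htwo w hwA hw1 w1 hw1A hy v1 h hw1v1
    apply hv0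
    have : y⁻¹ • v1 = 0 := by rw [h0, smul_zero]
    rwa [hv1def, inv_smul_smul] at this
  -- if a conjugate `b` of an element of order `p` lies in `zpowers w` then `w` is a power of it
  have hback : ∀ b ∈ Subgroup.zpowers w, b ≠ 1 → w ∈ Subgroup.zpowers b := by
    intro b hb hb1
    have hle : Subgroup.zpowers b ≤ Subgroup.zpowers w := by rw [Subgroup.zpowers_le]; exact hb
    have heq : Subgroup.zpowers b = Subgroup.zpowers w :=
      Subgroup.eq_of_le_of_card_ge hle (by
        rw [hcardw, Nat.card_zpowers, hord b (hzA hb) hb1])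
    rw [heq]; exact Subgroup.mem_zpowers w
  have hfixb : ∀ (b : P) (e : E), b • e = e → ∀ n ∈ Subgroup.zpowers b, n • e = e := by
    intro b e he n hn
    have : Subgroup.zpowers b ≤ MulAction.stabilizer P e := by
      rw [Subgroup.zpowers_le]; exact he
    exact this hn
  have hconj1 : ∀ (g b : P), b ≠ 1 → g * b * g⁻¹ ≠ 1 := by
    intro g b hb h
    apply hb
    have : b = g⁻¹ * (g * b * g⁻¹) * g := by group
    rw [this, h]; group
  have hw11 : w1 ≠ 1 := hconj1 y w hw1
  have hsum0 : v0 + v1 ≠ 0 := by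
    intro h0
    apply hv1ne
    have : v1 = -v0 := by rw [eq_neg_iff_add_eq_zero, add_comm]; exact h0
    rw [this, smul_neg, hwv0]
  have hle : MulAction.stabilizer P (v0 + v1) ≤ MulAction.stabilizer P v0 := by
    intro g hg
    rw [MulAction.mem_stabilizer_iff] at hg ⊢
    rw [smul_add] at hg
    have hπ := congrArg (normSum (Subgroup.zpowers w)) hg
    rw [normSum_add, normSum_add, F1 v0 hwv0, F2 w1 hw1A hy v1 hw1v1, add_zero] at hπ
    have hgw : (g * w * g⁻¹) • (g • v0) = g • v0 := hconjfix g w v0 hwv0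
    have hgw1 : (g * w1 * g⁻¹) • (g • v1) = g • v1 := hconjfix g w1 v1 hw1v1
    by_cases hcase : g * w * g⁻¹ ∈ Subgroup.zpowers w
    · have h1 : w • (g • v0) = g • v0 :=
        hfixb _ _ hgw w (hback _ hcase (hconj1 g w hw1))
      have h2 : g * w1 * g⁻¹ ∉ Subgroup.zpowers w := by
        intro h
        apply hy
        have h3 : Subgroup.zpowers w ≤ Subgroup.zpowers (g * w * g⁻¹) := by
          rw [Subgroup.zpowers_le]; exact hback _ hcase (hconj1 g w hw1)
        obtain ⟨k, hk⟩ := h3 h
        have hk' : (g * w * g⁻¹) ^ k = g * w ^ k * g⁻¹ := by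
          rw [← MulAut.conj_apply, ← MulAut.conj_apply, map_zpow]
        have hk2 : (g * w * g⁻¹) ^ k = g * w1 * g⁻¹ := hk
        rw [hk'] at hk2
        have : w ^ k = w1 := by
          have := mul_right_cancel hk2
          exact mul_left_cancel this
        rw [← this]
        exact zpow_mem (Subgroup.mem_zpowers w) k
      rw [F1 _ h1, F2 _ (hAn.conj_mem w1 hw1A g) h2 _ hgw1, add_zero] at hπ
      have : p • (g • v0 - v0) = 0 := by rw [smul_sub, hπ, sub_self]
      exact sub_eq_zero.1 (hpz _ this)
    · rw [F2 _ (hAn.conj_mem w hwA g) hcase _ hgw, zero_add] at hπ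
      have h2 : g * w1 * g⁻¹ ∈ Subgroup.zpowers w := by
        by_contra h
        rw [F2 _ (hAn.conj_mem w1 hw1A g) h _ hgw1] at hπ
        exact hv0 (hpz _ hπ.symm)
      have h1 : w • (g • v1) = g • v1 :=
        hfixb _ _ hgw1 w (hback _ h2 (hconj1 g w1 hw11))
      rw [F1 _ h1] at hπ
      have h3 : g • v1 = v0 := by
        have : p • (g • v1 - v0) = 0 := by rw [smul_sub, hπ, sub_self]
        exact sub_eq_zero.1 (hpz _ this)
      have h4 : g • v0 = v1 := by
        rw [h3, add_comm] at hg
        exact add_left_cancel hg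
      have h5 : (g ^ 2) • v0 = v0 := by rw [pow_two, mul_smul, h4, h3]
      obtain ⟨k, hk⟩ := hP g
      have hodd : Odd (p ^ k) := (hp.out.eq_two_or_odd'.resolve_left hp2).pow
      obtain ⟨j, hj⟩ := hodd
      have h6 : ((g ^ 2) ^ j) • v0 = v0 := by
        have : g ^ 2 ∈ MulAction.stabilizer P v0 := h5
        exact pow_mem this j
      have h7 : g ^ (p ^ k) = g * (g ^ 2) ^ j := by
        rw [hj, pow_succ', pow_mul]
      rw [hk] at h7
      calc g • v0 = g • ((g ^ 2) ^ j) • v0 := by rw [h6]
        _ = (g * (g ^ 2) ^ j) • v0 := by rw [mul_smul]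
        _ = v0 := by rw [← h7, one_smul]
  have heq : MulAction.stabilizer P (v0 + v1) = MulAction.stabilizer P v0 :=
    Subgroup.eq_of_le_of_card_ge hle (hconst _ _ hv0 hsum0).le
  apply hv1ne
  have h1 : w ∈ MulAction.stabilizer P (v0 + v1) := by
    rw [heq]; exact hwv0
  rw [MulAction.mem_stabilizer_iff, smul_add, hwv0] at h1
  exact add_left_cancel h1

end

end Cfsg.Agent.Lib.Helper38
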