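import Mathlib

set_option autoImplicit false

/-! The irreducible factors of `X ^ r - 1` over a finite field, `r` a prime. -/

namespace Cfsg.Agent.Lib.Helper38.CycF

open Polynomial UniqueFactorizationMonoid

variable (F : Type*) [Field F]

open Classical in
/-- the monic irreducible factors of the `r`-th cyclotomic polynomial. -/
noncomputable def facs (r : ℕ) : Finset F[X] := (normalizedFactors (cyclotomic r F)).toFinset

variable {F}

theorem mem_facs_iff {r : ℕ} {P : F[X]} :
    P ∈ facs F r ↔ Irreducible P ∧ P.Monic ∧ P ∣ cyclotomic r F := by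
  classical
  rw [facs, Multiset.mem_toFinset, mem_normalizedFactors_iff' (cyclotomic_ne_zero r F)]
  constructor
  · rintro ⟨h1, h2, h3⟩
    refine ⟨h1, ?_, h3⟩
    rw [← h2]
    exact monic_normalize h1.ne_zero
  · rintro ⟨h1, h2, h3⟩
    exact ⟨h1, h2.normalize_eq_self, h3⟩

variable [Fintype F]

theorem orderOf_unit_eq (p f r : ℕ) (hn : p.Coprime r) :
    orderOf (ZMod.unitOfCoprime _ (hn.pow_left f)) = orderOf (((p ^ f : ℕ)) : ZMod r) := by
  rw [← orderOf_units, ZMod.coe_unitOfCoprime]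

theorem natDegree_of_mem (p : ℕ) [hp : Fact p.Prime] [CharP F p] {r : ℕ} (hr : r.Prime)
    (hrp : r ≠ p) {P : F[X]} (hP : P ∈ facs F r) :
    P.natDegree = orderOf ((Fintype.card F : ℕ) : ZMod r) := by
  obtain ⟨⟨f, hf0⟩, -, hf⟩ := FiniteField.card F p
  simp only [PNat.mk_coe] at hf
  have hn : p.Coprime r := (Nat.coprime_primes hp.out hr).2 hrp.symm
  obtain ⟨h1, -, h3⟩ := mem_facs_iff.1 hP
  rw [natDegree_of_dvd_cyclotomic_of_irreducible hf hn h3 h1, orderOf_unit_eq p f r hn, hf]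

theorem card_facs (p : ℕ) [hp : Fact p.Prime] [CharP F p] {r : ℕ} (hr : r.Prime)
    (hrp : r ≠ p) :
    (facs F r).card = (r - 1) / orderOf ((Fintype.card F : ℕ) : ZMod r) := by
  classical
  obtain ⟨⟨f, hf0⟩, -, hf⟩ := FiniteField.card F p
  simp only [PNat.mk_coe] at hf
  have hn : p.Coprime r := (Nat.coprime_primes hp.out hr).2 hrp.symm
  have h := normalizedFactors_cyclotomic_card hf hn
  rw [orderOf_unit_eq p f r hn, ← hf, Nat.totient_prime hr] at h
  rw [← h, facs]

omit [Fintype F] in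
theorem not_dvd_X_sub_one (p : ℕ) [hp : Fact p.Prime] [CharP F p] {r : ℕ} (hr : r.Prime)
    (hrp : r ≠ p) {P : F[X]} (hP : P ∈ facs F r) : ¬ P ∣ X - 1 := by
  intro h
  obtain ⟨h1, h2, h3⟩ := mem_facs_iff.1 hP
  have h4 : P = X - C 1 := by
    apply eq_of_monic_of_associated h2 (monic_X_sub_C 1)
    apply h1.associated_of_dvd (irreducible_X_sub_C (1 : F))
    simpa using h
  rw [h4, dvd_iff_isRoot, IsRoot] at h3
  have : Fact r.Prime := ⟨hr⟩
  rw [eval_one_cyclotomic_prime, CharP.cast_eq_zero_iff F p] at h3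
  exact hrp ((Nat.prime_dvd_prime_iff_eq hp.out hr).1 h3).symm

omit [Fintype F] in
theorem dvd_X_pow_sub_one_iff {r : ℕ} (hr : r.Prime) {P : F[X]} (h1 : Irreducible P)
    (h2 : P.Monic) : P ∣ X ^ r - 1 ↔ P = X - 1 ∨ P ∈ facs F r := by
  have : Fact r.Prime := ⟨hr⟩
  rw [← cyclotomic_prime_mul_X_sub_one F r]
  constructor
  · intro h
    rcases (h1.prime.dvd_mul).1 h with h | h
    · exact Or.inr (mem_facs_iff.2 ⟨h1, h2, h⟩)
    · left
      have h4 : P = X - C 1 := by
        apply eq_of_monic_of_associated h2 (monic_X_sub_C 1)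
        apply h1.associated_of_dvd (irreducible_X_sub_C (1 : F))
        simpa using h
      simpa using h4
  · rintro (rfl | h)
    · exact Dvd.intro_left _ rfl
    · exact Dvd.dvd.mul_right (mem_facs_iff.1 h).2.2 _

end Cfsg.Agent.Lib.Helper38.CycF
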