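import Mathlib
import Cfsg.Agent.Lib.Helper63.ClassTwo
import Cfsg.Agent.Lib.Helper38.ConstStab

/-!
Modules for class-two `p`-groups with cyclic commutator subgroup `⟨z⟩` on which `z` acts without
fixed points: the geometric step (decomposition along a noncentral element of order `p`).
-/

set_option autoImplicit false

namespace Cfsg.Agent.Lib.Helper38

open Finset Subgroup

section
variable {P V : Type*} [Group P] [AddCommGroup V] [DistribMulAction P V]

/-- additive norm along the first `m` powers of `x` -/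
def pn (m : ℕ) (x : P) (v : V) : V := ∑ i ∈ range m, (x ^ i) • v

theorem smul_pn (m : ℕ) (x : P) (hx : x ^ m = 1) (v : V) : x • pn m x v = pn m x v := by
  unfold pn
  rw [Finset.smul_sum]
  have h1 : ∀ i, x • (x ^ i) • v = (x ^ (i + 1)) • v := by
    intro i; rw [smul_smul, pow_succ']
  simp only [h1]
  have h2 := Finset.sum_range_succ' (fun i => (x ^ i) • v) m
  have h3 := Finset.sum_range_succ (fun i => (x ^ i) • v) m
  rw [h3] at h2
  simp only [hx, pow_zero] at h2
  exact (add_right_cancel h2).symm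

theorem smul_pn_of_commute (m : ℕ) (x g : P) (h : Commute g x) (v : V) :
    g • pn m x v = pn m x (g • v) := by
  unfold pn
  rw [Finset.smul_sum]
  refine Finset.sum_congr rfl (fun i _ => ?_)
  rw [smul_smul, smul_smul, (h.pow_right i).eq]

theorem pn_of_fixed (m : ℕ) (x : P) (v : V) (h : x • v = v) : pn m x v = m • v := by
  unfold pn
  have h1 : ∀ i : ℕ, (x ^ i) • v = v := by
    intro i
    induction i with
    | zero => simp
    | succ i ih => rw [pow_succ, mul_smul, h, ih]
  simp [h1]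

theorem pn_sum {ι : Type*} (m : ℕ) (x : P) (s : Finset ι) (f : ι → V) :
    pn m x (∑ j ∈ s, f j) = ∑ j ∈ s, pn m x (f j) := by
  unfold pn
  simp only [Finset.smul_sum]
  rw [Finset.sum_comm]

theorem pn_sub (m : ℕ) (x : P) (u v : V) : pn m x (u - v) = pn m x u - pn m x v := by
  unfold pn
  simp only [smul_sub, Finset.sum_sub_distrib]

theorem pn_add (m : ℕ) (x : P) (u v : V) : pn m x (u + v) = pn m x u + pn m x v := by
  unfold pn
  simp only [smul_add, Finset.sum_add_distrib]

theorem pn_neg (m : ℕ) (x : P) (v : V) : pn m x (-v) = - pn m x v := by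
  unfold pn
  simp only [smul_neg, Finset.sum_neg_distrib]

theorem pn_zero (m : ℕ) (x : P) : pn m x (0 : V) = 0 := by
  unfold pn
  simp

theorem pn_key (c d : P) (hcd : Commute c d) (m : ℕ) (v : V) :
    ∑ j ∈ range m, pn m (c * d ^ j) v = ∑ i ∈ range m, (c ^ i) • pn m (d ^ i) v := by
  unfold pn
  rw [Finset.sum_comm]
  refine Finset.sum_congr rfl (fun i _ => ?_)
  rw [Finset.smul_sum]
  refine Finset.sum_congr rfl (fun j _ => ?_)
  rw [smul_smul, (hcd.pow_right j).mul_pow, ← pow_mul, ← pow_mul, mul_comm j i]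

theorem pn_mem (W : AddSubgroup V) (m : ℕ) (x : P) (hx : ∀ v ∈ W, x • v ∈ W) {v : V} (hv : v ∈ W) :
    pn m x v ∈ W := by
  unfold pn
  have h1 : ∀ i : ℕ, (x ^ i) • v ∈ W := by
    intro i
    induction i with
    | zero => simpa using hv
    | succ i ih => rw [pow_succ', mul_smul]; exact hx _ ih
  exact W.sum_mem (fun i _ => h1 i)

/-- the fixed points of `x` in `W` -/
def fixIn (W : AddSubgroup V) (x : P) : AddSubgroup V where
  carrier := {v | v ∈ W ∧ x • v = v}
  zero_mem' := ⟨W.zero_mem, smul_zero x⟩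
  add_mem' := fun ha hb => ⟨W.add_mem ha.1 hb.1, by rw [smul_add, ha.2, hb.2]⟩
  neg_mem' := fun ha => ⟨W.neg_mem ha.1, by rw [smul_neg, ha.2]⟩

theorem mem_fixIn (W : AddSubgroup V) (x : P) (v : V) : v ∈ fixIn W x ↔ v ∈ W ∧ x • v = v := Iff.rfl

theorem fixIn_le (W : AddSubgroup V) (x : P) : fixIn W x ≤ W := fun _ h => h.1

/-- a nontrivial power of `z` is still fixed-point-free -/
theorem fpf_of_mem {p : ℕ} [hp : Fact p.Prime] {z : P} (hz : orderOf z = p) (W : AddSubgroup V)
    (hfpf : ∀ v ∈ W, z • v = v → v = 0) {t : P} (ht : t ∈ zpowers z) (ht1 : t ≠ 1) :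
    ∀ v ∈ W, t • v = v → v = 0 := by
  intro v hv htv
  have hcard : Nat.card (zpowers z) = p := by rw [Nat.card_zpowers, hz]
  have h1 : zpowers (⟨t, ht⟩ : zpowers z) = ⊤ :=
    zpowers_eq_top_of_prime_card hcard (fun h => ht1 (congrArg Subtype.val h))
  have h2 : (⟨z, mem_zpowers z⟩ : zpowers z) ∈ zpowers (⟨t, ht⟩ : zpowers z) := h1 ▸ mem_top _
  obtain ⟨k, hk⟩ := h2
  have hk' : t ^ k = z := congrArg Subtype.val hk
  apply hfpf v hv
  have h3 : t ∈ MulAction.stabilizer P v := htv
  have h4 : t ^ k ∈ MulAction.stabilizer P v := zpow_mem h3 k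
  rw [hk'] at h4
  exact h4

end

section
variable {P V : Type*} [Group P] [AddCommGroup V] [DistribMulAction P V]
  {p r : ℕ} [hp : Fact p.Prime] [hr : Fact r.Prime]

/-- data for the geometric step -/
structure StepData (p : ℕ) (H : Subgroup P) (z x y d : P) (W : AddSubgroup V) : Prop where
  hz : orderOf z = p
  hzc : ∀ g : P, g * z = z * g
  hx : x ^ p = 1
  hd : d ∈ zpowers z
  hd1 : d ≠ 1
  hconj : y * x * y⁻¹ = x * d
  hxH : x ∈ H
  hyH : y ∈ H
  hzH : z ∈ H
  hW : ∀ h ∈ H, ∀ v ∈ W, h • v ∈ W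
  hfpf : ∀ v ∈ W, z • v = v → v = 0

namespace StepData

variable {H : Subgroup P} {z x y d : P} {W : AddSubgroup V} (D : StepData p H z x y d W)
include D

omit hp in
theorem central_of_mem {t : P} (ht : t ∈ zpowers z) (g : P) : g * t = t * g := by
  have h1 : zpowers z ≤ centralizer {g} := by
    rw [zpowers_le, mem_centralizer_singleton_iff]
    exact (D.hzc g).symm
  exact (mem_centralizer_singleton_iff.1 (h1 ht)).symm

omit hp in
theorem d_central (g : P) : g * d = d * g := D.central_of_mem D.hd g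

omit hp in
theorem d_pow_central (j : ℕ) (g : P) : g * d ^ j = d ^ j * g :=
  D.central_of_mem (pow_mem D.hd j) g

theorem orderOf_d : orderOf d = p := by
  have h1 : orderOf d ∣ p := by
    have := Subgroup.orderOf_dvd_natCard (zpowers z) D.hd
    rwa [Nat.card_zpowers, D.hz] at this
  rcases (Nat.dvd_prime hp.out).1 h1 with h | h
  · exact absurd (orderOf_eq_one_iff.1 h) D.hd1
  · exact h

omit hp in
theorem conj_pow (j : ℕ) : y ^ j * x * (y ^ j)⁻¹ = x * d ^ j := by
  induction j with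
  | zero => simp
  | succ j ih =>
    calc y ^ (j + 1) * x * (y ^ (j + 1))⁻¹ = y * (y ^ j * x * (y ^ j)⁻¹) * y⁻¹ := by
          rw [pow_succ']; group
      _ = y * (x * d ^ j) * y⁻¹ := by rw [ih]
      _ = (y * x * y⁻¹) * (y * d ^ j * y⁻¹) := by group
      _ = x * d * d ^ j := by rw [D.hconj, D.d_pow_central j y, mul_inv_cancel_right]
      _ = x * d ^ (j + 1) := by rw [pow_succ', mul_assoc]

theorem xd_pow (j : ℕ) : (x * d ^ j) ^ p = 1 := by
  have hc : Commute x (d ^ j) := D.d_pow_central j x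
  rw [hc.mul_pow, D.hx, one_mul, ← pow_mul, mul_comm, pow_mul]
  have : d ^ p = 1 := by rw [← D.orderOf_d]; exact pow_orderOf_eq_one d
  rw [this, one_pow]

omit hp in
theorem dH : d ∈ H := (zpowers_le.2 D.hzH) D.hd

omit hp in
theorem xdH (j : ℕ) : x * d ^ j ∈ H := H.mul_mem D.hxH (H.pow_mem D.dH j)

omit hp in
/-- `y ^ j` carries the fixed points of `x` to those of `x d ^ j` -/
theorem smul_fixed (j : ℕ) {a : V} (ha : x • a = a) : (x * d ^ j) • (y ^ j) • a = (y ^ j) • a := by
  rw [← D.conj_pow j, smul_smul, inv_mul_cancel_right, mul_smul, ha]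

theorem cross_zero {j l : ℕ} (hj : j < p) (hl : l < p) (hjl : j ≠ l) {u : V} (hu : u ∈ W)
    (hfix : (x * d ^ j) • u = u) : pn p (x * d ^ l) u = 0 := by
  set s := pn p (x * d ^ l) u with hs
  have hsW : s ∈ W := pn_mem W p _ (D.hW _ (D.xdH l)) hu
  have h1 : (x * d ^ l) • s = s := smul_pn p _ (D.xd_pow l) u
  have hcomm : Commute (x * d ^ j) (x * d ^ l) := by
    have e1 : Commute x (d ^ l) := D.d_pow_central l x
    have e2 : Commute x (d ^ j) := D.d_pow_central j x
    have e3 : Commute (d ^ j) (d ^ l) := (Commute.refl d).pow_pow j l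
    exact Commute.mul_left (Commute.mul_right (Commute.refl x) e1) (Commute.mul_right e2.symm e3)
  have h2 : (x * d ^ j) • s = s := by
    rw [hs, smul_pn_of_commute p _ _ hcomm, hfix]
  have h3 : ((d ^ j)⁻¹ * d ^ l) • s = s := by
    have e : (d ^ j)⁻¹ * d ^ l = (x * d ^ j)⁻¹ * (x * d ^ l) := by group
    rw [e, mul_smul, h1]
    exact inv_smul_eq_iff.2 h2.symm
  refine fpf_of_mem D.hz W D.hfpf (t := (d ^ j)⁻¹ * d ^ l) ?_ ?_ s hsW h3
  · exact mul_mem (inv_mem (pow_mem D.hd j)) (pow_mem D.hd l)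
  · intro h
    have h4 : d ^ l = d ^ j := by
      rw [inv_mul_eq_one] at h; exact h.symm
    apply hjl
    have hl' : l ∈ Set.Iio (orderOf d) := by rw [D.orderOf_d]; exact hl
    have hj' : j ∈ Set.Iio (orderOf d) := by rw [D.orderOf_d]; exact hj
    exact (pow_injOn_Iio_orderOf hl' hj' h4).symm

/-- the fixed points of `x` in `W` are nonzero -/
theorem fixIn_ne_bot (hpr : p ≠ r) (hV : ∀ v : V, r • v = 0) (hWne : W ≠ ⊥) : fixIn W x ≠ ⊥ := by
  intro hbot
  apply hWne
  rw [AddSubgroup.eq_bot_iff_forall]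
  intro v hv
  have hkey := pn_key x d (D.d_central x) p v
  have hL : ∑ j ∈ range p, pn p (x * d ^ j) v = 0 := by
    refine Finset.sum_eq_zero (fun j _ => ?_)
    set s := pn p (x * d ^ j) v with hs
    have hsW : s ∈ W := pn_mem W p _ (D.hW _ (D.xdH j)) hv
    have h1 : (x * d ^ j) • s = s := smul_pn p _ (D.xd_pow j) v
    have h2 : (y ^ j)⁻¹ • s ∈ fixIn W x := by
      refine ⟨D.hW _ (H.inv_mem (H.pow_mem D.hyH j)) _ hsW, ?_⟩
      have e : x * (y ^ j)⁻¹ = (y ^ j)⁻¹ * (y ^ j * x * (y ^ j)⁻¹) := by group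
      rw [smul_smul, e, D.conj_pow j, mul_smul, h1]
    rw [hbot, AddSubgroup.mem_bot] at h2
    have := congrArg (fun t => (y ^ j) • t) h2
    simpa using this
  have hR : ∑ i ∈ range p, (x ^ i) • pn p (d ^ i) v = p • v := by
    rw [Finset.sum_eq_single 0]
    · rw [pow_zero, pow_zero, one_smul]
      exact pn_of_fixed p 1 v (one_smul _ _)
    · intro i hi hi0
      have h1 : pn p (d ^ i) v = 0 := by
        refine fpf_of_mem D.hz W D.hfpf (t := d ^ i) (pow_mem D.hd i) ?_ _
          (pn_mem W p _ (D.hW _ (H.pow_mem D.dH i)) hv) (smul_pn p _ ?_ v)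
        · intro h
          have h2 := orderOf_dvd_of_pow_eq_one h
          rw [D.orderOf_d] at h2
          exact absurd (Nat.le_of_dvd (Nat.pos_of_ne_zero hi0) h2) (not_le.2 (Finset.mem_range.1 hi))
        · rw [← pow_mul, mul_comm, pow_mul, ← D.orderOf_d, pow_orderOf_eq_one, one_pow]
      rw [h1, smul_zero]
    · intro h
      exact absurd (Finset.mem_range.2 hp.out.pos) h
  rw [hL, hR] at hkey
  exact eq_zero_of_coprime_nsmul ((Nat.coprime_primes hp.out hr.out).2 hpr) (hV v) hkey.symm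

/-- `|W| ≥ |C_W(x)| ^ p` -/
theorem card_fixIn_pow_le [Finite V] (hpr : p ≠ r) (hV : ∀ v : V, r • v = 0) :
    Nat.card (fixIn W x) ^ p ≤ Nat.card W := by
  have hmem : ∀ a : Fin p → fixIn W x, ∑ j : Fin p, (y ^ (j : ℕ)) • ((a j : V)) ∈ W := by
    intro a
    exact W.sum_mem (fun j _ => D.hW _ (H.pow_mem D.hyH _) _ (a j).2.1)
  let f : (Fin p → fixIn W x) → W := fun a => ⟨_, hmem a⟩
  have hproj : ∀ (a : Fin p → fixIn W x) (l : Fin p),
      pn p (x * d ^ (l : ℕ)) (∑ j : Fin p, (y ^ (j : ℕ)) • ((a j : V))) = p • (y ^ (l : ℕ)) • (a l : V) := by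
    intro a l
    rw [pn_sum, Finset.sum_eq_single l]
    · exact pn_of_fixed p _ _ (D.smul_fixed l (a l).2.2)
    · intro j _ hjl
      exact D.cross_zero j.2 l.2 (fun h => hjl (Fin.ext h))
        (D.hW _ (H.pow_mem D.hyH _) _ (a j).2.1) (D.smul_fixed j (a j).2.2)
    · intro h; exact absurd (Finset.mem_univ l) h
  have hinj : Function.Injective f := by
    intro a b hab
    have hab' : ∑ j : Fin p, (y ^ (j : ℕ)) • ((a j : V)) = ∑ j : Fin p, (y ^ (j : ℕ)) • ((b j : V)) :=
      congrArg Subtype.val hab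
    funext l
    have h1 := hproj a l
    rw [hab', hproj b l] at h1
    have h2 : p • ((y ^ (l : ℕ)) • (b l : V) - (y ^ (l : ℕ)) • (a l : V)) = 0 := by
      rw [smul_sub, h1, sub_self]
    have h3 := eq_zero_of_coprime_nsmul ((Nat.coprime_primes hp.out hr.out).2 hpr) (hV _) h2
    have h4 : (y ^ (l : ℕ)) • (b l : V) = (y ^ (l : ℕ)) • (a l : V) := sub_eq_zero.1 h3
    exact Subtype.ext (smul_left_cancel _ h4).symm
  have := Nat.card_le_card_of_injective f hinj
  rwa [Nat.card_fun, Nat.card_fin] at this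

end StepData

end

end Cfsg.Agent.Lib.Helper38
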