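import Mathlib
import Cfsg.Agent.Lib.Helper63.ClassTwo
import Cfsg.Agent.S3977
import Cfsg.Agent.Lib.Helper38.ESModuleA

/-!
Group-theoretic lemmas on class-two groups with commutators in `⟨z⟩`, `z` of prime order.
-/

set_option autoImplicit false

namespace Cfsg.Agent.Lib.Helper38

open Subgroup Cfsg.Agent.Lib.Helper63
open scoped commutatorElement

section
variable {P : Type*} [Group P] [Finite P] {p : ℕ} [hp : Fact p.Prime]

omit hp [Finite P] in
theorem exists_noncomm (H : Subgroup P)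
    (h : Nat.card ↥(H ⊓ centralizer (H : Set P)) < Nat.card H) :
    ∃ a ∈ H, ∃ b ∈ H, a * b ≠ b * a := by
  by_contra hcon
  push Not at hcon
  have : H ⊓ centralizer (H : Set P) = H := by
    apply inf_eq_left.mpr
    intro x hx
    rw [mem_centralizer_iff]
    intro y hy
    exact hcon y hy x hx
  rw [this] at h
  exact lt_irrefl _ h

/-- the centre of `C_H(x)` is at most `p` times as large as the centre of `H` -/
theorem card_center_centralizer_le {z : P} (hz : orderOf z = p) (hZ : CentralComm (zpowers z))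
    (H : Subgroup P) {x y : P} (hy : y ∈ H) (hxy : y * x ≠ x * y) :
    Nat.card ↥((H ⊓ centralizer {x}) ⊓ centralizer ((H ⊓ centralizer {x} : Subgroup P) : Set P))
      ≤ p * Nat.card ↥(H ⊓ centralizer (H : Set P)) := by
  have hcard : Nat.card (zpowers z) = p := by rw [Nat.card_zpowers, hz]
  set C := H ⊓ centralizer {x} with hC
  set ZC := C ⊓ centralizer (C : Set P) with hZC
  have h1 : Nat.card ZC ≤ p * Nat.card ↥(ZC ⊓ centralizer {y}) := by
    by_cases hex : ∃ g ∈ ZC, g * y ≠ y * g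
    · exact (card_eq_prime_mul_card_centralizer hZ hcard ZC y hex).le
    · push Not at hex
      have : ZC ⊓ centralizer {y} = ZC := by
        apply inf_eq_left.mpr
        intro g hg
        rw [mem_centralizer_singleton_iff]
        exact hex g hg
      rw [this]
      exact Nat.le_mul_of_pos_left _ hp.out.pos
  refine h1.trans (Nat.mul_le_mul_left p (Subgroup.card_le_of_le ?_))
  intro t ht
  obtain ⟨htZC, hty⟩ := mem_inf.1 ht
  obtain ⟨htC, htc⟩ := mem_inf.1 htZC
  refine mem_inf.2 ⟨(mem_inf.1 htC).1, ?_⟩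
  rw [mem_centralizer_iff]
  intro h hh
  set ζ := commHom hZ x y with hζ
  have hζ1 : ζ ≠ 1 := fun e => hxy ((commHom_eq_one_iff hZ x y).mp e)
  have htop : zpowers ζ = ⊤ := zpowers_eq_top_of_prime_card hcard hζ1
  obtain ⟨a, ha⟩ : commHom hZ x h ∈ zpowers ζ := htop ▸ mem_top _
  have ha' : ζ ^ a = commHom hZ x h := ha
  set c := h * y ^ (-a) with hc
  have hcC : c ∈ C := by
    refine mem_inf.2 ⟨H.mul_mem hh (H.zpow_mem hy _), ?_⟩
    rw [mem_centralizer_singleton_iff, ← commHom_eq_one_iff hZ x c, hc, map_mul, map_zpow, ← hζ, ← ha']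
    simp
  have h2 : c * t = t * c := (mem_centralizer_iff.1 htc) c hcC
  have h3 : t * y = y * t := mem_centralizer_singleton_iff.1 hty
  have h4 : h = c * y ^ a := by rw [hc]; group
  have h5 : Commute t (y ^ a) := Commute.zpow_right h3 a
  rw [h4, mul_assoc, ← h5.eq, ← mul_assoc, h2, mul_assoc]

omit hp [Finite P] in
theorem pow_eq_one_of_mem_zpowers {z t : P} (hz : orderOf z = p) (ht : t ∈ zpowers z) : t ^ p = 1 := by
  obtain ⟨k, rfl⟩ := ht
  rw [← zpow_natCast, ← zpow_mul, mul_comm, zpow_mul, zpow_natCast, ← hz, pow_orderOf_eq_one, one_zpow]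

omit [Finite P] in
/-- noncentral element of order dividing `p`, `p` odd -/
theorem exists_noncentral_pow_eq_one_odd (hp2 : p ≠ 2) {z : P} (hz : orderOf z = p)
    (hZ : CentralComm (zpowers z)) (hpow : ∀ a : P, a ^ p ∈ zpowers z) (H : Subgroup P) {a b : P}
    (ha : a ∈ H) (hb : b ∈ H) (hab : a * b ≠ b * a) :
    ∃ x ∈ H, ∃ y ∈ H, x ^ p = 1 ∧ y * x ≠ x * y := by
  by_cases hb1 : b ^ p = 1
  · exact ⟨b, hb, a, ha, hb1, hab⟩
  have hcard : Nat.card (zpowers z) = p := by rw [Nat.card_zpowers, hz]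
  have h1 : zpowers (⟨b ^ p, hpow b⟩ : zpowers z) = ⊤ :=
    zpowers_eq_top_of_prime_card hcard (fun h => hb1 (congrArg Subtype.val h))
  obtain ⟨k, hk⟩ : (⟨a ^ p, hpow a⟩ : zpowers z)⁻¹ ∈ zpowers (⟨b ^ p, hpow b⟩ : zpowers z) :=
    h1 ▸ mem_top _
  have hk' : (b ^ p) ^ k = (a ^ p)⁻¹ := congrArg Subtype.val hk
  refine ⟨a * b ^ k, H.mul_mem ha (H.zpow_mem hb k), b, hb, ?_, ?_⟩
  · have hmem : ⁅b ^ k, a⁆ ∈ zpowers z := by rw [commutatorElement_def]; exact hZ.comm _ _
    have hcen : ⁅b ^ k, a⁆ ∈ center P := hZ.central hmem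
    rw [Cfsg.Agent.S3977.mul_pow_of_central a (b ^ k) hcen p]
    have h2 : ⁅b ^ k, a⁆ ^ p = 1 := pow_eq_one_of_mem_zpowers hz hmem
    have hlt : 2 < p := lt_of_le_of_ne hp.out.two_le (Ne.symm hp2)
    obtain ⟨c, hc⟩ := hp.out.dvd_choose_self (k := 2) two_ne_zero hlt
    rw [hc, pow_mul, h2, one_pow, mul_one]
    rw [← zpow_natCast (b ^ k) p, ← zpow_mul, mul_comm, zpow_mul, zpow_natCast, hk', mul_inv_cancel]
  · intro h
    apply hab
    have hbk : Commute b (b ^ k) := (Commute.refl b).zpow_right k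
    have : b * a * b ^ k = a * b * b ^ k := by
      rw [mul_assoc, h, mul_assoc, mul_assoc, hbk.eq]
    exact (mul_right_cancel this).symm

/-- noncentral involution when `|H : Z(H)| ≥ 16` -/
theorem exists_noncentral_sq_eq_one {z : P} (hz : orderOf z = 2) (hZ : CentralComm (zpowers z))
    (hpow : ∀ a : P, a ^ 2 ∈ zpowers z) (H : Subgroup P)
    (hbig : 2 ^ 4 * Nat.card ↥(H ⊓ centralizer (H : Set P)) ≤ Nat.card H) :
    ∃ x ∈ H, ∃ y ∈ H, x ^ 2 = 1 ∧ y * x ≠ x * y := by
  have hcard : Nat.card (zpowers z) = 2 := by rw [Nat.card_zpowers, hz]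
  have hpos : 0 < Nat.card ↥(H ⊓ centralizer (H : Set P)) := Nat.card_pos
  obtain ⟨a, ha, b, hb, hab⟩ := exists_noncomm H (by omega)
  set C1 := H ⊓ centralizer {a} with hC1
  set C2 := C1 ⊓ centralizer {b} with hC2
  have c1 : Nat.card H = 2 * Nat.card C1 :=
    card_eq_prime_mul_card_centralizer hZ hcard H a ⟨b, hb, fun h => hab h.symm⟩
  have haC1 : a ∈ C1 := mem_inf.2 ⟨ha, mem_centralizer_singleton_iff.2 rfl⟩
  have c2 : Nat.card C1 = 2 * Nat.card C2 :=
    card_eq_prime_mul_card_centralizer hZ hcard C1 b ⟨a, haC1, hab⟩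
  have hnot : ¬ C2 ≤ H ⊓ centralizer (H : Set P) := by
    intro hle
    have := Subgroup.card_le_of_le hle
    omega
  obtain ⟨c, hcC2, hcZ⟩ := SetLike.not_le_iff_exists.1 hnot
  obtain ⟨hcC1, hcb'⟩ := mem_inf.1 hcC2
  obtain ⟨hcH, hca'⟩ := mem_inf.1 hcC1
  have hca : c * a = a * c := mem_centralizer_singleton_iff.1 hca'
  have hcb : c * b = b * c := mem_centralizer_singleton_iff.1 hcb'
  have hex : ∃ e ∈ H, e * c ≠ c * e := by
    by_contra hcon
    push Not at hcon
    exact hcZ (mem_inf.2 ⟨hcH, mem_centralizer_iff.2 (fun e he => hcon e he)⟩)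
  obtain ⟨e, he, hec⟩ := hex
  by_cases ha2 : a ^ 2 = 1
  · exact ⟨a, ha, b, hb, ha2, fun h => hab h.symm⟩
  by_cases hc2 : c ^ 2 = 1
  · exact ⟨c, hcH, e, he, hc2, hec⟩
  have hzz : z ^ 2 = 1 := by rw [← hz]; exact pow_orderOf_eq_one z
  have hz2 : ∀ t ∈ zpowers z, t ≠ 1 → t = z := by
    rintro t ⟨k, rfl⟩ ht
    rcases Int.even_or_odd' k with ⟨m, rfl | rfl⟩
    · exfalso; apply ht
      show z ^ (2 * m) = 1
      rw [zpow_mul, zpow_ofNat, hzz, one_zpow]
    · show z ^ (2 * m + 1) = z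
      rw [zpow_add, zpow_mul, zpow_ofNat, hzz, one_zpow, one_mul, zpow_one]
  refine ⟨a * c, H.mul_mem ha hcH, b, hb, ?_, ?_⟩
  · have hcomm : Commute a c := hca.symm
    rw [hcomm.mul_pow, hz2 _ (hpow a) ha2, hz2 _ (hpow c) hc2, ← pow_two, hzz]
  · intro h
    apply hab
    have : a * b * c = b * a * c := by rw [mul_assoc, ← hcb, ← mul_assoc, ← h, mul_assoc]
    exact mul_right_cancel this

end

section
variable {P V : Type*} [Group P] [Finite P] [AddCommGroup V] [DistribMulAction P V]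
  {p r : ℕ} [hp : Fact p.Prime] [hr : Fact r.Prime]

omit [Finite P] in
/-- a group of prime order admits no noncommuting automorphisms -/
theorem card_ne_prime_of_noncomm {z : P} (hz : orderOf z = p) (hZ : CentralComm (zpowers z))
    (H : Subgroup P) (W : AddSubgroup V) (hW : ∀ h ∈ H, ∀ v ∈ W, h • v ∈ W)
    (hfpf : ∀ v ∈ W, z • v = v → v = 0) {a b : P} (ha : a ∈ H) (hb : b ∈ H) (hab : a * b ≠ b * a) :
    Nat.card W ≠ r := by
  intro hcard
  have hne : W ≠ ⊥ := by
    rintro rfl
    rw [AddSubgroup.card_bot] at hcard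
    exact hr.out.one_lt.ne hcard
  have hex : ∃ v : V, v ∈ W ∧ v ≠ 0 := by
    by_contra hcon
    push Not at hcon
    exact hne ((AddSubgroup.eq_bot_iff_forall W).2 hcon)
  obtain ⟨v, hv, hv0⟩ := hex
  have hgen : ∀ u ∈ W, ∃ k : ℤ, k • v = u := by
    intro u hu
    have h1 : AddSubgroup.zmultiples (⟨v, hv⟩ : W) = ⊤ :=
      zmultiples_eq_top_of_prime_card hcard (fun e => hv0 (congrArg Subtype.val e))
    obtain ⟨k, hk⟩ : (⟨u, hu⟩ : W) ∈ AddSubgroup.zmultiples (⟨v, hv⟩ : W) := h1 ▸ AddSubgroup.mem_top _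
    exact ⟨k, congrArg Subtype.val hk⟩
  obtain ⟨k, hk⟩ := hgen (a • v) (hW a ha v hv)
  obtain ⟨l, hl⟩ := hgen (b • v) (hW b hb v hv)
  have h1 : a • b • v = b • a • v := by
    rw [← hk, ← hl, smul_comm a l v, smul_comm b k v, ← hk, ← hl, smul_comm]
  have h2 : (a * b * a⁻¹ * b⁻¹) • (b • a • v) = b • a • v := by
    rw [smul_smul, smul_smul]
    have e : a * b * a⁻¹ * b⁻¹ * b * a = a * b := by group
    rw [e, mul_smul, h1]
  have h3 := fpf_of_mem hz W hfpf (hZ.comm a b) (fun e => hab (by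
    have e1 : a * b * a⁻¹ = b := mul_inv_eq_one.1 e
    exact mul_inv_eq_iff_eq_mul.1 e1)) _ (hW b hb _ (hW a ha v hv)) h2
  apply hv0
  have := congrArg (fun t => a⁻¹ • b⁻¹ • t) h3
  simpa using this

/-- the restricted action -/
@[instance_reducible] def subAct (H : Subgroup P) (W : AddSubgroup V) (hW : ∀ h ∈ H, ∀ v ∈ W, h • v ∈ W) :
    MulAction ↥H ↥W where
  smul h v := ⟨(h : P) • (v : V), hW h h.2 v v.2⟩
  one_smul v := Subtype.ext (one_smul _ _)
  mul_smul a b v := Subtype.ext (mul_smul _ _ _)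

omit [Finite P] in
theorem base_bound [Finite V] {z : P} (hz : orderOf z = p) (hV : ∀ v : V, r • v = 0)
    (W : AddSubgroup V) (hW : ∀ h ∈ zpowers z, ∀ v ∈ W, h • v ∈ W)
    (hfpf : ∀ v ∈ W, z • v = v → v = 0) (hWne : W ≠ ⊥) :
    ∃ m, 1 ≤ m ∧ Nat.card W = r ^ m ∧ p ∣ r ^ m - 1 := by
  have hWp : IsPGroup r (Multiplicative W) := fun e => ⟨1, by
    rw [pow_one]
    exact congrArg Multiplicative.ofAdd (Subtype.ext (hV (e.toAdd : V)))⟩
  obtain ⟨m, hm⟩ := IsPGroup.iff_card.1 hWp
  have hm' : Nat.card W = r ^ m := hm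
  refine ⟨m, ?_, hm', ?_⟩
  · by_contra h0
    have : m = 0 := by omega
    subst this
    rw [pow_zero] at hm'
    exact hWne (AddSubgroup.eq_bot_of_card_eq W hm')
  · let _ : MulAction ↥(zpowers z) ↥W := subAct (zpowers z) W hW
    have hZp : IsPGroup p (zpowers z) := IsPGroup.of_card (n := 1) (by rw [Nat.card_zpowers, hz, pow_one])
    have h1 := hZp.card_modEq_card_fixedPoints ↥W
    have h2 : MulAction.fixedPoints (zpowers z) ↥W = {0} := by
      ext v
      simp only [MulAction.mem_fixedPoints, Set.mem_singleton_iff]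
      constructor
      · intro h
        have h3 := h ⟨z, mem_zpowers z⟩
        have h4 : z • (v : V) = v := congrArg Subtype.val h3
        exact Subtype.ext (hfpf v v.2 h4)
      · rintro rfl g
        exact Subtype.ext (smul_zero (g : P))
    rw [h2, hm'] at h1
    have h3 : Nat.card ({0} : Set ↥W) = 1 := by simp
    rw [h3] at h1
    exact (Nat.modEq_iff_dvd' (Nat.one_le_pow _ _ hr.out.pos)).1 h1.symm

/-- the main bound -/
theorem es_bound [Finite V] (hpr : p ≠ r) {z : P} (hz : orderOf z = p) (hZ : CentralComm (zpowers z))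
    (hpow : ∀ a : P, a ^ p ∈ zpowers z) (hV : ∀ v : V, r • v = 0) (n : ℕ)
    (hmin : ∀ k : ℕ, 1 ≤ k → p ∣ r ^ k - 1 → n ≤ k) :
    ∀ (w : ℕ) (H : Subgroup P) (W : AddSubgroup V), z ∈ H → (∀ h ∈ H, ∀ v ∈ W, h • v ∈ W) →
      (∀ v ∈ W, z • v = v → v = 0) → W ≠ ⊥ →
      p ^ (2 * w) * Nat.card ↥(H ⊓ centralizer (H : Set P)) ≤ Nat.card H →
      r ^ (n * p ^ w) ≤ Nat.card W := by
  have hcard : Nat.card (zpowers z) = p := by rw [Nat.card_zpowers, hz]
  intro w
  induction w with
  | zero =>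
    intro H W hzH hW hfpf hWne _
    obtain ⟨m, hm1, hm, hdvd⟩ := base_bound (r := r) hz hV W
      (fun h hh => hW h (zpowers_le.2 hzH hh)) hfpf hWne
    rw [pow_zero, mul_one, hm]
    exact Nat.pow_le_pow_right hr.out.pos (hmin m hm1 hdvd)
  | succ w ih =>
    intro H W hzH hW hfpf hWne hbig
    have hpos : 0 < Nat.card ↥(H ⊓ centralizer (H : Set P)) := Nat.card_pos
    have hlt : Nat.card ↥(H ⊓ centralizer (H : Set P)) < Nat.card H :=
      lt_of_lt_of_le (lt_mul_of_one_lt_left hpos (Nat.one_lt_pow (by omega) hp.out.one_lt)) hbig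
    obtain ⟨a, ha, b, hb, hab⟩ := exists_noncomm H hlt
    by_cases hcase : p = 2 ∧ w = 0
    · obtain ⟨hp2, rfl⟩ := hcase
      obtain ⟨m, hm1, hm, hdvd⟩ := base_bound (r := r) hz hV W
        (fun h hh => hW h (zpowers_le.2 hzH hh)) hfpf hWne
      have hne := card_ne_prime_of_noncomm (r := r) hz hZ H W hW hfpf ha hb hab
      have hm2 : 2 ≤ m := by
        by_contra hcon
        have : m = 1 := by omega
        subst this
        rw [pow_one] at hm
        exact hne hm
      have hn1 : n ≤ 1 := by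
        apply hmin 1 le_rfl
        rw [pow_one, hp2]
        have hodd : Odd r := hr.out.odd_of_ne_two (fun e => hpr (hp2.trans e.symm))
        obtain ⟨c, hc⟩ := hodd
        exact ⟨c, by omega⟩
      rw [hm, hp2]
      apply Nat.pow_le_pow_right hr.out.pos
      calc n * 2 ^ (0 + 1) ≤ 1 * 2 ^ (0 + 1) := Nat.mul_le_mul_right _ hn1
        _ ≤ m := by simpa using hm2
    · have hex : ∃ x ∈ H, ∃ y ∈ H, x ^ p = 1 ∧ y * x ≠ x * y := by
        by_cases hp2 : p = 2
        · subst hp2
          have hw : 1 ≤ w := by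
            by_contra hcon
            exact hcase ⟨rfl, by omega⟩
          apply exists_noncentral_sq_eq_one hz hZ hpow H
          calc 2 ^ 4 * Nat.card ↥(H ⊓ centralizer (H : Set P))
              ≤ 2 ^ (2 * (w + 1)) * Nat.card ↥(H ⊓ centralizer (H : Set P)) :=
                Nat.mul_le_mul_right _ (Nat.pow_le_pow_right (by norm_num) (by omega))
            _ ≤ _ := hbig
        · exact exists_noncentral_pow_eq_one_odd hp2 hz hZ hpow H ha hb hab
      obtain ⟨x, hx, y, hy, hxp, hyx⟩ := hex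
      have D : StepData p H z x y (x⁻¹ * (y * x * y⁻¹)) W :=
        { hz := hz
          hzc := fun g => mem_center_iff.1 (hZ.central (mem_zpowers z)) g
          hx := hxp
          hd := by
            have := hZ.comm x⁻¹ y
            rw [inv_inv] at this
            have e : x⁻¹ * (y * x * y⁻¹) = x⁻¹ * y * x * y⁻¹ := by group
            rw [e]; exact this
          hd1 := by
            intro e
            apply hyx
            have e1 : y * x * y⁻¹ = x := by
              rw [inv_mul_eq_one] at e; exact e.symm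
            exact mul_inv_eq_iff_eq_mul.1 e1
          hconj := by group
          hxH := hx
          hyH := hy
          hzH := hzH
          hW := hW
          hfpf := hfpf }
      have h1 := D.fixIn_ne_bot hpr hV hWne
      have h2 := D.card_fixIn_pow_le hpr hV
      have hHC : Nat.card H = p * Nat.card ↥(H ⊓ centralizer {x}) :=
        card_eq_prime_mul_card_centralizer hZ hcard H x ⟨y, hy, hyx⟩
      have hZC := card_center_centralizer_le hz hZ H hy hyx
      have h3 := ih (H ⊓ centralizer {x}) (fixIn W x)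
        (mem_inf.2 ⟨hzH, mem_centralizer_singleton_iff.2
          (mem_center_iff.1 (hZ.central (mem_zpowers z)) x).symm⟩)
        (by
          intro c hc v hv
          obtain ⟨hcH, hcx⟩ := mem_inf.1 hc
          refine ⟨hW c hcH v hv.1, ?_⟩
          rw [smul_smul, ← mem_centralizer_singleton_iff.1 hcx, mul_smul, hv.2])
        (fun v hv => hfpf v hv.1) h1
        (by
          apply Nat.le_of_mul_le_mul_left _ hp.out.pos
          rw [← hHC]
          refine le_trans ?_ hbig
          calc p * (p ^ (2 * w) * Nat.card ↥((H ⊓ centralizer {x}) ⊓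
                  centralizer ((H ⊓ centralizer {x} : Subgroup P) : Set P)))
              ≤ p * (p ^ (2 * w) * (p * Nat.card ↥(H ⊓ centralizer (H : Set P)))) :=
                Nat.mul_le_mul_left _ (Nat.mul_le_mul_left _ hZC)
            _ = p ^ (2 * (w + 1)) * Nat.card ↥(H ⊓ centralizer (H : Set P)) := by ring)
      calc r ^ (n * p ^ (w + 1)) = (r ^ (n * p ^ w)) ^ p := by rw [← pow_mul, pow_succ, mul_assoc]
        _ ≤ (Nat.card (fixIn W x)) ^ p := Nat.pow_le_pow_left h3 p
        _ ≤ _ := h2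

end

end Cfsg.Agent.Lib.Helper38
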