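import Mathlib
import Cfsg.Agent.Lib.Helper38.ESModuleB
import Cfsg.Agent.Lib.Helper90.Extraspecial

/-!
Lower bound for the order of a faithful module of an extraspecial group (coprime characteristic).
-/

set_option autoImplicit false

namespace Cfsg.Agent.Lib.Helper38

open Subgroup Cfsg.Agent.Lib.Helper63
open scoped IsMulCommutative

section
variable {G : Type*} [Group G] (E A : Subgroup G) [IsMulCommutative A]

/-- conjugation action of `E ≤ N(A)` on the abelian group `A`, written additively -/
@[instance_reducible] def conjDistrib (h : E ≤ normalizer (A : Set G)) :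
    DistribMulAction ↥E (Additive ↥A) where
  smul e a := Additive.ofMul ⟨(e : G) * (a.toMul : G) * (e : G)⁻¹,
    (mem_normalizer_iff.1 (h e.2) _).1 a.toMul.2⟩
  one_smul a := by
    apply Additive.toMul.injective
    apply Subtype.ext
    show ((1 : E) : G) * (a.toMul : G) * ((1 : E) : G)⁻¹ = (a.toMul : G)
    simp
  mul_smul e f a := by
    apply Additive.toMul.injective
    apply Subtype.ext
    show ((e * f : E) : G) * (a.toMul : G) * ((e * f : E) : G)⁻¹
      = (e : G) * ((f : G) * (a.toMul : G) * (f : G)⁻¹) * (e : G)⁻¹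
    rw [Subgroup.coe_mul]; group
  smul_zero e := by
    apply Additive.toMul.injective
    apply Subtype.ext
    show (e : G) * ((1 : A) : G) * (e : G)⁻¹ = ((1 : A) : G)
    simp
  smul_add e a b := by
    apply Additive.toMul.injective
    apply Subtype.ext
    show (e : G) * ((a.toMul * b.toMul : A) : G) * (e : G)⁻¹
      = ((e : G) * (a.toMul : G) * (e : G)⁻¹) * ((e : G) * (b.toMul : G) * (e : G)⁻¹)
    rw [Subgroup.coe_mul]; group

end

theorem es_module_bound {G : Type*} [Group G] [Finite G] {p r : ℕ} [hp : Fact p.Prime]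
    [hr : Fact r.Prime] (hpr : p ≠ r) (E A : Subgroup G) (w : ℕ) (hE : Cfsg.IsExtraspecial p ↥E)
    (hEcard : Nat.card ↥E = p ^ (2 * w + 1)) (hA : Cfsg.IsElementaryAbelian r A)
    (hnorm : E ≤ Subgroup.normalizer (A : Set G)) (hfaith : E ⊓ Subgroup.centralizer (A : Set G) = ⊥)
    (n : ℕ) (hmin : ∀ k : ℕ, 1 ≤ k → p ∣ r ^ k - 1 → n ≤ k) : r ^ (n * p ^ w) ≤ Nat.card ↥A := by
  have hAc : IsMulCommutative A := hA.1
  let _ : DistribMulAction ↥E (Additive ↥A) := conjDistrib E A hnorm
  have hsmul : ∀ (e : E) (a : Additive ↥A), ((e • a).toMul : G) = (e : G) * (a.toMul : G) * (e : G)⁻¹ :=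
    fun _ _ => rfl
  have hcen : Nat.card (center ↥E) = p := hE.2
  obtain ⟨z, hzc, hz1⟩ : ∃ z ∈ center ↥E, z ≠ 1 := by
    by_contra hcon
    push Not at hcon
    have : center ↥E = ⊥ := (Subgroup.eq_bot_iff_forall _).2 hcon
    rw [this, Subgroup.card_bot] at hcen
    exact hp.out.one_lt.ne hcen
  have hz : orderOf z = p := by
    have h1 := Subgroup.orderOf_dvd_natCard (center ↥E) hzc
    rw [hcen] at h1
    rcases (Nat.dvd_prime hp.out).1 h1 with h | h
    · exact absurd (orderOf_eq_one_iff.1 h) hz1
    · exact h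
  have hzp : zpowers z = center ↥E := by
    apply Subgroup.eq_of_le_of_card_ge (zpowers_le.2 hzc)
    rw [hcen, Nat.card_zpowers, hz]
  have hZ : CentralComm (zpowers z) := hzp ▸ centralComm_of_isExtraspecial hE
  have hpow : ∀ a : ↥E, a ^ p ∈ zpowers z := by
    intro a
    rw [hzp, ← hE.1.2.1]
    exact Cfsg.Agent.Lib.Helper90.pow_mem_frattini hE.1.1 a
  have hV : ∀ v : Additive ↥A, r • v = 0 := by
    intro v
    apply Additive.toMul.injective
    apply Subtype.ext
    show ((v.toMul ^ r : A) : G) = 1
    rw [Subgroup.coe_pow]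
    exact hA.2 _ v.toMul.2
  have hzcomm : ∀ g : ↥E, Commute g z := fun g => mem_center_iff.1 hzc g
  have hzpow : z ^ p = 1 := by rw [← hz]; exact pow_orderOf_eq_one z
  let W : AddSubgroup (Additive ↥A) :=
    { carrier := {v | pn p z v = 0}
      zero_mem' := pn_zero p z
      add_mem' := fun {a b} ha hb => by
        show pn p z (a + b) = 0
        rw [pn_add, show pn p z a = 0 from ha, show pn p z b = 0 from hb, add_zero]
      neg_mem' := fun {a} ha => by
        show pn p z (-a) = 0
        rw [pn_neg, show pn p z a = 0 from ha, neg_zero] }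
  have hWmem : ∀ v, v ∈ W ↔ pn p z v = 0 := fun _ => Iff.rfl
  have hcop : p.Coprime r := (Nat.coprime_primes hp.out hr.out).2 hpr
  have key := es_bound hpr hz hZ hpow hV n hmin w ⊤ W (mem_top z)
    (by
      intro h _ v hv
      rw [hWmem] at hv ⊢
      rw [← smul_pn_of_commute p z h (hzcomm h), hv, smul_zero])
    (by
      intro v hv hzv
      rw [hWmem, pn_of_fixed p z v hzv] at hv
      exact eq_zero_of_coprime_nsmul hcop (hV v) hv)
    (by
      intro hbot
      have hfix : ∀ v : Additive ↥A, z • v = v := by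
        intro v
        have h1 : z • v - v ∈ W := by
          rw [hWmem, pn_sub, ← smul_pn_of_commute p z z (Commute.refl z), smul_pn p z hzpow, sub_self]
        rw [hbot, AddSubgroup.mem_bot] at h1
        exact sub_eq_zero.1 h1
      have h2 : (z : G) ∈ E ⊓ Subgroup.centralizer (A : Set G) := by
        refine mem_inf.2 ⟨z.2, ?_⟩
        rw [mem_centralizer_iff]
        intro a ha
        have h3 := hsmul z (Additive.ofMul ⟨a, ha⟩)
        rw [hfix] at h3
        have h4 : a = (z : G) * a * (z : G)⁻¹ := h3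
        exact (mul_inv_eq_iff_eq_mul.1 h4.symm).symm
      rw [hfaith, mem_bot] at h2
      exact hz1 (Subtype.ext h2))
    (by
      rw [top_inf_eq, coe_top, centralizer_univ, hcen, card_top, hEcard, pow_succ])
  refine key.trans ?_
  have h5 : Nat.card (Additive ↥A) = Nat.card ↥A := Nat.card_congr Additive.toMul
  rw [← h5]
  exact AddSubgroup.card_le_card_addGroup W

end Cfsg.Agent.Lib.Helper38
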