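import Mathlib

set_option autoImplicit false

/-! Fixed-point-free operators of prime order on vector spaces over finite fields. -/

namespace Cfsg.Agent.Lib.Helper38.Fpf

open Module

variable {F : Type*} [Field F] {V : Type*} [AddCommGroup V] [Module F V]

/-- restriction of an operator to an invariant subspace, as a plain self-map. -/
def resEnd (B : Module.End F V) (W : Submodule F V) (hW : ∀ w ∈ W, B w ∈ W) : Function.End W :=
  fun w => ⟨B w, hW w w.2⟩

theorem resEnd_pow (B : Module.End F V) (W : Submodule F V) (hW : ∀ w ∈ W, B w ∈ W) (j : ℕ)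
    (w : W) : (((resEnd B W hW) ^ j) w : V) = (B ^ j) w := by
  induction j generalizing w with
  | zero => rfl
  | succ j ih =>
    rw [pow_succ, pow_succ]
    show (((resEnd B W hW) ^ j) (resEnd B W hW w) : V) = (B ^ j) (B w)
    rw [ih]
    rfl

theorem resEnd_pow_eq_one (B : Module.End F V) (W : Submodule F V) (hW : ∀ w ∈ W, B w ∈ W)
    (t : ℕ) (hB : B ^ t = 1) : (resEnd B W hW) ^ t = 1 := by
  funext w
  apply Subtype.ext
  rw [resEnd_pow, hB]
  rfl

variable [Fintype F] [FiniteDimensional F V]

theorem card_modEq (t : ℕ) [Fact t.Prime] (B : Module.End F V) (hB : B ^ t = 1)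
    (W : Submodule F V) (hW : ∀ w ∈ W, B w ∈ W) :
    Fintype.card F ^ finrank F W ≡ Nat.card {w : W // B w = w} [MOD t] := by
  classical
  have : Finite V := Module.finite_of_finite F
  have : Fintype W := Fintype.ofFinite W
  have h1 := Equiv.Perm.card_fixedPoints_modEq (f := resEnd B W hW) (p := t) (n := 1)
    (by rw [pow_one]; exact resEnd_pow_eq_one B W hW t hB)
  rw [Module.card_eq_pow_finrank (K := F) (V := W)] at h1
  have h2 : Nat.card (Function.fixedPoints (show W → W from resEnd B W hW)) =
      Nat.card {w : W // B w = w} := by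
    apply Nat.card_congr
    refine Equiv.subtypeEquivRight ?_
    intro w
    show resEnd B W hW w = w ↔ _
    exact Subtype.ext_iff
  rw [← h2, Nat.card_eq_fintype_card]
  convert h1

/-- fixed-point-free operators of prime order `t`: the order of `q` mod `t` divides the
dimension. -/
theorem orderOf_dvd_finrank (t : ℕ) [Fact t.Prime] (B : Module.End F V) (hB : B ^ t = 1)
    (W : Submodule F V) (hW : ∀ w ∈ W, B w ∈ W) (hfix : ∀ w ∈ W, B w = w → w = 0) :
    orderOf ((Fintype.card F : ℕ) : ZMod t) ∣ finrank F W := by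
  have h1 := card_modEq t B hB W hW
  have h2 : Nat.card {w : W // B w = w} = 1 := by
    rw [Nat.card_eq_one_iff_unique]
    refine ⟨⟨?_⟩, ⟨⟨0, by simp⟩⟩⟩
    rintro ⟨a, ha⟩ ⟨b, hb⟩
    apply Subtype.ext
    apply Subtype.ext
    rw [hfix a a.2 ha, hfix b b.2 hb]
  rw [h2] at h1
  apply orderOf_dvd_of_pow_eq_one
  have := (ZMod.natCast_eq_natCast_iff _ _ _).2 h1
  push_cast at this
  exact this

/-- an operator of order `p` in characteristic `p` fixes a nonzero vector of every nonzero
invariant subspace. -/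
theorem exists_fixed_ne_zero (p : ℕ) [Fact p.Prime] [CharP F p] (A : Module.End F V)
    (hA : A ^ p = 1) (W : Submodule F V) (hW : ∀ w ∈ W, A w ∈ W) (hne : W ≠ ⊥) :
    ∃ w ∈ W, w ≠ 0 ∧ A w = w := by
  classical
  have hfin : Finite V := Module.finite_of_finite F
  have h1 := card_modEq p A hA W hW
  have hd : 0 < finrank F W := by
    rw [Module.finrank_pos_iff_exists_ne_zero]
    obtain ⟨w, hw, hw0⟩ := (Submodule.ne_bot_iff W).1 hne
    exact ⟨⟨w, hw⟩, fun h => hw0 (congrArg Subtype.val h)⟩
  have hp : p ∣ Fintype.card F := by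
    obtain ⟨⟨f, hf0⟩, -, hf⟩ := FiniteField.card F p
    rw [hf]
    exact dvd_pow_self p (by simpa using hf0.ne')
  have h2 : p ∣ Nat.card {w : W // A w = w} := by
    have h3 : p ∣ Fintype.card F ^ finrank F W := dvd_trans hp (dvd_pow_self _ hd.ne')
    exact (Nat.modEq_zero_iff_dvd.1 (h1.symm.trans (Nat.modEq_zero_iff_dvd.2 h3)))
  have h4 : 1 < Nat.card {w : W // A w = w} := by
    have hpos : 0 < Nat.card {w : W // A w = w} := by
      have : Nonempty {w : W // A w = w} := ⟨⟨0, by simp⟩⟩
      exact Nat.card_pos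
    have := Nat.le_of_dvd hpos h2
    have := (Fact.out : p.Prime).two_le
    omega
  rw [Finite.one_lt_card_iff_nontrivial] at h4
  obtain ⟨⟨w, hw⟩, hw0⟩ := exists_ne (⟨0, by simp⟩ : {w : W // A w = w})
  refine ⟨w, w.2, ?_, hw⟩
  intro h
  apply hw0
  apply Subtype.ext
  apply Subtype.ext
  exact h

omit [Fintype F] [FiniteDimensional F V]

/-- the norm operator `1 + B + ... + B^(t-1)`. -/
noncomputable def nrm (t : ℕ) (B : Module.End F V) : Module.End F V := ∑ i ∈ Finset.range t, B ^ i

theorem sub_one_mul_nrm (t : ℕ) (B : Module.End F V) (hB : B ^ t = 1) :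
    (B - 1) * nrm t B = 0 := by
  rw [nrm, mul_geom_sum, hB, sub_self]

theorem apply_nrm (t : ℕ) (B : Module.End F V) (hB : B ^ t = 1) (v : V) :
    B (nrm t B v) = nrm t B v := by
  have := congrArg (fun f : Module.End F V => f v) (sub_one_mul_nrm t B hB)
  simp only [Module.End.mul_apply, LinearMap.sub_apply, Module.End.one_apply,
    LinearMap.zero_apply] at this
  exact sub_eq_zero.1 this

theorem pow_apply_of_fixed (B : Module.End F V) (v : V) (hv : B v = v) (i : ℕ) :
    (B ^ i) v = v := by
  induction i with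
  | zero => rfl
  | succ i ih => rw [pow_succ, Module.End.mul_apply, hv, ih]

theorem nrm_apply_of_fixed (t : ℕ) (B : Module.End F V) (v : V) (hv : B v = v) :
    nrm t B v = (t : F) • v := by
  rw [nrm, LinearMap.sum_apply]
  simp only [pow_apply_of_fixed B v hv, Finset.sum_const, Finset.card_range]
  rw [Nat.cast_smul_eq_nsmul]

/-- `ker (1 + B + ... + B^(t-1))`. -/
noncomputable def moved (t : ℕ) (B : Module.End F V) : Submodule F V := LinearMap.ker (nrm t B)

theorem mem_moved (t : ℕ) (B : Module.End F V) (v : V) : v ∈ moved t B ↔ nrm t B v = 0 :=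
  LinearMap.mem_ker

theorem moved_fpf (t : ℕ) (ht : (t : F) ≠ 0) (B : Module.End F V) (w : V) (hw : w ∈ moved t B)
    (hfix : B w = w) : w = 0 := by
  rw [mem_moved, nrm_apply_of_fixed t B w hfix] at hw
  exact (smul_eq_zero.1 hw).resolve_left ht

theorem commute_nrm (t : ℕ) {A B : Module.End F V} (h : Commute A B) : Commute A (nrm t B) := by
  unfold nrm
  exact Commute.sum_right _ _ _ (fun i _ => h.pow_right i)

theorem moved_invariant (t : ℕ) {A B : Module.End F V} (h : Commute A B) (w : V)
    (hw : w ∈ moved t B) : A w ∈ moved t B := by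
  rw [mem_moved] at hw ⊢
  have := congrArg (fun f : Module.End F V => f w) (commute_nrm t h).eq
  simp only [Module.End.mul_apply] at this
  rw [← this, hw, map_zero]

theorem sub_mem_moved (t : ℕ) (ht : (t : F) ≠ 0) (B : Module.End F V) (hB : B ^ t = 1) (v : V) :
    v - (t : F)⁻¹ • nrm t B v ∈ moved t B := by
  rw [mem_moved, map_sub, map_smul, nrm_apply_of_fixed t B _ (apply_nrm t B hB v), smul_smul,
    inv_mul_cancel₀ ht, one_smul, sub_self]

theorem moved_ne_bot (t : ℕ) (ht : (t : F) ≠ 0) (B : Module.End F V) (hB : B ^ t = 1)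
    (hB1 : B ≠ 1) : moved t B ≠ ⊥ := by
  intro h
  apply hB1
  ext v
  have h1 := sub_mem_moved t ht B hB v
  rw [h, Submodule.mem_bot, sub_eq_zero] at h1
  rw [Module.End.one_apply]
  conv_lhs => rw [h1]
  rw [map_smul, apply_nrm t B hB, ← h1]

theorem isCompl_fixed_moved (t : ℕ) (ht : (t : F) ≠ 0) (B : Module.End F V) (hB : B ^ t = 1) :
    IsCompl (LinearMap.ker (B - 1)) (moved t B) := by
  constructor
  · rw [Submodule.disjoint_def]
    intro w hw1 hw2
    rw [LinearMap.mem_ker, LinearMap.sub_apply, Module.End.one_apply, sub_eq_zero] at hw1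
    exact moved_fpf t ht B w hw2 hw1
  · rw [codisjoint_iff, eq_top_iff]
    intro v _
    have h1 := sub_mem_moved t ht B hB v
    have h2 : (t : F)⁻¹ • nrm t B v ∈ LinearMap.ker (B - 1) := by
      rw [LinearMap.mem_ker, LinearMap.sub_apply, Module.End.one_apply, map_smul,
        apply_nrm t B hB, sub_self]
    have : v = (t : F)⁻¹ • nrm t B v + (v - (t : F)⁻¹ • nrm t B v) := by abel
    rw [this]
    exact Submodule.add_mem_sup h2 h1

end Cfsg.Agent.Lib.Helper38.Fpf
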