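import Mathlib
import Cfsg.Agent.Lib.Helper38.FpfDim

set_option autoImplicit false

/-! Consequences of the fixed-point-free dimension lemma. -/

namespace Cfsg.Agent.Lib.Helper38.Fpf

open Module

variable {F : Type*} [Field F] [Fintype F] {V : Type*} [AddCommGroup V] [Module F V]
  [FiniteDimensional F V]

omit [Fintype F] in
theorem finrank_pos_of_ne_bot {W : Submodule F V} (hne : W ≠ ⊥) : 0 < finrank F W := by
  rw [Module.finrank_pos_iff_exists_ne_zero]
  obtain ⟨w, hw, hw0⟩ := (Submodule.ne_bot_iff W).1 hne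
  exact ⟨⟨w, hw⟩, fun h => hw0 (congrArg Subtype.val h)⟩

omit [Fintype F] in
theorem cast_ne_zero_of_ne (p t : ℕ) [hp : Fact p.Prime] [ht : Fact t.Prime] [CharP F p]
    (htp : t ≠ p) : (t : F) ≠ 0 := by
  intro h
  rw [CharP.cast_eq_zero_iff F p t] at h
  exact htp ((Nat.prime_dvd_prime_iff_eq hp.out ht.out).1 h).symm

theorem core_unip (p t : ℕ) [Fact p.Prime] [Fact t.Prime] [CharP F p] (htp : t ≠ p)
    (A B : Module.End F V) (hAB : Commute A B) (hA : A ^ p = 1) (hB : B ^ t = 1) (hB1 : B ≠ 1)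
    (k : ℕ) (hk : k = orderOf ((Fintype.card F : ℕ) : ZMod t))
    (h1 : finrank F V < 2 * k) (h2 : finrank F V ≤ k + 1) : A = 1 := by
  have ht : (t : F) ≠ 0 := cast_ne_zero_of_ne p t htp
  set W1 := moved t B with hW1
  have hW1ne : W1 ≠ ⊥ := moved_ne_bot t ht B hB hB1
  have hk1 : k ∣ finrank F W1 := by
    rw [hk]
    exact orderOf_dvd_finrank t B hB W1 (moved_invariant t (Commute.refl B)) (moved_fpf t ht B)
  have hpos1 := finrank_pos_of_ne_bot hW1ne
  have hle1 : finrank F W1 ≤ finrank F V := Submodule.finrank_le W1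
  have hd1 : finrank F W1 = k := by
    obtain ⟨c, hc⟩ := hk1
    have hc1 : c = 1 := by
      rcases Nat.lt_or_ge c 2 with h | h
      · rcases Nat.eq_zero_or_pos c with h0 | h0
        · rw [h0] at hc; omega
        · omega
      · have : k * 2 ≤ k * c := Nat.mul_le_mul_left k h
        omega
    rw [hc, hc1, mul_one]
  set W2 := W1 ⊓ LinearMap.ker (A - 1) with hW2
  have hmemker : ∀ w, w ∈ LinearMap.ker (A - 1) ↔ A w = w := by
    intro w
    rw [LinearMap.mem_ker, LinearMap.sub_apply, Module.End.one_apply, sub_eq_zero]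
  have hcomm : ∀ w, A (B w) = B (A w) := by
    intro w
    have := congrArg (fun f : Module.End F V => f w) hAB.eq
    simpa only [Module.End.mul_apply] using this
  have hW2ne : W2 ≠ ⊥ := by
    obtain ⟨w, hw, hw0, hfix⟩ := exists_fixed_ne_zero p A hA W1 (moved_invariant t hAB) hW1ne
    exact (Submodule.ne_bot_iff W2).2 ⟨w, ⟨hw, (hmemker w).2 hfix⟩, hw0⟩
  have hk2 : k ∣ finrank F W2 := by
    rw [hk]
    apply orderOf_dvd_finrank t B hB W2
    · intro w hw
      refine ⟨moved_invariant t (Commute.refl B) w hw.1, (hmemker _).2 ?_⟩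
      rw [hcomm, (hmemker w).1 hw.2]
    · intro w hw
      exact moved_fpf t ht B w hw.1
  have hle2 : finrank F W2 ≤ finrank F W1 := Submodule.finrank_mono inf_le_left
  have hd2 : finrank F W2 = finrank F W1 := by
    have := Nat.le_of_dvd (finrank_pos_of_ne_bot hW2ne) hk2
    omega
  have hW21 : W2 = W1 := Submodule.eq_of_le_of_finrank_eq inf_le_left hd2
  have hA1 : ∀ w ∈ W1, A w = w := by
    intro w hw
    rw [← hW21] at hw
    exact (hmemker w).1 hw.2
  set C := LinearMap.ker (B - 1) with hC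
  have hmemC : ∀ w, w ∈ C ↔ B w = w := by
    intro w
    rw [hC, LinearMap.mem_ker, LinearMap.sub_apply, Module.End.one_apply, sub_eq_zero]
  have hcompl : IsCompl C W1 := isCompl_fixed_moved t ht B hB
  have hdC : finrank F C ≤ 1 := by
    have := Submodule.finrank_add_eq_of_isCompl hcompl
    omega
  have hAC : ∀ c ∈ C, A c = c := by
    by_cases hCb : C = ⊥
    · intro c hc
      rw [hCb, Submodule.mem_bot] at hc
      rw [hc, map_zero]
    · obtain ⟨w, hw, hw0, hfix⟩ := exists_fixed_ne_zero p A hA C (by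
        intro c hc
        rw [hmemC] at hc ⊢
        rw [← hcomm, hc]) hCb
      have hspan : Submodule.span F {w} = C := by
        apply Submodule.eq_of_le_of_finrank_le
        · rw [Submodule.span_singleton_le_iff_mem]; exact hw
        · rw [finrank_span_singleton hw0]; exact hdC
      intro c hc
      rw [← hspan, Submodule.mem_span_singleton] at hc
      obtain ⟨a, rfl⟩ := hc
      rw [map_smul, hfix]
  ext v
  have hv : v ∈ C ⊔ W1 := by rw [hcompl.sup_eq_top]; trivial
  obtain ⟨c, hc, w, hw, rfl⟩ := Submodule.mem_sup.1 hv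
  rw [map_add, hAC c hc, hA1 w hw, Module.End.one_apply]

theorem core_two (r s : ℕ) [Fact r.Prime] [Fact s.Prime] (hr : (r : F) ≠ 0) (hs : (s : F) ≠ 0)
    (a b : Module.End F V) (hab : Commute a b) (ha : a ^ r = 1) (hb : b ^ s = 1)
    (ha1 : a ≠ 1) (hb1 : b ≠ 1) (k l : ℕ)
    (hk : k = orderOf ((Fintype.card F : ℕ) : ZMod r))
    (hl : l = orderOf ((Fintype.card F : ℕ) : ZMod s)) (hkl : k ≤ l)
    (hn : finrank F V < k + l) (hdvd : ¬ k ∣ l) : False := by
  set Wa := moved r a with hWa
  set Wb := moved s b with hWb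
  have hWane : Wa ≠ ⊥ := moved_ne_bot r hr a ha ha1
  have hWbne : Wb ≠ ⊥ := moved_ne_bot s hs b hb hb1
  have hka : k ∣ finrank F Wa := by
    rw [hk]
    exact orderOf_dvd_finrank r a ha Wa (moved_invariant r (Commute.refl a)) (moved_fpf r hr a)
  have hlb : l ∣ finrank F Wb := by
    rw [hl]
    exact orderOf_dvd_finrank s b hb Wb (moved_invariant s (Commute.refl b)) (moved_fpf s hs b)
  have hka' := Nat.le_of_dvd (finrank_pos_of_ne_bot hWane) hka
  have hlb' := Nat.le_of_dvd (finrank_pos_of_ne_bot hWbne) hlb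
  have hbot : Wa ⊓ Wb = ⊥ := by
    by_contra hne
    have hk11 : k ∣ finrank F ↥(Wa ⊓ Wb) := by
      rw [hk]
      apply orderOf_dvd_finrank r a ha (Wa ⊓ Wb)
      · intro w hw
        exact ⟨moved_invariant r (Commute.refl a) w hw.1, moved_invariant s hab w hw.2⟩
      · intro w hw
        exact moved_fpf r hr a w hw.1
    have hl11 : l ∣ finrank F ↥(Wa ⊓ Wb) := by
      rw [hl]
      apply orderOf_dvd_finrank s b hb (Wa ⊓ Wb)
      · intro w hw
        exact ⟨moved_invariant r hab.symm w hw.1, moved_invariant s (Commute.refl b) w hw.2⟩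
      · intro w hw
        exact moved_fpf s hs b w hw.2
    have hpos := finrank_pos_of_ne_bot hne
    have hle : finrank F ↥(Wa ⊓ Wb) ≤ finrank F V := Submodule.finrank_le _
    obtain ⟨c, hc⟩ := hl11
    rcases Nat.lt_or_ge c 2 with h | h
    · rcases Nat.eq_zero_or_pos c with h0 | h0
      · rw [h0] at hc; omega
      · have hc1 : c = 1 := by omega
        rw [hc1, mul_one] at hc
        rw [hc] at hk11
        exact hdvd hk11
    · have : l * 2 ≤ l * c := Nat.mul_le_mul_left l h
      omega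
  have h1 := Submodule.finrank_sup_add_finrank_inf_eq Wa Wb
  rw [hbot, finrank_bot, add_zero] at h1
  have h2 : finrank F ↥(Wa ⊔ Wb) ≤ finrank F V := Submodule.finrank_le _
  omega

end Cfsg.Agent.Lib.Helper38.Fpf
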