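import Mathlib

set_option autoImplicit false

namespace Cfsg.Agent.Lib.Helper38.Homo

open Module

variable {F : Type*} [Field F]

/-- the units of `K^a` act faithfully and `F`-linearly on `K^a × F^(n - a d)`. -/
theorem exists_torus_embedding (K : Type*) [Field K] [Algebra F K] [FiniteDimensional F K]
    (a n : ℕ) (h : a * finrank F K ≤ n) :
    ∃ φ : (Fin a → Kˣ) →* GL (Fin n) F, Function.Injective φ := by
  classical
  let A := Fin a → K
  let W := Fin (n - a * finrank F K) → F
  have hfr : finrank F (A × W) = n := by
    rw [Module.finrank_prod, Module.finrank_pi_fintype, Module.finrank_fin_fun]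
    simp only [Finset.sum_const, Finset.card_univ, Fintype.card_fin, smul_eq_mul]
    omega
  let b : Basis (Fin n) F (A × W) := Module.finBasisOfFinrankEq F (A × W) hfr
  let ψ : A →* Module.End F (A × W) :=
    (LinearMap.prodMapRingHom F A W).toMonoidHom.comp
      (MonoidHom.prod ((Algebra.lmul F A).toRingHom.toMonoidHom) 1)
  have hψ : Function.Injective ψ := by
    intro s t hst
    have := congrArg (fun f : Module.End F (A × W) => (f (1, 0)).1) hst
    simpa [ψ] using this
  refine ⟨(Matrix.GeneralLinearGroup.toLin' b).symm.toMonoidHom.comp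
    ((Units.map ψ).comp MulEquiv.piUnits.symm.toMonoidHom), ?_⟩
  intro s t hst
  have h1 := (Matrix.GeneralLinearGroup.toLin' b).symm.injective hst
  have h2 := Units.map_injective hψ h1
  exact MulEquiv.piUnits.symm.injective h2

end Cfsg.Agent.Lib.Helper38.Homo
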