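import Mathlib

set_option autoImplicit false

namespace Cfsg.Agent.Lib.Helper38.Homo

open Polynomial

variable {q r : ℕ} [hr : Fact r.Prime]

lemma dvd_pow_sub_one_iff (hq : 0 < q) (j : ℕ) :
    r ∣ q ^ j - 1 ↔ orderOf (q : ZMod r) ∣ j := by
  rw [orderOf_dvd_iff_pow_eq_one]
  have h1 : 1 ≤ q ^ j := Nat.one_le_pow _ _ hq
  rw [← ZMod.natCast_eq_zero_iff (q ^ j - 1) r, Nat.cast_sub h1]
  push_cast
  rw [sub_eq_zero]

lemma orderOf_pos' (hrq : ¬ r ∣ q) : 0 < orderOf (q : ZMod r) := by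
  rw [orderOf_pos_iff, isOfFinOrder_iff_pow_eq_one]
  refine ⟨r - 1, Nat.sub_pos_of_lt hr.out.one_lt, ?_⟩
  apply ZMod.pow_card_sub_one_eq_one
  rwa [Ne, ZMod.natCast_eq_zero_iff]

lemma val_cyclotomic (hq : 2 ≤ q) (hrq : ¬ r ∣ q) :
    padicValNat r ((cyclotomic (orderOf (q : ZMod r)) ℤ).eval (q : ℤ)).natAbs =
      padicValNat r (q ^ orderOf (q : ZMod r) - 1) := by
  set d := orderOf (q : ZMod r) with hd
  have hd0 : 0 < d := orderOf_pos' hrq
  have hprod := prod_cyclotomic_eq_X_pow_sub_one hd0 ℤ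
  rw [← Nat.insert_self_properDivisors hd0.ne', Finset.prod_insert (by simp)] at hprod
  have hev := congrArg (eval (q : ℤ)) hprod
  rw [eval_mul, eval_prod] at hev
  simp only [eval_sub, eval_pow, eval_X, eval_one] at hev
  set A := (cyclotomic d ℤ).eval (q : ℤ) with hA
  set B := ∏ e ∈ d.properDivisors, (cyclotomic e ℤ).eval (q : ℤ) with hB
  have h1 : 1 ≤ q ^ d := Nat.one_le_pow _ _ (by omega)
  have hnat : q ^ d - 1 = A.natAbs * B.natAbs := by
    rw [← Int.natAbs_mul, hev]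
    have : ((q : ℤ) ^ d - 1) = ((q ^ d - 1 : ℕ) : ℤ) := by
      rw [Nat.cast_sub h1]; push_cast; ring
    rw [this, Int.natAbs_natCast]
  have hpos : q ^ d - 1 ≠ 0 := by
    have : 2 ^ 1 ≤ q ^ d := le_trans (Nat.pow_le_pow_left hq 1) (Nat.pow_le_pow_right (by omega) hd0)
    omega
  have hA0 : A.natAbs ≠ 0 := fun h => hpos (by rw [hnat, h, zero_mul])
  have hB0 : B.natAbs ≠ 0 := fun h => hpos (by rw [hnat, h, mul_zero])
  have hrB : ¬ r ∣ B.natAbs := by
    intro h
    have h2 : (r : ℤ) ∣ B := Int.natCast_dvd.2 h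
    have hrp : Prime (r : ℤ) := Nat.prime_iff_prime_int.1 hr.out
    obtain ⟨e, he, hre⟩ := (Prime.dvd_finsetProd_iff hrp _).1 h2
    rw [Nat.mem_properDivisors] at he
    have he0 : 0 < e := Nat.pos_of_dvd_of_pos he.1 hd0
    have h3 : (cyclotomic e ℤ).eval (q : ℤ) ∣ (q : ℤ) ^ e - 1 := by
      have := eval_dvd (x := (q : ℤ)) (cyclotomic.dvd_X_pow_sub_one e ℤ)
      simpa using this
    have h4 : (r : ℤ) ∣ (q : ℤ) ^ e - 1 := hre.trans h3
    have h5 : r ∣ q ^ e - 1 := by
      have h1e : 1 ≤ q ^ e := Nat.one_le_pow _ _ (by omega)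
      have : ((q : ℤ) ^ e - 1) = ((q ^ e - 1 : ℕ) : ℤ) := by
        rw [Nat.cast_sub h1e]; push_cast; ring
      rw [this] at h4
      exact Int.natCast_dvd_natCast.1 h4
    rw [dvd_pow_sub_one_iff (by omega)] at h5
    exact absurd (Nat.le_of_dvd he0 h5) (not_le.2 he.2)
  rw [hnat, padicValNat.mul hA0 hB0, padicValNat.eq_zero_of_not_dvd hrB, add_zero]

lemma val_pow_sub_one (hq : 2 ≤ q) (hrq : ¬ r ∣ q) {j : ℕ} (hj0 : 0 < j) (hj : j < r) :
    padicValNat r (q ^ j - 1) =
      if orderOf (q : ZMod r) ∣ j then padicValNat r (q ^ orderOf (q : ZMod r) - 1) else 0 := by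
  set d := orderOf (q : ZMod r) with hd
  split_ifs with h
  · obtain ⟨k, rfl⟩ := h
    have hk0 : k ≠ 0 := by rintro rfl; simp at hj0
    have hd0 : 0 < d := orderOf_pos' hrq
    rcases Nat.lt_or_ge k 2 with hk | hk
    · have : k = 1 := by omega
      subst this; simp
    · have hkr : k < r := lt_of_le_of_lt (Nat.le_mul_of_pos_left k hd0) hj
      have hodd : Odd r := hr.out.odd_of_ne_two (by omega)
      have h1 : 1 < q ^ d := by
        have : 2 ^ 1 ≤ q ^ d :=
          le_trans (Nat.pow_le_pow_left hq 1) (Nat.pow_le_pow_right (by omega) hd0)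
        omega
      have h2 : r ∣ q ^ d - 1 := (dvd_pow_sub_one_iff (by omega) d).2 (dvd_refl _)
      have h3 : ¬ r ∣ q ^ d := fun h => hrq (hr.out.dvd_of_dvd_pow h)
      have := padicValNat.pow_sub_pow hodd h1 h2 h3 hk0
      rw [one_pow, ← pow_mul] at this
      rw [this, padicValNat.eq_zero_of_not_dvd (fun h => absurd (Nat.le_of_dvd (by omega) h) (not_le.2 hkr)),
        add_zero]
  · apply padicValNat.eq_zero_of_not_dvd
    rwa [dvd_pow_sub_one_iff (by omega)]

lemma factorization_card_GL (hq : 2 ≤ q) (hrq : ¬ r ∣ q) {n : ℕ} (hn : n < r) :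
    (∏ i : Fin n, (q ^ n - q ^ (i : ℕ))).factorization r =
      (n / orderOf (q : ZMod r)) * padicValNat r (q ^ orderOf (q : ZMod r) - 1) := by
  set d := orderOf (q : ZMod r) with hd
  rw [Fin.prod_univ_eq_prod_range (fun i => q ^ n - q ^ i) n]
  have hne : ∀ i ∈ Finset.range n, q ^ n - q ^ i ≠ 0 := by
    intro i hi
    rw [Finset.mem_range] at hi
    have := Nat.pow_lt_pow_right (show 1 < q by omega) hi
    omega
  rw [Nat.factorization_prod hne, Finsupp.finsetSum_apply]
  have hterm : ∀ i ∈ Finset.range n, (q ^ n - q ^ i).factorization r =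
      if d ∣ (n - 1 - i) + 1 then padicValNat r (q ^ d - 1) else 0 := by
    intro i hi
    rw [Finset.mem_range] at hi
    have h1 : q ^ n - q ^ i = q ^ i * (q ^ (n - i) - 1) := by
      rw [Nat.mul_sub, ← pow_add, mul_one]
      congr 2; omega
    have h2 : n - 1 - i + 1 = n - i := by omega
    rw [h2, Nat.factorization_def _ hr.out, h1, padicValNat.mul (by positivity), 
      padicValNat.eq_zero_of_not_dvd (fun h => hrq (hr.out.dvd_of_dvd_pow h)), zero_add,
      val_pow_sub_one hq hrq (by omega) (by omega)]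
    have := Nat.pow_lt_pow_right (show 1 < q by omega) (show 0 < n - i by omega)
    simp at this
    omega
  rw [Finset.sum_congr rfl hterm,
    Finset.sum_range_reflect (fun j => if d ∣ j + 1 then padicValNat r (q ^ d - 1) else 0) n,
    ← Finset.sum_filter, Finset.sum_const, Nat.card_multiples, smul_eq_mul]

end Cfsg.Agent.Lib.Helper38.Homo
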