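import Mathlib
import Cfsg.Agent.Lib.Helper38.HomoNT
import Cfsg.Agent.Lib.Helper38.HomoEmb

set_option autoImplicit false
open scoped MatrixGroups

namespace Cfsg.Agent.Lib.Helper38.Homo

theorem sylow_equiv_of_injective {G : Type*} [Group G] [Finite G] {r : ℕ} [Fact r.Prime]
    (P : Sylow r G) {H : Type*} [Group H] (φ : H →* G) (hφ : Function.Injective φ)
    (hcard : Nat.card H = r ^ (Nat.card G).factorization r) :
    Nonempty (↥(P : Subgroup G) ≃* H) := by
  have h1 : Nat.card φ.range = r ^ (Nat.card G).factorization r := by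
    rw [← hcard]
    exact (Nat.card_congr (MonoidHom.ofInjective hφ).toEquiv).symm
  let Q : Sylow r G := Sylow.ofCard φ.range h1
  exact ⟨(Sylow.equiv P Q).trans (MonoidHom.ofInjective hφ).symm⟩

theorem exists_cyclic_embedding (C : Type*) [Group C] [Finite C] [IsCyclic C] (r : ℕ)
    [Fact r.Prime] :
    ∃ f : Multiplicative (ZMod (r ^ (Nat.card C).factorization r)) →* C, Function.Injective f := by
  obtain ⟨S⟩ : Nonempty (Sylow r C) := inferInstance
  have hS : Nat.card S = r ^ (Nat.card C).factorization r := S.card_eq_multiplicity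
  have : NeZero (r ^ (Nat.card C).factorization r) := ⟨(pow_pos (Fact.out : r.Prime).pos _).ne'⟩
  have hc : Nat.card (Multiplicative (ZMod (r ^ (Nat.card C).factorization r))) =
      Nat.card (S : Subgroup C) := by
    rw [hS, Nat.card_eq_fintype_card, Fintype.card_multiplicative, ZMod.card]
  let e := mulEquivOfCyclicCardEq hc
  exact ⟨(S : Subgroup C).subtype.comp e.toMonoidHom,
    (Subgroup.subtype_injective _).comp e.injective⟩

theorem card_pi_zmod (a m : ℕ) [NeZero m] :
    Nat.card (Fin a → Multiplicative (ZMod m)) = m ^ a := by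
  rw [Nat.card_eq_fintype_card, Fintype.card_pi]
  simp [Fintype.card_multiplicative, ZMod.card]

/-- the homocyclic `r`-torus of `GL_n(q)`. -/
theorem exists_homocyclic_GL {F : Type*} [Field F] [Fintype F] {q : ℕ} (hq : Fintype.card F = q)
    (n : ℕ) (r : ℕ) [Fact r.Prime] (hrq : ¬ r ∣ q) :
    ∃ φ : (Fin (n / orderOf (q : ZMod r)) →
        Multiplicative (ZMod (r ^ padicValNat r (q ^ orderOf (q : ZMod r) - 1)))) →* GL (Fin n) F,
      Function.Injective φ := by
  classical
  obtain ⟨p, hp⟩ := CharP.exists F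
  have := hp
  have : Fact p.Prime := ⟨CharP.char_is_prime F p⟩
  set d := orderOf (q : ZMod r) with hd
  have hd0 : 0 < d := orderOf_pos' hrq
  have : NeZero d := ⟨hd0.ne'⟩
  let K := FiniteField.Extension F p d
  have hK : Nat.card K = q ^ d := by
    rw [FiniteField.natCard_extension, Nat.card_eq_fintype_card, hq]
  have hfr : Module.finrank F K = d := FiniteField.finrank_extension F p d
  have : Fintype K := Fintype.ofFinite K
  have hKu : Nat.card Kˣ = q ^ d - 1 := by
    rw [Nat.card_eq_fintype_card, Fintype.card_units, ← Nat.card_eq_fintype_card, hK]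
  have hex := exists_cyclic_embedding Kˣ r
  rw [hKu, Nat.factorization_def _ (Fact.out : r.Prime)] at hex
  obtain ⟨f, hf⟩ := hex
  obtain ⟨φ, hφ⟩ := exists_torus_embedding (F := F) K (n / d) n (by
    rw [hfr]; exact Nat.div_mul_le_self n d)
  refine ⟨φ.comp (MonoidHom.piMap fun _ => f), hφ.comp ?_⟩
  intro s t hst
  funext i
  exact hf (congrFun hst i)

end Cfsg.Agent.Lib.Helper38.Homo
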