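import Mathlib
import Cfsg.Agent.Lib.Helper38.HomoMain
import Cfsg.Agent.Lib.Helper5.LinearCard

set_option autoImplicit false
open scoped MatrixGroups

namespace Cfsg.Agent.Lib.Helper38.Homo

variable {F : Type*} [Field F]

theorem lift_SL {n : ℕ} {H : Type*} [Group H] (φ : H →* GL (Fin n) F) (hφ : Function.Injective φ)
    (hdet : ∀ h, Matrix.GeneralLinearGroup.det (φ h) = 1) :
    ∃ ψ : H →* Matrix.SpecialLinearGroup (Fin n) F, Function.Injective ψ := by
  have hmem : ∀ h, φ h ∈ (Matrix.SpecialLinearGroup.toGL :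
      Matrix.SpecialLinearGroup (Fin n) F →* GL (Fin n) F).range := by
    intro h
    rw [Cfsg.Agent.Lib.Helper5.range_toGL_eq_ker_det, MonoidHom.mem_ker]
    exact hdet h
  let e := MonoidHom.ofInjective (Matrix.SpecialLinearGroup.toGL_injective (n := Fin n) (R := F))
  refine ⟨e.symm.toMonoidHom.comp (φ.codRestrict _ hmem), e.symm.injective.comp ?_⟩
  intro a b hab
  exact hφ (congrArg Subtype.val hab)

/-- diagonal embedding -/
noncomputable def diagGL (n : ℕ) : (Fin n → Fˣ) →* GL (Fin n) F :=
  (Units.map (Matrix.diagonalRingHom (Fin n) F).toMonoidHom).comp MulEquiv.piUnits.symm.toMonoidHom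

theorem diagGL_coe (n : ℕ) (s : Fin n → Fˣ) :
    ((diagGL n s : GL (Fin n) F) : Matrix (Fin n) (Fin n) F) = Matrix.diagonal fun i => (s i : F) := by
  rfl

theorem diagGL_injective (n : ℕ) : Function.Injective (diagGL (F := F) n) := by
  intro s t hst
  have h1 := congrArg (fun g : GL (Fin n) F => (g : Matrix (Fin n) (Fin n) F)) hst
  simp only [diagGL_coe] at h1
  have h2 := Matrix.diagonal_injective h1
  funext i
  exact Units.ext (congrFun h2 i)

theorem det_diagGL (n : ℕ) (s : Fin n → Fˣ) :
    Matrix.GeneralLinearGroup.det (diagGL n s) = ∏ i, s i := by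
  apply Units.ext
  rw [Matrix.GeneralLinearGroup.val_det_apply, diagGL_coe, Matrix.det_diagonal, Units.coe_prod]

/-- `t ↦ ((∏ t)⁻¹, t)` -/
def consHom (C : Type*) [CommGroup C] (k : ℕ) : (Fin k → C) →* (Fin (k + 1) → C) where
  toFun t := Fin.cons (∏ j, t j)⁻¹ t
  map_one' := by
    funext i
    refine Fin.cases ?_ (fun j => ?_) i <;> simp
  map_mul' s t := by
    funext i
    refine Fin.cases ?_ (fun j => ?_) i
    · simp [Finset.prod_mul_distrib, mul_comm]
    · simp

theorem consHom_injective (C : Type*) [CommGroup C] (k : ℕ) : Function.Injective (consHom C k) := by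
  intro s t hst
  funext j
  have := congrFun hst j.succ
  simpa [consHom] using this

theorem prod_consHom (C : Type*) [CommGroup C] (k : ℕ) (t : Fin k → C) :
    ∏ i, consHom C k t i = 1 := by
  simp [consHom, Fin.prod_cons]

theorem exists_diag_SL (k : ℕ) :
    ∃ ψ : (Fin k → Fˣ) →* Matrix.SpecialLinearGroup (Fin (k + 1)) F, Function.Injective ψ := by
  apply lift_SL ((diagGL (k + 1)).comp (consHom Fˣ k))
    ((diagGL_injective (k + 1)).comp (consHom_injective Fˣ k))
  intro t
  rw [MonoidHom.comp_apply, det_diagGL, prod_consHom]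

end Cfsg.Agent.Lib.Helper38.Homo
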