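import Mathlib
import Cfsg.Agent.Lib.Helper38.HomoSL

set_option autoImplicit false

/-! Lifting elements through central quotients; elements of `SL_n(q)` from units of algebras. -/

namespace Cfsg.Agent.Lib.Helper38.Fpf

open Module

section Groups

variable {G : Type*} [Group G] (Z : Subgroup G) [Z.Normal]

theorem exists_lift_pow_eq_one (e m : ℕ) (hZ : ∀ z ∈ Z, z ^ e = 1) (hem : Nat.Coprime e m)
    (x : G ⧸ Z) (hx : x ^ m = 1) : ∃ y : G, (y : G ⧸ Z) = x ∧ y ^ m = 1 := by
  obtain ⟨y0, rfl⟩ := QuotientGroup.mk_surjective x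
  have h1 : y0 ^ m ∈ Z := by
    rw [← QuotientGroup.eq_one_iff]; exact hx
  have hb : (e : ℤ) * Nat.gcdA e m + m * Nat.gcdB e m = 1 := by
    have := Nat.gcd_eq_gcd_ab e m
    rw [hem] at this
    exact_mod_cast this.symm
  refine ⟨y0 ^ ((e : ℤ) * Nat.gcdA e m), ?_, ?_⟩
  · rw [QuotientGroup.mk_zpow, show (e : ℤ) * Nat.gcdA e m = 1 - m * Nat.gcdB e m by linarith,
      zpow_sub, zpow_one, zpow_mul, zpow_natCast, hx, one_zpow, inv_one, mul_one]
  · rw [← zpow_natCast, ← zpow_mul,
      show (e : ℤ) * Nat.gcdA e m * m = (m : ℤ) * e * Nat.gcdA e m by ring, zpow_mul, zpow_mul,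
      zpow_natCast, zpow_natCast, hZ _ h1, one_zpow]

theorem eq_one_of_pow_coprime {e m : ℕ} (hem : Nat.Coprime e m) {z : G} (h1 : z ^ e = 1)
    (h2 : z ^ m = 1) : z = 1 := by
  have := pow_gcd_eq_one.2 ⟨h1, h2⟩
  rwa [hem, pow_one] at this

theorem commute_of_quotient_commute (hZc : Z ≤ Subgroup.center G) (e m : ℕ)
    (hZ : ∀ z ∈ Z, z ^ e = 1) (hem : Nat.Coprime e m) (a b : G) (ha : a ^ m = 1)
    (hab : Commute (a : G ⧸ Z) (b : G ⧸ Z)) : Commute a b := by
  set z := b * a * b⁻¹ * a⁻¹ with hz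
  have hzZ : z ∈ Z := by
    rw [← QuotientGroup.eq_one_iff, hz]
    simp only [QuotientGroup.mk_mul, QuotientGroup.mk_inv]
    rw [← hab.eq]
    group
  have hzc : ∀ g, Commute z g := fun g => ((Subgroup.mem_center_iff.1 (hZc hzZ)) g).symm
  have h1 : b * a * b⁻¹ = z * a := by rw [hz]; group
  have h2 : (z * a) ^ m = 1 := by
    rw [← h1, conj_pow, ha]; group
  rw [(hzc a).mul_pow, ha, mul_one] at h2
  have h3 : z = 1 := eq_one_of_pow_coprime hem (hZ z hzZ) h2
  rw [h3, one_mul] at h1
  show a * b = b * a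
  calc a * b = (b * a * b⁻¹) * b := by rw [h1]
    _ = b * a := by group

theorem orderOf_mk_of_coprime (e m : ℕ) (hZ : ∀ z ∈ Z, z ^ e = 1) (hem : Nat.Coprime e m)
    (x : G) (hx : orderOf x = m) : orderOf (x : G ⧸ Z) = m := by
  apply Nat.dvd_antisymm
  · rw [← hx]
    exact orderOf_map_dvd (QuotientGroup.mk' Z) x
  · have h1 : x ^ orderOf (x : G ⧸ Z) ∈ Z := by
      rw [← QuotientGroup.eq_one_iff, QuotientGroup.mk_pow, pow_orderOf_eq_one]
    have h2 := hZ _ h1
    rw [← pow_mul] at h2
    have h3 := orderOf_dvd_of_pow_eq_one h2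
    rw [hx] at h3
    exact (Nat.Coprime.dvd_mul_right hem.symm).1 h3

end Groups

variable {F : Type*} [Field F]

theorem center_pow_card_sub_one [Fintype F] {n : ℕ} (z : Matrix.SpecialLinearGroup (Fin n) F)
    (hz : z ∈ Subgroup.center (Matrix.SpecialLinearGroup (Fin n) F)) :
    z ^ (Fintype.card F - 1) = 1 := by
  obtain ⟨r, hr, hrz⟩ := Matrix.SpecialLinearGroup.mem_center_iff.1 hz
  rcases Nat.eq_zero_or_pos n with rfl | hn
  · exact Subsingleton.elim _ _
  · have hr0 : r ≠ 0 := by
      rintro rfl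
      rw [Fintype.card_fin, zero_pow hn.ne'] at hr
      exact zero_ne_one hr
    apply Subtype.ext
    rw [Matrix.SpecialLinearGroup.coe_pow, ← hrz, ← map_pow,
      FiniteField.pow_card_sub_one_eq_one r hr0, map_one]
    rfl

/-- `SL_n(F)` acting on `F^n`. -/
noncomputable def toE (n : ℕ) :
    Matrix.SpecialLinearGroup (Fin n) F →* Module.End F (Fin n → F) where
  toFun x := Matrix.toLin' (x : Matrix (Fin n) (Fin n) F)
  map_one' := by
    rw [Matrix.SpecialLinearGroup.coe_one, Matrix.toLin'_one]; rfl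
  map_mul' x y := by
    rw [Matrix.SpecialLinearGroup.coe_mul, Matrix.toLin'_mul]; rfl

theorem toE_injective (n : ℕ) : Function.Injective (toE (F := F) n) := by
  intro x y hxy
  apply Subtype.ext
  exact Matrix.toLin'.injective hxy

/-- the units of a finite-dimensional commutative algebra act faithfully on
`A × F^(n - dim A)`. -/
theorem exists_units_embedding (A : Type*) [CommRing A] [Algebra F A] [FiniteDimensional F A]
    (n : ℕ) (h : finrank F A ≤ n) :
    ∃ φ : Aˣ →* GL (Fin n) F, Function.Injective φ := by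
  classical
  let W := Fin (n - finrank F A) → F
  have hfr : finrank F (A × W) = n := by
    rw [Module.finrank_prod, Module.finrank_fin_fun]
    omega
  let b : Basis (Fin n) F (A × W) := Module.finBasisOfFinrankEq F (A × W) hfr
  let ψ : A →* Module.End F (A × W) :=
    (LinearMap.prodMapRingHom F A W).toMonoidHom.comp
      (MonoidHom.prod ((Algebra.lmul F A).toRingHom.toMonoidHom) 1)
  have hψ : Function.Injective ψ := by
    intro s t hst
    have := congrArg (fun f : Module.End F (A × W) => (f (1, 0)).1) hst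
    simpa [ψ] using this
  refine ⟨(Matrix.GeneralLinearGroup.toLin' b).symm.toMonoidHom.comp (Units.map ψ), ?_⟩
  intro s t hst
  have h1 := (Matrix.GeneralLinearGroup.toLin' b).symm.injective hst
  exact Units.map_injective hψ h1

theorem exists_SL_orderOf [Fintype F] (A : Type*) [CommRing A] [Algebra F A]
    [FiniteDimensional F A] (n : ℕ) (h : finrank F A ≤ n) (u : Aˣ) (m : ℕ) (hu : orderOf u = m)
    (hm : Nat.Coprime (Fintype.card F - 1) m) :
    ∃ x : Matrix.SpecialLinearGroup (Fin n) F, orderOf x = m := by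
  obtain ⟨φ, hφ⟩ := exists_units_embedding (F := F) A n h
  obtain ⟨ψ, hψ⟩ := Cfsg.Agent.Lib.Helper38.Homo.lift_SL
    (φ.comp (Subgroup.zpowers u).subtype) (hφ.comp (Subgroup.zpowers u).subtype_injective) (by
      rintro ⟨v, hv⟩
      apply eq_one_of_pow_coprime hm
      · apply Units.ext
        rw [Units.val_pow_eq_pow_val]
        exact FiniteField.pow_card_sub_one_eq_one _ (Units.ne_zero _)
      · rw [← map_pow, ← map_pow]
        have : (⟨v, hv⟩ : Subgroup.zpowers u) ^ m = 1 := by
          apply Subtype.ext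
          obtain ⟨j, rfl⟩ := Subgroup.mem_zpowers_iff.1 hv
          show (u ^ j) ^ m = 1
          rw [← zpow_natCast, ← zpow_mul, mul_comm, zpow_mul, zpow_natCast, ← hu,
            pow_orderOf_eq_one, one_zpow]
        rw [this, map_one, map_one])
  refine ⟨ψ ⟨u, Subgroup.mem_zpowers u⟩, ?_⟩
  rw [orderOf_injective ψ hψ, ← hu]
  exact Subgroup.orderOf_mk u _

end Cfsg.Agent.Lib.Helper38.Fpf
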