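import Mathlib
import Cfsg.Agent.Lib.Helper38.HomoNT
import Cfsg.Agent.Lib.Helper5.LinearCard

set_option autoImplicit false

/-! Primes dividing the orders of `GL_n(q)` and `SL_n(q)`. -/

namespace Cfsg.Agent.Lib.Helper38.Fpf

variable {F : Type*} [Field F] [Fintype F]

theorem card_units_eq : Nat.card Fˣ = Fintype.card F - 1 := by
  classical
  rw [Nat.card_eq_fintype_card, Fintype.card_units]

theorem pow_sub_pow_eq (q m i : ℕ) (hi : i ≤ m) : q ^ m - q ^ i = q ^ i * (q ^ (m - i) - 1) := by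
  rw [Nat.mul_sub, ← pow_add, mul_one]
  congr 2; omega

theorem dvd_card_GL_of_dvd_pow_sub_one (t m j : ℕ) (hj1 : 1 ≤ j) (hjm : j ≤ m)
    (ht : t ∣ Fintype.card F ^ j - 1) : t ∣ Nat.card (GL (Fin m) F) := by
  rw [Matrix.card_GL_field]
  have h1 : Fintype.card F ^ m - Fintype.card F ^ (((⟨m - j, by omega⟩ : Fin m)) : ℕ) ∣
      ∏ i : Fin m, (Fintype.card F ^ m - Fintype.card F ^ (i : ℕ)) :=
    Finset.dvd_prod_of_mem (fun i : Fin m => Fintype.card F ^ m - Fintype.card F ^ (i : ℕ))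
      (Finset.mem_univ _)
  refine dvd_trans ?_ h1
  simp only
  rw [pow_sub_pow_eq _ _ _ (by omega), show m - (m - j) = j by omega]
  exact Dvd.dvd.mul_left ht _

theorem dvd_card_SL_of_dvd_pow_sub_one (t : ℕ) (htp : t.Prime) (m j : ℕ) (hj1 : 1 ≤ j)
    (hjm : j ≤ m) (ht : t ∣ Fintype.card F ^ j - 1) (ht1 : ¬ t ∣ Fintype.card F - 1) :
    t ∣ Nat.card (Matrix.SpecialLinearGroup (Fin m) F) := by
  have h1 := dvd_card_GL_of_dvd_pow_sub_one (F := F) t m j hj1 hjm ht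
  have : Nonempty (Fin m) := ⟨⟨0, by omega⟩⟩
  rw [Cfsg.Agent.Lib.Helper5.card_GL_eq_card_SL_mul_card_units, card_units_eq] at h1
  exact (htp.dvd_mul.1 h1).resolve_right ht1

theorem mul_dvd_card_SL (m : ℕ) (hm : 2 ≤ m) :
    Fintype.card F * (Fintype.card F ^ 2 - 1) ∣ Nat.card (Matrix.SpecialLinearGroup (Fin m) F) := by
  obtain ⟨m', rfl⟩ : ∃ m', m = m' + 2 := ⟨m - 2, by omega⟩
  have h1 := Cfsg.Agent.Lib.Helper5.card_GL_eq_card_SL_mul_card_units (n := Fin (m' + 2)) (F := F)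
  rw [card_units_eq, Matrix.card_GL_field,
    Fin.prod_univ_eq_prod_range (fun i => Fintype.card F ^ (m' + 2) - Fintype.card F ^ i) (m' + 2),
    Finset.prod_range_succ, Finset.prod_range_succ, pow_sub_pow_eq _ _ m' (by omega),
    pow_sub_pow_eq _ _ (m' + 1) (by omega), show m' + 2 - m' = 2 by omega,
    show m' + 2 - (m' + 1) = 1 by omega, pow_one, ← mul_assoc] at h1
  have hq : 0 < Fintype.card F - 1 := by
    have := Fintype.one_lt_card (α := F)
    omega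
  have h2 := Nat.eq_of_mul_eq_mul_right hq h1
  rw [← h2, pow_succ]
  refine ⟨(∏ x ∈ Finset.range m', (Fintype.card F ^ (m' + 2) - Fintype.card F ^ x)) *
    Fintype.card F ^ m' * Fintype.card F ^ m', ?_⟩
  ring

theorem orderOf_le_of_dvd_card_GL (s : ℕ) [hs : Fact s.Prime] (n : ℕ)
    (hsq : ¬ s ∣ Fintype.card F) (h : s ∣ Nat.card (GL (Fin n) F)) :
    orderOf ((Fintype.card F : ℕ) : ZMod s) ≤ n := by
  rw [Matrix.card_GL_field] at h
  obtain ⟨i, -, hi⟩ := (Prime.dvd_finsetProd_iff (Nat.prime_iff.1 hs.out) _).1 h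
  rw [pow_sub_pow_eq _ _ _ i.2.le] at hi
  have h1 : s ∣ Fintype.card F ^ (n - i) - 1 :=
    (hs.out.dvd_mul.1 hi).resolve_left (fun h => hsq (hs.out.dvd_of_dvd_pow h))
  rw [Cfsg.Agent.Lib.Helper38.Homo.dvd_pow_sub_one_iff Fintype.card_pos] at h1
  have := Nat.le_of_dvd (by have := i.2; omega) h1
  omega

end Cfsg.Agent.Lib.Helper38.Fpf
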