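import Mathlib
import Cfsg.Agent.Lib.Helper38.ESModuleA
import Cfsg.Agent.Lib.Helper29.PGroupSmall

/-!
A normal elementary abelian subgroup of order `p ^ 2` of a `p`-group: good generators, and the
trace identity for the action on a module on which the central element acts fixed-point-freely.
-/

set_option autoImplicit false

namespace Cfsg.Agent.Lib.Helper38

open Finset Subgroup
open scoped commutatorElement

/-- good generators of a normal elementary abelian subgroup of order `p ^ 2` -/
theorem exists_step_elements {G : Type*} [Group G] [Finite G] {p : ℕ} [hp : Fact p.Prime]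
    (hG : IsPGroup p G) (A : Subgroup G) [hAn : A.Normal] (hAexp : ∀ a ∈ A, a ^ p = 1)
    (hAcard : Nat.card A = p ^ 2) :
    ∃ z x : G, z ∈ center G ∧ orderOf z = p ∧ z ∈ A ∧ x ∈ A ∧ x ∉ zpowers z ∧ x ^ p = 1 ∧
      ∀ g : G, g * x * g⁻¹ * x⁻¹ ∈ zpowers z := by
  have hAbot : A ≠ ⊥ := by
    rintro rfl
    rw [Subgroup.card_bot] at hAcard
    have := Nat.one_lt_pow (by norm_num : 2 ≠ 0) hp.out.one_lt
    omega
  obtain ⟨z, hzA, hzc, hzo⟩ := Cfsg.Agent.Lib.Helper29.exists_central_orderOf_eq hG A hAbot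
  have hnle : ¬ A ≤ zpowers z := by
    intro hle
    have h1 := Subgroup.card_le_of_le hle
    rw [hAcard, Nat.card_zpowers, hzo] at h1
    have := hp.out.one_lt
    nlinarith
  obtain ⟨x, hxA, hxz, hx⟩ := Cfsg.Agent.Lib.Helper24.exists_central_mod (P := ⊤) (W := A)
    (E := zpowers z) (Group.isNilpotent_top.2 hG.isNilpotent) le_top
    (by rw [Subgroup.normalizer_eq_top]) hnle
  refine ⟨z, x, hzc, hzo, hzA, hxA, hxz, hAexp x hxA, ?_⟩
  intro g
  have h1 := inv_mem (hx g (mem_top g))
  rw [commutatorElement_inv, commutatorElement_def] at h1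
  exact h1

section
variable {P V : Type*} [Group P] [AddCommGroup V] [DistribMulAction P V]
  {p : ℕ} [hp : Fact p.Prime]

/-- the trace identity -/
theorem sum_pn_eq {z x : P} (hz : orderOf z = p) (hzx : Commute x z)
    (hfpf : ∀ v : V, z • v = v → v = 0) (v : V) :
    ∑ j ∈ range p, pn p (x * z ^ j) v = p • v := by
  rw [pn_key x z hzx p v, Finset.sum_eq_single 0]
  · rw [pow_zero, pow_zero, one_smul]
    exact pn_of_fixed p 1 v (one_smul _ _)
  · intro i hi hi0
    have h1 : pn p (z ^ i) v = 0 := by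
      refine fpf_of_mem hz ⊤ (fun v _ => hfpf v) (t := z ^ i) (pow_mem (mem_zpowers z) i) ?_ _
        (AddSubgroup.mem_top _) (smul_pn p _ ?_ v)
      · intro h
        have h2 := orderOf_dvd_of_pow_eq_one h
        rw [hz] at h2
        exact absurd (Nat.le_of_dvd (Nat.pos_of_ne_zero hi0) h2) (not_le.2 (Finset.mem_range.1 hi))
      · rw [← pow_mul, mul_comm, pow_mul, ← hz, pow_orderOf_eq_one, one_pow]
    rw [h1, smul_zero]
  · intro h
    exact absurd (Finset.mem_range.2 hp.out.pos) h

end

end Cfsg.Agent.Lib.Helper38
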