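import Mathlib

set_option autoImplicit false

/-! Multisets invariant under a fixed-point-free involution. -/

namespace Cfsg.Agent.Lib.Helper38.MCount

variable {I : Type*} [Fintype I] [DecidableEq I]

theorem exists_transversal (σ : I → I) (hσ : Function.Involutive σ) (hfix : ∀ x, σ x ≠ x) :
    ∃ J : Finset I, (∀ x, x ∈ J ↔ σ x ∉ J) ∧ 2 * J.card = Fintype.card I := by
  let e := Fintype.equivFin I
  let J : Finset I := Finset.univ.filter (fun x => e x < e (σ x))
  have hJ : ∀ x, x ∈ J ↔ σ x ∉ J := by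
    intro x
    simp only [J, Finset.mem_filter, Finset.mem_univ, true_and, hσ x, not_lt]
    constructor
    · intro h; exact h.le
    · intro h
      apply lt_of_le_of_ne h
      intro h2
      exact hfix x (e.injective h2).symm
  refine ⟨J, hJ, ?_⟩
  have h1 : Jᶜ = J.image σ := by
    ext x
    rw [Finset.mem_compl, Finset.mem_image]
    constructor
    · intro hx
      refine ⟨σ x, ?_, hσ x⟩
      by_contra h
      exact hx ((hJ x).2 h)
    · rintro ⟨y, hy, rfl⟩
      exact (hJ y).1 hy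
  have h2 := Finset.card_compl J
  rw [h1, Finset.card_image_of_injective _ hσ.injective] at h2
  have h3 := Finset.card_le_univ J
  omega

/-- doubling a multiset on a transversal. -/
def dbl (σ : I → I) (J : Finset I) (ν : Multiset ↥J) : Multiset I :=
  ν.map (fun x : ↥J => x.1) + ν.map (fun x : ↥J => σ x.1)

omit [Fintype I] [DecidableEq I] in
theorem card_dbl (σ : I → I) (J : Finset I) (ν : Multiset ↥J) :
    Multiset.card (dbl σ J ν) = 2 * Multiset.card ν := by
  rw [dbl, Multiset.card_add, Multiset.card_map, Multiset.card_map, two_mul]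

omit [Fintype I] [DecidableEq I] in
theorem dbl_ne_zero (σ : I → I) (J : Finset I) {ν : Multiset ↥J} (h : ν ≠ 0) :
    dbl σ J ν ≠ 0 := by
  intro h0
  have h1 := congrArg Multiset.card h0
  rw [card_dbl, Multiset.card_zero] at h1
  exact h (Multiset.card_eq_zero.1 (by omega))

omit [Fintype I] [DecidableEq I] in
theorem map_dbl (σ : I → I) (hσ : Function.Involutive σ) (J : Finset I) (ν : Multiset ↥J) :
    (dbl σ J ν).map σ = dbl σ J ν := by
  rw [dbl, Multiset.map_add, Multiset.map_map, Multiset.map_map, add_comm]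
  congr 1
  apply Multiset.map_congr rfl
  intro x _
  exact hσ x.1

omit [Fintype I] in
theorem filter_dbl (σ : I → I) (J : Finset I) (hJ : ∀ x, x ∈ J ↔ σ x ∉ J) (ν : Multiset ↥J) :
    (dbl σ J ν).filter (fun x => x ∈ J) = ν.map (fun x : ↥J => x.1) := by
  rw [dbl, Multiset.filter_add, Multiset.filter_eq_self.2, Multiset.filter_eq_nil.2, add_zero]
  · intro x hx
    obtain ⟨y, -, rfl⟩ := Multiset.mem_map.1 hx
    exact (hJ y.1).1 y.2
  · intro x hx
    obtain ⟨y, -, rfl⟩ := Multiset.mem_map.1 hx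
    exact y.2

omit [Fintype I] in
theorem dbl_injective (σ : I → I) (J : Finset I) (hJ : ∀ x, x ∈ J ↔ σ x ∉ J) :
    Function.Injective (dbl σ J) := by
  intro ν ν' h
  have h1 := filter_dbl σ J hJ ν
  rw [h, filter_dbl σ J hJ ν'] at h1
  exact (Multiset.map_injective Subtype.val_injective h1).symm

omit [Fintype I] in
theorem exists_dbl_eq (σ : I → I) (J : Finset I) (hJ : ∀ x, x ∈ J ↔ σ x ∉ J)
    (μ : Multiset I) (hμ : μ.map σ = μ) : ∃ ν : Multiset ↥J, dbl σ J ν = μ := by
  set μ1 := μ.filter (fun x => x ∈ J) with hμ1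
  have hmem : ∀ x ∈ μ1, x ∈ J := fun x hx => (Multiset.mem_filter.1 hx).2
  refine ⟨μ1.pmap (fun x hx => (⟨x, hx⟩ : ↥J)) hmem, ?_⟩
  have h1 : (μ1.pmap (fun x hx => (⟨x, hx⟩ : ↥J)) hmem).map (fun x : ↥J => x.1) = μ1 := by
    rw [Multiset.map_pmap]
    have h5 := Multiset.pmap_eq_map (fun x : I => x ∈ J) (fun x : I => x) μ1 hmem
    rw [show Multiset.pmap (fun (a : I) (h : a ∈ J) => ((⟨a, h⟩ : ↥J)).1) μ1 hmem =
      Multiset.map (fun x : I => x) μ1 from h5]
    exact Multiset.map_id' μ1
  have h2 : (μ1.pmap (fun x hx => (⟨x, hx⟩ : ↥J)) hmem).map (fun x : ↥J => σ x.1) = μ1.map σ := by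
    conv_rhs => rw [← h1]
    rw [Multiset.map_map]
    rfl
  have h3 : μ1.map σ = μ.filter (fun x => ¬ x ∈ J) := by
    conv_rhs => rw [← hμ]
    rw [Multiset.filter_map, hμ1]
    congr 1
    apply Multiset.filter_congr
    intro x _
    exact hJ x
  rw [dbl, h1, h2, h3]
  exact Multiset.filter_add_not _ _

end Cfsg.Agent.Lib.Helper38.MCount
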