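import Mathlib

set_option autoImplicit false

namespace Cfsg.Agent.Lib.Helper38

open Equiv Equiv.Perm MulAction

variable {α : Type*}

/-- The subgroup of permutations preserving every orbit `{y, τ y}` of an involution `τ`. -/
def orbPres (τ : Perm α) (hτ2 : ∀ y, τ (τ y) = y) : Subgroup (Perm α) where
  carrier := {σ | ∀ y, σ y = y ∨ σ y = τ y}
  one_mem' := fun _ => Or.inl rfl
  mul_mem' := by
    intro a b ha hb y
    simp only [Perm.mul_apply]
    rcases hb y with h | h <;> rcases ha (b y) with h' | h' <;> rw [h'] <;> rw [h]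
    · exact Or.inl rfl
    · exact Or.inr rfl
    · exact Or.inr rfl
    · exact Or.inl (hτ2 y)
  inv_mem' := by
    intro a ha y
    have e : a (a⁻¹ y) = y := by simp
    rcases ha (a⁻¹ y) with h | h
    · left
      rw [e] at h
      exact h.symm
    · right
      rw [e] at h
      have h2 : τ y = a⁻¹ y := (congrArg τ h).trans (hτ2 _)
      exact h2.symm

theorem mem_orbPres {τ : Perm α} {hτ2 : ∀ y, τ (τ y) = y} {σ : Perm α} :
    σ ∈ orbPres τ hτ2 ↔ ∀ y, σ y = y ∨ σ y = τ y := Iff.rfl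

theorem orbPres_sq {τ : Perm α} {hτ2 : ∀ y, τ (τ y) = y} {σ : Perm α}
    (hσ : σ ∈ orbPres τ hτ2) : σ ^ 2 = 1 := by
  ext y
  simp only [pow_two, Perm.mul_apply, Perm.one_apply]
  rcases hσ y with h | h
  · rw [h, h]
  · rcases hσ (τ y) with h' | h'
    · -- σ (τ y) = τ y = σ y, so τ y = y
      have : τ y = y := σ.injective (h'.trans h.symm)
      rw [h, h', this]
    · rw [h, h', hτ2]

theorem isPGroup_orbPres (τ : Perm α) (hτ2 : ∀ y, τ (τ y) = y) : IsPGroup 2 (orbPres τ hτ2) := by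
  rintro ⟨σ, hσ⟩
  refine ⟨1, ?_⟩
  apply Subtype.ext
  simpa using orbPres_sq hσ

theorem isPGroup_zpowers_of_sq {G : Type*} [Group G] (v : G) (hv : v ^ 2 = 1) :
    IsPGroup 2 (Subgroup.zpowers v) := by
  rintro ⟨g, hg⟩
  obtain ⟨i, rfl⟩ := Subgroup.mem_zpowers_iff.mp hg
  refine ⟨1, ?_⟩
  apply Subtype.ext
  simp only [pow_one, SubmonoidClass.mk_pow, OneMemClass.coe_one]
  rw [← zpow_natCast, ← zpow_mul, mul_comm, zpow_mul, zpow_natCast, hv, one_zpow]

theorem isPGroup_sup_orbPres (τ : Perm α) (hτ2 : ∀ y, τ (τ y) = y) (v : Perm α) (hv : v ^ 2 = 1)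
    (hvτ : ∀ y, v (τ y) = τ (v y)) :
    IsPGroup 2 (Subgroup.zpowers v ⊔ orbPres τ hτ2 : Subgroup (Perm α)) := by
  apply IsPGroup.to_sup_of_normal_right' (isPGroup_zpowers_of_sq v hv) (isPGroup_orbPres τ hτ2)
  rw [Subgroup.zpowers_le]
  have key : ∀ w : Perm α, (∀ y, w (τ y) = τ (w y)) → ∀ σ ∈ orbPres τ hτ2,
      w * σ * w⁻¹ ∈ orbPres τ hτ2 := by
    intro w hw σ hσ y
    simp only [Perm.mul_apply]
    rcases hσ (w⁻¹ y) with h | h
    · left; rw [h]; simp
    · right; rw [h, hw]; simp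
  have hvinv : ∀ y, v⁻¹ (τ y) = τ (v⁻¹ y) := by
    intro y
    rw [Perm.inv_eq_iff_eq, hvτ]; simp
  rw [Subgroup.mem_normalizer_iff]
  intro σ
  constructor
  · exact key v hvτ σ
  · intro h
    have := key v⁻¹ hvinv _ h
    simpa [mul_assoc] using this

end Cfsg.Agent.Lib.Helper38
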