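import Mathlib

set_option autoImplicit false

/-! Counting multisets of bounded size. -/

namespace Cfsg.Agent.Lib.Helper38.MCount

variable (α : Type*) [Fintype α] [DecidableEq α]

theorem ncard_card_eq (j : ℕ) :
    {m : Multiset α | Multiset.card m = j}.ncard = Nat.multichoose (Fintype.card α) j := by
  rw [← Sym.card_sym_eq_multichoose α j, ← Nat.card_eq_fintype_card]
  rfl

theorem finite_card_eq (j : ℕ) : {m : Multiset α | Multiset.card m = j}.Finite := by
  have : Finite (Sym α j) := inferInstance
  exact Set.finite_coe_iff.1 this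

theorem finite_card_le (N : ℕ) : {m : Multiset α | Multiset.card m ≤ N}.Finite := by
  induction N with
  | zero =>
    apply (finite_card_eq α 0).subset
    intro m hm
    exact Nat.le_zero.1 hm
  | succ N ih =>
    apply (ih.union (finite_card_eq α (N + 1))).subset
    intro m hm
    rcases Nat.lt_or_ge (Multiset.card m) (N + 1) with h | h
    · exact Or.inl (Nat.lt_succ_iff.1 h)
    · exact Or.inr (le_antisymm hm h)

theorem ncard_card_le (N : ℕ) :
    {m : Multiset α | Multiset.card m ≤ N}.ncard = Nat.multichoose (Fintype.card α + 1) N := by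
  induction N with
  | zero =>
    have : {m : Multiset α | Multiset.card m ≤ 0} = {m : Multiset α | Multiset.card m = 0} := by
      ext m
      exact Nat.le_zero
    rw [this, ncard_card_eq]
    simp
  | succ N ih =>
    have : {m : Multiset α | Multiset.card m ≤ N + 1} =
        {m : Multiset α | Multiset.card m ≤ N} ∪ {m : Multiset α | Multiset.card m = N + 1} := by
      ext m
      simp only [Set.mem_ofPred_eq, Set.mem_union]
      omega
    rw [this, Set.ncard_union_eq _ (finite_card_le α N) (finite_card_eq α (N + 1)), ih,
      ncard_card_eq, Nat.multichoose_succ_succ, add_comm]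
    rw [Set.disjoint_left]
    intro m h1 h2
    simp only [Set.mem_ofPred_eq] at h1 h2
    omega

theorem card_nonzero_le (N : ℕ) :
    Nat.card {m : Multiset α // m ≠ 0 ∧ Multiset.card m ≤ N} =
      (N + Fintype.card α).choose (Fintype.card α) - 1 := by
  have h1 : {m : Multiset α | m ≠ 0 ∧ Multiset.card m ≤ N} =
      {m : Multiset α | Multiset.card m ≤ N} \ {0} := by
    ext m
    simp only [Set.mem_ofPred_eq, Set.mem_diff, Set.mem_singleton_iff]
    tauto
  have h2 : Nat.card {m : Multiset α // m ≠ 0 ∧ Multiset.card m ≤ N} =
      {m : Multiset α | m ≠ 0 ∧ Multiset.card m ≤ N}.ncard := rfl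
  rw [h2, h1, Set.ncard_diff_singleton_of_mem (by simp), ncard_card_le, Nat.multichoose_eq]
  congr 1
  rw [show Fintype.card α + 1 + N - 1 = N + Fintype.card α by omega, Nat.choose_symm_add]

end Cfsg.Agent.Lib.Helper38.MCount
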