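import Mathlib
import Cfsg.Agent.Lib.Helper38.CycFactors
import Cfsg.Agent.Lib.Helper38.MultisetCount
import Cfsg.Agent.Lib.Helper45.SimSS
import Cfsg.Agent.Lib.Helper45.SimGL

set_option autoImplicit false

/-! Similarity types of the elements of prime order `r` of `GL_n(q)`. -/

namespace Cfsg.Agent.Lib.Helper38.CycF

open Polynomial Cfsg.Agent.Lib.Helper45

variable {F : Type*} [Field F]

/-- the type attached to a multiset of irreducible factors of the cyclotomic polynomial. -/
noncomputable def tau (n i r : ℕ) (m : Multiset ↥(facs F r)) : Multiset (F[X] × ℕ) :=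
  (m.map (fun P : ↥(facs F r) => ((P.1, 1) : F[X] × ℕ))) +
    Multiset.replicate (n - i * Multiset.card m) ((X - 1 : F[X]), 1)

theorem ne_X_sub_one (p : ℕ) [hp : Fact p.Prime] [CharP F p] {r : ℕ} (hr : r.Prime)
    (hrp : r ≠ p) {P : F[X]} (hP : P ∈ facs F r) : P ≠ X - 1 := by
  rintro rfl
  exact not_dvd_X_sub_one p hr hrp hP dvd_rfl

open Classical in
theorem filter_tau (p : ℕ) [hp : Fact p.Prime] [CharP F p] {r : ℕ} (hr : r.Prime)
    (hrp : r ≠ p) (n i : ℕ) (m : Multiset ↥(facs F r)) :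
    (tau n i r m).filter (fun x => x.1 ≠ X - 1) = m.map (fun P : ↥(facs F r) => ((P.1, 1) : F[X] × ℕ)) := by
  rw [tau, Multiset.filter_add, Multiset.filter_eq_self.2, Multiset.filter_eq_nil.2, add_zero]
  · intro x hx
    rw [Multiset.eq_of_mem_replicate hx]
    simp
  · intro x hx
    obtain ⟨P, -, rfl⟩ := Multiset.mem_map.1 hx
    exact ne_X_sub_one p hr hrp P.2

theorem tau_injective (p : ℕ) [hp : Fact p.Prime] [CharP F p] {r : ℕ} (hr : r.Prime)
    (hrp : r ≠ p) (n i : ℕ) : Function.Injective (tau (F := F) n i r) := by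
  classical
  intro m m' h
  have h1 := filter_tau p hr hrp n i m
  have h2 := filter_tau p hr hrp n i m'
  rw [h, h2] at h1
  refine Multiset.map_injective ?_ h1.symm
  intro P Q hPQ
  exact Subtype.ext (congrArg Prod.fst hPQ)

theorem mem_tau {n i r : ℕ} {m : Multiset ↥(facs F r)} {x : F[X] × ℕ} (hx : x ∈ tau n i r m) :
    x.2 = 1 ∧ (x.1 = X - 1 ∨ x.1 ∈ facs F r) := by
  rw [tau, Multiset.mem_add] at hx
  rcases hx with hx | hx
  · obtain ⟨P, -, rfl⟩ := Multiset.mem_map.1 hx
    exact ⟨rfl, Or.inr P.2⟩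
  · rw [Multiset.eq_of_mem_replicate hx]
    exact ⟨rfl, Or.inl rfl⟩

variable [Fintype F]

/-- every `tau m` is the type of an element of order `r`. -/
theorem exists_of_tau (p : ℕ) [hp : Fact p.Prime] [CharP F p] {r : ℕ} (hr : r.Prime)
    (hrp : r ≠ p) (n i : ℕ) (hi : i = orderOf ((Fintype.card F : ℕ) : ZMod r))
    (m : Multiset ↥(facs F r)) (hm0 : m ≠ 0) (hm : i * Multiset.card m ≤ n) :
    ∃ g : GL (Fin n) F, orderOf g = r ∧ typ (g : Matrix (Fin n) (Fin n) F) = tau n i r m := by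
  have hX1 : (X - 1 : F[X]) = X - C 1 := by simp
  have hvalid : ∀ x ∈ tau n i r m, x.1.Monic ∧ Irreducible x.1 ∧ 1 ≤ x.2 := by
    intro x hx
    obtain ⟨h2, h1 | h1⟩ := mem_tau hx
    · rw [h1, h2, hX1]
      exact ⟨monic_X_sub_C 1, irreducible_X_sub_C 1, le_rfl⟩
    · obtain ⟨h3, h4, -⟩ := mem_facs_iff.1 h1
      exact ⟨h4, h3, h2.ge⟩
  have hdeg : ((tau n i r m).map (fun x => x.2 * x.1.natDegree)).sum = Fintype.card (Fin n) := by
    rw [tau, Multiset.map_add, Multiset.sum_add, Multiset.map_map, Multiset.map_replicate,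
      Multiset.sum_replicate, Fintype.card_fin]
    have h1 : (m.map ((fun x : F[X] × ℕ => x.2 * x.1.natDegree) ∘
        (fun P : ↥(facs F r) => ((P.1, 1) : F[X] × ℕ)))) = m.map (fun _ => i) := by
      apply Multiset.map_congr rfl
      intro P _
      simp only [Function.comp_apply, one_mul]
      rw [natDegree_of_mem p hr hrp P.2, hi]
    rw [h1, Multiset.map_const', Multiset.sum_replicate, hX1, natDegree_X_sub_C]
    simp only [smul_eq_mul, mul_one]
    rw [mul_comm]
    omega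
  obtain ⟨A, hA⟩ := exists_hasType_of_valid (n := Fin n) (tau n i r m) hvalid hdeg
  have hAr : A ^ r = 1 := by
    have h0 : aeval A (X ^ r - 1 : F[X]) = 0 := by
      rw [hA.aeval_eq_zero_iff]
      intro x hx
      obtain ⟨h2, h1⟩ := mem_tau hx
      obtain ⟨h3, h4, -⟩ := hvalid x hx
      rw [h2, pow_one]
      exact (dvd_X_pow_sub_one_iff hr h4 h3).2 h1
    simpa [sub_eq_zero] using h0
  refine ⟨Units.ofPowEqOne A r hAr hr.ne_zero, ?_, hA.typ_eq⟩
  have : Fact r.Prime := ⟨hr⟩
  apply orderOf_eq_prime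
  · apply Units.ext
    rw [Units.val_pow_eq_pow_val]
    exact hAr
  · intro h1
    have hA1 : A = 1 := congrArg Units.val h1
    have h0 : aeval A (X - 1 : F[X]) = 0 := by simp [hA1]
    rw [hA.aeval_eq_zero_iff] at h0
    obtain ⟨P, hP⟩ := Multiset.exists_mem_of_ne_zero hm0
    have h2 := h0 (P.1, 1) (by
      rw [tau, Multiset.mem_add]
      exact Or.inl (Multiset.mem_map.2 ⟨P, hP, rfl⟩))
    rw [pow_one] at h2
    exact not_dvd_X_sub_one p hr hrp P.2 h2

/-- the type of an element of order `r` is some `tau m`. -/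
theorem typ_eq_tau (p : ℕ) [hp : Fact p.Prime] [CharP F p] {r : ℕ} (hr : r.Prime)
    (hrp : r ≠ p) (n i : ℕ) (hi : i = orderOf ((Fintype.card F : ℕ) : ZMod r))
    (g : GL (Fin n) F) (hg : orderOf g = r) :
    ∃ m : Multiset ↥(facs F r), m ≠ 0 ∧ i * Multiset.card m ≤ n ∧
      typ (g : Matrix (Fin n) (Fin n) F) = tau n i r m := by
  classical
  have hX1 : (X - 1 : F[X]) = X - C 1 := by simp
  set A := (g : Matrix (Fin n) (Fin n) F) with hAdef
  have hAr : A ^ r = 1 := by
    rw [hAdef, ← Units.val_pow_eq_pow_val, ← hg, pow_orderOf_eq_one]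
    rfl
  set T := typ A with hT
  have hA : HasType A T := hasType_typ A
  have hrF : (r : F) ≠ 0 := by
    rw [Ne, CharP.cast_eq_zero_iff F p]
    intro h
    exact hrp ((Nat.prime_dvd_prime_iff_eq hp.out hr).1 h).symm
  obtain ⟨hss1, hss2⟩ := hA.mem_ssTypes_of_pow_eq_one hrF hAr
  rw [Fintype.card_fin] at hss2
  have hdiv : ∀ x ∈ T, x.1 = X - 1 ∨ x.1 ∈ facs F r := by
    have h0 : aeval A (X ^ r - 1 : F[X]) = 0 := by simp [hAr]
    rw [hA.aeval_eq_zero_iff] at h0
    intro x hx
    obtain ⟨h1, h2, -, h4⟩ := hss1 x hx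
    have := h0 x hx
    rw [h4, pow_one] at this
    exact (dvd_X_pow_sub_one_iff hr h2 h1).1 this
  set T1 := T.filter (fun x => x.1 ≠ X - 1) with hT1
  set T2 := T.filter (fun x => ¬ x.1 ≠ X - 1) with hT2
  have hsplit : T1 + T2 = T := Multiset.filter_add_not _ _
  have hT1mem : ∀ x ∈ T1, x.1 ∈ facs F r := by
    intro x hx
    obtain ⟨h1, h2⟩ := Multiset.mem_filter.1 hx
    exact (hdiv x h1).resolve_left h2
  have hT2rep : T2 = Multiset.replicate (Multiset.card T2) ((X - 1 : F[X]), 1) := by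
    rw [Multiset.eq_replicate_card]
    intro x hx
    obtain ⟨h1, h2⟩ := Multiset.mem_filter.1 hx
    exact Prod.ext (not_not.1 h2) (hss1 x h1).2.2.2
  set m : Multiset ↥(facs F r) := T1.pmap (fun x hx => (⟨x.1, hx⟩ : ↥(facs F r))) hT1mem with hm
  have hmmap : m.map (fun P : ↥(facs F r) => ((P.1, 1) : F[X] × ℕ)) = T1 := by
    rw [hm, Multiset.map_pmap]
    have h5 := Multiset.pmap_eq_map (fun x : F[X] × ℕ => x.1 ∈ facs F r)
      (fun x : F[X] × ℕ => ((x.1, 1) : F[X] × ℕ)) T1 hT1mem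
    rw [show Multiset.pmap (fun (a : F[X] × ℕ) (h : a.1 ∈ facs F r) =>
      (((⟨a.1, h⟩ : ↥(facs F r)).1, 1) : F[X] × ℕ)) T1 hT1mem =
      Multiset.map (fun x : F[X] × ℕ => ((x.1, 1) : F[X] × ℕ)) T1 from h5]
    conv_rhs => rw [← Multiset.map_id T1]
    apply Multiset.map_congr rfl
    intro x hx
    exact Prod.ext rfl (hss1 x (Multiset.mem_filter.1 hx).1).2.2.2.symm
  have hcard : Multiset.card m = Multiset.card T1 := Multiset.card_pmap _ _ _
  have hsum : i * Multiset.card T1 + Multiset.card T2 = n := by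
    rw [← hss2, ← hsplit, Multiset.map_add, Multiset.sum_add]
    congr 1
    · have h1 : T1.map (fun x => x.1.natDegree) = T1.map (fun _ => i) := by
        apply Multiset.map_congr rfl
        intro x hx
        rw [natDegree_of_mem p hr hrp (hT1mem x hx), hi]
      rw [h1, Multiset.map_const', Multiset.sum_replicate, smul_eq_mul, mul_comm]
    · conv_rhs => rw [hT2rep]
      rw [Multiset.map_replicate, Multiset.sum_replicate, hX1, natDegree_X_sub_C, smul_eq_mul,
        mul_one]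
  refine ⟨m, ?_, by rw [hcard]; omega, ?_⟩
  · intro hm0
    have hT10 : T1 = 0 := by rw [← hmmap, hm0, Multiset.map_zero]
    have h0 : aeval A (X - 1 : F[X]) = 0 := by
      rw [hA.aeval_eq_zero_iff]
      intro x hx
      rw [← hsplit, hT10, zero_add, hT2rep] at hx
      rw [Multiset.eq_of_mem_replicate hx, pow_one]
    have hA1 : A = 1 := by simpa [sub_eq_zero] using h0
    have hg1 : g = 1 := Units.ext hA1
    rw [hg1, orderOf_one] at hg
    exact hr.one_lt.ne hg
  · rw [tau, hmmap, hcard, show n - i * Multiset.card T1 = Multiset.card T2 by omega, ← hT2rep,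
      hsplit]

end Cfsg.Agent.Lib.Helper38.CycF
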