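import Mathlib
import Cfsg.Agent.Lib.Helper38.CycFactors

set_option autoImplicit false

/-! The reciprocal polynomial on the irreducible factors of `X ^ r - 1`. -/

namespace Cfsg.Agent.Lib.Helper38.CycF

open Polynomial

variable {F : Type*} [Field F]

theorem natDegree_reverse_of_coeff_zero_ne {P : F[X]} (h0 : P.coeff 0 ≠ 0) :
    P.reverse.natDegree = P.natDegree := by
  rw [reverse_natDegree, natTrailingDegree_eq_zero.2 (Or.inr h0), Nat.sub_zero]

theorem reverse_reverse_of_coeff_zero_ne {P : F[X]} (h0 : P.coeff 0 ≠ 0) :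
    P.reverse.reverse = P := by
  rw [reverse, natDegree_reverse_of_coeff_zero_ne h0, reverse, reflect_reflect]

theorem eval_one_reverse (f : F[X]) : f.reverse.eval 1 = f.eval 1 := by
  let _ : Invertible (1 : F) := invertibleOne
  have h := eval₂_reverse_mul_pow (RingHom.id F) (1 : F) f
  simpa [eval₂_id] using h

theorem eval_neg_one_reverse (f : F[X]) :
    f.reverse.eval (-1) * (-1) ^ f.natDegree = f.eval (-1) := by
  let _ : Invertible (-1 : F) := ⟨-1, by simp, by simp⟩
  have h := eval₂_reverse_mul_pow (RingHom.id F) (-1) f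
  have h2 : ⅟(-1 : F) = -1 := rfl
  rw [h2] at h
  simpa [eval₂_id] using h

/-- the monic reciprocal polynomial. -/
noncomputable def starP (P : F[X]) : F[X] := C (P.coeff 0)⁻¹ * P.reverse

theorem reverse_eq_C_mul_starP {P : F[X]} (h0 : P.coeff 0 ≠ 0) :
    P.reverse = C (P.coeff 0) * starP P := by
  rw [starP, ← mul_assoc, ← C_mul, mul_inv_cancel₀ h0, C_1, one_mul]

theorem irreducible_reverse {P : F[X]} (hP : Irreducible P) (h0 : P.coeff 0 ≠ 0) :
    Irreducible P.reverse := by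
  have key : ∀ a b : F[X], P.reverse = a * b → IsUnit a.reverse → IsUnit a := by
    intro a b hab hu
    have hc : (a * b).coeff 0 ≠ 0 := by
      rw [← hab, coeff_zero_reverse]
      exact leadingCoeff_ne_zero.2 hP.ne_zero
    rw [mul_coeff_zero] at hc
    have ha0 : a.coeff 0 ≠ 0 := left_ne_zero_of_mul hc
    have hane : a ≠ 0 := by
      rintro rfl
      simp at ha0
    have h1 := natDegree_eq_zero_of_isUnit hu
    rw [natDegree_reverse_of_coeff_zero_ne ha0] at h1
    rw [isUnit_iff_degree_eq_zero, degree_eq_natDegree hane, h1]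
    rfl
  constructor
  · intro hu
    have h1 := natDegree_eq_zero_of_isUnit hu
    rw [natDegree_reverse_of_coeff_zero_ne h0] at h1
    exact hP.natDegree_pos.ne' h1
  · intro a b hab
    have h1 : P = a.reverse * b.reverse := by
      rw [← reverse_mul_of_domain, ← hab, reverse_reverse_of_coeff_zero_ne h0]
    rcases hP.isUnit_or_isUnit h1 with h | h
    · exact Or.inl (key a b hab h)
    · exact Or.inr (key b a (by rw [hab, mul_comm]) h)

theorem coeff_zero_ne_zero_of_mem {r : ℕ} (hr : r.Prime) {P : F[X]} (hP : P ∈ facs F r) :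
    P.coeff 0 ≠ 0 := by
  intro h0
  obtain ⟨h1, h2, h3⟩ := mem_facs_iff.1 hP
  have hX : (X : F[X]) ∣ P := X_dvd_iff.2 h0
  have h4 : (X : F[X]) ∣ X ^ r - 1 := hX.trans ((dvd_X_pow_sub_one_iff hr h1 h2).2 (Or.inr hP))
  rw [X_dvd_iff] at h4
  simp [hr.ne_zero.symm] at h4

theorem eval_one_ne_zero_of_mem (p : ℕ) [hp : Fact p.Prime] [CharP F p] {r : ℕ} (hr : r.Prime)
    (hrp : r ≠ p) {P : F[X]} (hP : P ∈ facs F r) : P.eval 1 ≠ 0 := by
  intro h0
  obtain ⟨h1, h2, h3⟩ := mem_facs_iff.1 hP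
  have h4 : (X - C 1 : F[X]) ∣ P := dvd_iff_isRoot.2 h0
  have h5 := ((irreducible_X_sub_C (1 : F)).associated_of_dvd h1 h4).symm.dvd
  exact not_dvd_X_sub_one p hr hrp hP (by simpa using h5)

theorem reverse_X_pow_sub_one {r : ℕ} (hr : r ≠ 0) :
    (X ^ r - 1 : F[X]).reverse = -(X ^ r - 1) := by
  have h1 : (X ^ r - 1 : F[X]).natDegree = r := by
    have := natDegree_X_pow_sub_C (R := F) (n := r) (r := 1)
    simpa using this
  rw [reverse, h1, reflect_sub, reflect_monomial, reflect_one, revAt_le le_rfl]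
  simp

theorem monic_starP {P : F[X]} (h0 : P.coeff 0 ≠ 0) : (starP P).Monic := by
  rw [Monic, starP, leadingCoeff_mul, leadingCoeff_C, reverse_leadingCoeff, trailingCoeff,
    natTrailingDegree_eq_zero.2 (Or.inr h0), inv_mul_cancel₀ h0]

theorem irreducible_starP {P : F[X]} (hP : Irreducible P) (h0 : P.coeff 0 ≠ 0) :
    Irreducible (starP P) := by
  have hu : IsUnit (C (P.coeff 0)⁻¹ : F[X]) := isUnit_C.2 (isUnit_iff_ne_zero.2 (inv_ne_zero h0))
  exact (irreducible_isUnit_mul hu).2 (irreducible_reverse hP h0)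

theorem starP_mem (p : ℕ) [hp : Fact p.Prime] [CharP F p] {r : ℕ} (hr : r.Prime)
    (hrp : r ≠ p) {P : F[X]} (hP : P ∈ facs F r) : starP P ∈ facs F r := by
  have h0 := coeff_zero_ne_zero_of_mem hr hP
  obtain ⟨h1, h2, h3⟩ := mem_facs_iff.1 hP
  have h4 : P ∣ X ^ r - 1 := (dvd_X_pow_sub_one_iff hr h1 h2).2 (Or.inr hP)
  have h5 : starP P ∣ X ^ r - 1 := by
    obtain ⟨Q, hQ⟩ := h4
    have h6 := congrArg reverse hQ
    rw [reverse_X_pow_sub_one hr.ne_zero, reverse_mul_of_domain, reverse_eq_C_mul_starP h0] at h6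
    refine ⟨-(C (P.coeff 0) * Q.reverse), ?_⟩
    rw [← neg_neg (X ^ r - 1 : F[X]), h6]
    ring
  rcases (dvd_X_pow_sub_one_iff hr (irreducible_starP h1 h0) (monic_starP h0)).1 h5 with h | h
  · exfalso
    have h6 : (starP P).eval 1 = 0 := by rw [h]; simp
    rw [starP, eval_mul, eval_C, eval_one_reverse] at h6
    rcases mul_eq_zero.1 h6 with h7 | h7
    · exact inv_ne_zero h0 h7
    · exact eval_one_ne_zero_of_mem p hr hrp hP h7
  · exact h

theorem starP_starP {P : F[X]} (hm : P.Monic) (h0 : P.coeff 0 ≠ 0) : starP (starP P) = P := by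
  have h1 : (starP P).coeff 0 = (P.coeff 0)⁻¹ := by
    rw [starP, mul_coeff_zero, coeff_C_zero, coeff_zero_reverse, hm.leadingCoeff, mul_one]
  have h2 : (starP P).reverse = C (P.coeff 0)⁻¹ * P := by
    rw [starP, reverse_mul_of_domain, reverse_C, reverse_reverse_of_coeff_zero_ne h0]
  rw [starP, h1, h2, inv_inv, ← mul_assoc, ← C_mul, mul_inv_cancel₀ h0, C_1, one_mul]

/-- a self-reciprocal factor is palindromic. -/
theorem reverse_eq_self_of_starP_eq (p : ℕ) [hp : Fact p.Prime] [CharP F p] {r : ℕ}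
    (hr : r.Prime) (hrp : r ≠ p) {P : F[X]} (hP : P ∈ facs F r) (hs : starP P = P) :
    P.reverse = P := by
  have h0 := coeff_zero_ne_zero_of_mem hr hP
  have h1 := reverse_eq_C_mul_starP h0
  rw [hs] at h1
  have h2 := congrArg (eval 1) h1
  rw [eval_one_reverse, eval_mul, eval_C] at h2
  have h3 : P.coeff 0 = 1 := by
    have h4 := eval_one_ne_zero_of_mem p hr hrp hP
    have h5 : (P.coeff 0 - 1) * P.eval 1 = 0 := by rw [sub_mul, ← h2, one_mul, sub_self]
    rcases mul_eq_zero.1 h5 with h | h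
    · exact sub_eq_zero.1 h
    · exact absurd h h4
  rw [h1, h3, C_1, one_mul]

theorem eval_neg_one_eq_zero_of_reverse_eq {P : F[X]} (hP : P.reverse = P)
    (hodd : Odd P.natDegree) : P.eval (-1) = 0 := by
  rw [eval_eq_sum_range]
  apply Finset.sum_involution (fun k _ => P.natDegree - k)
  · intro k hk
    have hk' : k ≤ P.natDegree := Nat.lt_succ_iff.1 (Finset.mem_range.1 hk)
    have h1 : P.coeff (P.natDegree - k) = P.coeff k := by
      conv_rhs => rw [← hP]
      rw [coeff_reverse, revAt_le hk']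
    rw [h1, ← mul_add]
    have h2 : ((-1 : F)) ^ k + (-1) ^ (P.natDegree - k) = 0 := by
      rcases Nat.even_or_odd k with hke | hko
      · have : Odd (P.natDegree - k) := by
          rw [Nat.odd_sub hk']
          simp only [hodd, true_iff]
          exact hke
        rw [hke.neg_one_pow, this.neg_one_pow]
        ring
      · have : Even (P.natDegree - k) := by
          rw [Nat.even_sub hk']
          constructor
          · intro h; exact absurd hodd (Nat.not_odd_iff_even.2 h)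
          · intro h; exact absurd hko (Nat.not_odd_iff_even.2 h)
        rw [hko.neg_one_pow, this.neg_one_pow]
        ring
    rw [h2, mul_zero]
  · intro k hk _ h
    have hk' : k ≤ P.natDegree := Nat.lt_succ_iff.1 (Finset.mem_range.1 hk)
    obtain ⟨j, hj⟩ := hodd
    omega
  · intro k hk
    rw [Finset.mem_range]
    omega
  · intro k hk
    have hk' : k ≤ P.natDegree := Nat.lt_succ_iff.1 (Finset.mem_range.1 hk)
    omega

theorem starP_ne_of_odd (p : ℕ) [hp : Fact p.Prime] [CharP F p] {r : ℕ}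
    (hr : r.Prime) (hr2 : r ≠ 2) (hrp : r ≠ p) {P : F[X]} (hP : P ∈ facs F r)
    (hodd : Odd P.natDegree) : starP P ≠ P := by
  intro hs
  have h1 := reverse_eq_self_of_starP_eq p hr hrp hP hs
  have h2 := eval_neg_one_eq_zero_of_reverse_eq h1 hodd
  obtain ⟨h3, h4, -⟩ := mem_facs_iff.1 hP
  have h5 : P ∣ X ^ r - 1 := (dvd_X_pow_sub_one_iff hr h3 h4).2 (Or.inr hP)
  have h6 : (X ^ r - 1 : F[X]).eval (-1) = 0 := eval_eq_zero_of_dvd_of_eval_eq_zero h5 h2
  have hrodd : Odd r := hr.odd_of_ne_two hr2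
  simp only [eval_sub, eval_pow, eval_X, eval_one, hrodd.neg_one_pow] at h6
  have h7 : (-1 : F) = 1 := sub_eq_zero.1 h6
  rw [h7] at h2
  exact eval_one_ne_zero_of_mem p hr hrp hP h2

theorem aeval_pow_card_pow [Fintype F] {K : Type*} [CommRing K] [Algebra F K] (P : F[X]) (x : K)
    (hx : aeval x P = 0) (j : ℕ) : aeval (x ^ (Fintype.card F ^ j)) P = 0 := by
  induction j with
  | zero => simpa using hx
  | succ j ih =>
    rw [pow_succ, pow_mul, ← expand_aeval, FiniteField.expand_card, map_pow, ih,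
      zero_pow Fintype.card_ne_zero]

theorem dvd_pow_half_add_one {r q : ℕ} (hr : r.Prime) (hq : ¬ r ∣ q)
    (heven : Even (orderOf (q : ZMod r))) : r ∣ q ^ (orderOf (q : ZMod r) / 2) + 1 := by
  have : Fact r.Prime := ⟨hr⟩
  set i := orderOf (q : ZMod r) with hi
  have hi0 : 0 < i := by
    rw [hi, orderOf_pos_iff, isOfFinOrder_iff_pow_eq_one]
    refine ⟨r - 1, Nat.sub_pos_of_lt hr.one_lt, ?_⟩
    apply ZMod.pow_card_sub_one_eq_one
    rwa [Ne, ZMod.natCast_eq_zero_iff]
  obtain ⟨j, hj⟩ := heven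
  have hj2 : i / 2 = j := by omega
  rw [hj2]
  have h1 : ((q : ZMod r) ^ j) * ((q : ZMod r) ^ j) = 1 := by
    rw [← pow_add, ← hj, hi, pow_orderOf_eq_one]
  have h2 : (q : ZMod r) ^ j ≠ 1 := pow_ne_one_of_lt_orderOf (by omega) (by omega)
  have h3 : (q : ZMod r) ^ j = -1 := (mul_self_eq_one_iff.1 h1).resolve_left h2
  rw [← ZMod.natCast_eq_zero_iff]
  push_cast
  rw [h3]
  ring

theorem starP_eq_of_even [Fintype F] (p : ℕ) [hp : Fact p.Prime] [CharP F p] {r : ℕ}
    (hr : r.Prime) (hrp : r ≠ p) {P : F[X]} (hP : P ∈ facs F r)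
    (heven : Even (orderOf ((Fintype.card F : ℕ) : ZMod r))) : starP P = P := by
  have h0 := coeff_zero_ne_zero_of_mem hr hP
  obtain ⟨h1, h2, -⟩ := mem_facs_iff.1 hP
  have h5 : P ∣ X ^ r - 1 := (dvd_X_pow_sub_one_iff hr h1 h2).2 (Or.inr hP)
  have hrq : ¬ r ∣ Fintype.card F := by
    intro h
    obtain ⟨⟨f, hf0⟩, -, hf⟩ := FiniteField.card F p
    rw [hf] at h
    exact hrp ((Nat.prime_dvd_prime_iff_eq hr hp.out).1 (hr.dvd_of_dvd_pow h))
  obtain ⟨c, hc⟩ := dvd_pow_half_add_one hr hrq heven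
  set j := orderOf ((Fintype.card F : ℕ) : ZMod r) / 2 with hj
  have : Fact (Irreducible P) := ⟨h1⟩
  set ζ := AdjoinRoot.root P with hζ
  have hroot : aeval ζ P = 0 := by
    rw [AdjoinRoot.aeval_eq, AdjoinRoot.mk_self]
  have hζr : ζ ^ r = 1 := by
    have h6 : aeval ζ (X ^ r - 1 : F[X]) = 0 := by
      obtain ⟨Q, hQ⟩ := h5
      rw [hQ, map_mul, hroot, zero_mul]
    simpa [sub_eq_zero] using h6
  have hinv : ζ ^ (Fintype.card F ^ j) * ζ = 1 := by
    rw [← pow_succ, hc, pow_mul, hζr, one_pow]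
  have h7 := aeval_pow_card_pow P ζ hroot j
  let _ : Invertible (ζ ^ (Fintype.card F ^ j)) := ⟨ζ, by rw [mul_comm]; exact hinv, hinv⟩
  have h8 := (eval₂_reverse_eq_zero_iff (algebraMap F (AdjoinRoot P)) (ζ ^ (Fintype.card F ^ j)) P).2 h7
  have h9 : ⅟(ζ ^ (Fintype.card F ^ j)) = ζ := rfl
  rw [h9] at h8
  have h10 : aeval ζ P.reverse = 0 := h8
  rw [AdjoinRoot.aeval_eq, AdjoinRoot.mk_eq_zero, reverse_eq_C_mul_starP h0] at h10
  have hu : IsUnit (C (P.coeff 0) : F[X]) := isUnit_C.2 (isUnit_iff_ne_zero.2 h0)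
  have h11 : P ∣ starP P := (hu.dvd_mul_left).1 h10
  exact (eq_of_monic_of_associated h2 (monic_starP h0)
    (h1.associated_of_dvd (irreducible_starP h1 h0) h11)).symm

end Cfsg.Agent.Lib.Helper38.CycF
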