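import Mathlib
import Cfsg.Agent.Lib.Helper38.OrderRTypes
import Cfsg.Agent.Lib.Helper38.StarFacs

set_option autoImplicit false

/-! Similarity types of matrices of prime order `r` (arbitrary index type), and the behaviour of
their characteristic polynomials under the reciprocal map. -/

namespace Cfsg.Agent.Lib.Helper38.CycF

open Polynomial Cfsg.Agent.Lib.Helper45 UniqueFactorizationMonoid

variable {F : Type*} [Field F]

/-- the product of a multiset of factors. -/
noncomputable def f0 {r : ℕ} (m : Multiset ↥(facs F r)) : F[X] :=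
  (m.map (fun P : ↥(facs F r) => P.1)).prod

theorem f0_cons {r : ℕ} (P : ↥(facs F r)) (m : Multiset ↥(facs F r)) :
    f0 (P ::ₘ m) = P.1 * f0 m := by
  rw [f0, Multiset.map_cons, Multiset.prod_cons, f0]

theorem f0_zero {r : ℕ} : f0 (0 : Multiset ↥(facs F r)) = 1 := by
  rw [f0, Multiset.map_zero, Multiset.prod_zero]

theorem monic_f0 {r : ℕ} (m : Multiset ↥(facs F r)) : (f0 m).Monic := by
  apply monic_multiset_prod_of_monic
  intro P _
  exact (mem_facs_iff.1 P.2).2.1

theorem f0_injective {r : ℕ} : Function.Injective (f0 (F := F) (r := r)) := by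
  classical
  intro m m' h
  have key : ∀ m : Multiset ↥(facs F r), normalizedFactors (f0 m) =
      m.map (fun P : ↥(facs F r) => P.1) := by
    intro m
    rw [f0, normalizedFactors_prod_eq, Multiset.map_map]
    · apply Multiset.map_congr rfl
      intro P _
      exact (mem_facs_iff.1 P.2).2.1.normalize_eq_self
    · intro f hf
      obtain ⟨P, -, rfl⟩ := Multiset.mem_map.1 hf
      exact (mem_facs_iff.1 P.2).1
  have h1 := key m
  rw [h, key m'] at h1
  exact (Multiset.map_injective Subtype.val_injective h1).symm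

theorem prod_tau (n i r : ℕ) (m : Multiset ↥(facs F r)) :
    ((tau n i r m).map Prod.fst).prod = f0 m * (X - 1) ^ (n - i * Multiset.card m) := by
  rw [tau, Multiset.map_add, Multiset.prod_add, Multiset.map_map, Multiset.map_replicate,
    Multiset.prod_replicate]
  rfl

theorem reverse_one' : (1 : F[X]).reverse = 1 := by
  have := reverse_C (1 : F)
  simpa using this

/-- the reciprocal map on the factors. -/
noncomputable def starI (p : ℕ) [hp : Fact p.Prime] [CharP F p] {r : ℕ} (hr : r.Prime)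
    (hrp : r ≠ p) (P : ↥(facs F r)) : ↥(facs F r) := ⟨starP P.1, starP_mem p hr hrp P.2⟩

theorem starI_starI (p : ℕ) [hp : Fact p.Prime] [CharP F p] {r : ℕ} (hr : r.Prime)
    (hrp : r ≠ p) (P : ↥(facs F r)) : starI p hr hrp (starI p hr hrp P) = P :=
  Subtype.ext (starP_starP (mem_facs_iff.1 P.2).2.1 (coeff_zero_ne_zero_of_mem hr P.2))

theorem reverse_f0 (p : ℕ) [hp : Fact p.Prime] [CharP F p] {r : ℕ} (hr : r.Prime)
    (hrp : r ≠ p) (m : Multiset ↥(facs F r)) :
    ∃ c : F, (f0 m).reverse = C c * f0 (m.map (starI p hr hrp)) := by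
  induction m using Multiset.induction_on with
  | empty => exact ⟨1, by simp [f0_zero, reverse_one']⟩
  | cons P m ih =>
    obtain ⟨c, hc⟩ := ih
    refine ⟨P.1.coeff 0 * c, ?_⟩
    rw [f0_cons, reverse_mul_of_domain, hc, Multiset.map_cons, f0_cons,
      reverse_eq_C_mul_starP (coeff_zero_ne_zero_of_mem hr P.2), C_mul]
    show _ = C (P.1.coeff 0) * C c * (starP P.1 * _)
    ring

theorem eval_one_f0_ne_zero (p : ℕ) [hp : Fact p.Prime] [CharP F p] {r : ℕ} (hr : r.Prime)
    (hrp : r ≠ p) (m : Multiset ↥(facs F r)) : (f0 m).eval 1 ≠ 0 := by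
  induction m using Multiset.induction_on with
  | empty => simp [f0_zero]
  | cons P m ih =>
    rw [f0_cons, eval_mul]
    exact mul_ne_zero (eval_one_ne_zero_of_mem p hr hrp P.2) ih

theorem reverse_X_sub_one_pow (k : ℕ) :
    ((X - 1 : F[X]) ^ k).reverse = C ((-1) ^ k) * (X - 1) ^ k := by
  induction k with
  | zero => simp [reverse_one']
  | succ k ih =>
    have h1 : (X - 1 : F[X]).reverse = -(X - 1) := by
      have := reverse_X_pow_sub_one (F := F) (r := 1) one_ne_zero
      simpa using this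
    rw [pow_succ, reverse_mul_of_domain, ih, h1, pow_succ, C_mul]
    simp only [map_neg, map_one, map_pow]
    ring

/-- a palindromic characteristic polynomial forces a self-dual multiset. -/
theorem map_starI_eq_of_reverse_eq (p : ℕ) [hp : Fact p.Prime] [CharP F p] {r : ℕ} (hr : r.Prime)
    (hrp : r ≠ p) (m : Multiset ↥(facs F r)) (k : ℕ)
    (h : (f0 m * (X - 1) ^ k).reverse = f0 m * (X - 1) ^ k) : m.map (starI p hr hrp) = m := by
  obtain ⟨c, hc⟩ := reverse_f0 p hr hrp m
  rw [reverse_mul_of_domain, hc, reverse_X_sub_one_pow] at h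
  have hX : ((X - 1 : F[X]) ^ k) ≠ 0 := by
    apply pow_ne_zero
    have := (monic_X_sub_C (1 : F)).ne_zero
    simpa using this
  have h1 : C (c * (-1) ^ k) * f0 (m.map (starI p hr hrp)) = f0 m := by
    apply mul_right_cancel₀ hX
    rw [← h, C_mul]
    ring
  have h2 := congrArg leadingCoeff h1
  rw [leadingCoeff_mul, leadingCoeff_C, (monic_f0 _).leadingCoeff, (monic_f0 _).leadingCoeff,
    mul_one] at h2
  rw [h2, C_1, one_mul] at h1
  exact f0_injective h1

/-- a self-dual multiset gives a palindromic polynomial. -/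
theorem reverse_eq_of_map_starI_eq (p : ℕ) [hp : Fact p.Prime] [CharP F p] {r : ℕ} (hr : r.Prime)
    (hrp : r ≠ p) (m : Multiset ↥(facs F r)) (k : ℕ) (hk : Even k)
    (h : m.map (starI p hr hrp) = m) :
    (f0 m * (X - 1) ^ k).reverse = f0 m * (X - 1) ^ k := by
  obtain ⟨c, hc⟩ := reverse_f0 p hr hrp m
  rw [h] at hc
  have h2 := congrArg (eval 1) hc
  rw [eval_one_reverse, eval_mul, eval_C] at h2
  have h3 : c = 1 := by
    have h4 := eval_one_f0_ne_zero p hr hrp m
    have h5 : (c - 1) * (f0 m).eval 1 = 0 := by rw [sub_mul, ← h2, one_mul, sub_self]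
    rcases mul_eq_zero.1 h5 with h | h
    · exact sub_eq_zero.1 h
    · exact absurd h h4
  rw [reverse_mul_of_domain, hc, reverse_X_sub_one_pow, h3, hk.neg_one_pow, C_1, one_mul, one_mul]

variable [Fintype F]

theorem tau_mem_ssTypes (p : ℕ) [hp : Fact p.Prime] [CharP F p] {r : ℕ} (hr : r.Prime)
    (hrp : r ≠ p) (n i : ℕ) (hi : i = orderOf ((Fintype.card F : ℕ) : ZMod r))
    (m : Multiset ↥(facs F r)) (hm : i * Multiset.card m ≤ n) : tau n i r m ∈ ssTypes F n := by
  have hX1 : (X - 1 : F[X]) = X - C 1 := by simp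
  constructor
  · intro x hx
    obtain ⟨h2, h1 | h1⟩ := mem_tau hx
    · rw [h1, hX1]
      refine ⟨monic_X_sub_C 1, irreducible_X_sub_C 1, ?_, h2⟩
      intro h
      have := congrArg (eval 0) h
      simp at this
    · obtain ⟨h3, h4, -⟩ := mem_facs_iff.1 h1
      refine ⟨h4, h3, ?_, h2⟩
      intro h
      have := coeff_zero_ne_zero_of_mem hr h1
      rw [h] at this
      simp at this
  · rw [tau, Multiset.map_add, Multiset.sum_add, Multiset.map_map, Multiset.map_replicate,
      Multiset.sum_replicate]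
    have h1 : (m.map ((fun x : F[X] × ℕ => x.1.natDegree) ∘
        (fun P : ↥(facs F r) => ((P.1, 1) : F[X] × ℕ)))) = m.map (fun _ => i) := by
      apply Multiset.map_congr rfl
      intro P _
      simp only [Function.comp_apply]
      rw [natDegree_of_mem p hr hrp P.2, hi]
    rw [h1, Multiset.map_const', Multiset.sum_replicate, hX1, natDegree_X_sub_C]
    simp only [smul_eq_mul, mul_one]
    rw [mul_comm]
    omega

variable {ι : Type*} [Fintype ι] [DecidableEq ι]

omit [Fintype F] in
theorem pow_eq_one_of_hasType_tau {r : ℕ} (hr : r.Prime) (n i : ℕ)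
    (m : Multiset ↥(facs F r)) {A : Matrix ι ι F} (hA : HasType A (tau n i r m)) : A ^ r = 1 := by
  have hX1 : (X - 1 : F[X]) = X - C 1 := by simp
  have h0 : aeval A (X ^ r - 1 : F[X]) = 0 := by
    rw [hA.aeval_eq_zero_iff]
    intro x hx
    obtain ⟨h2, h1⟩ := mem_tau hx
    rw [h2, pow_one]
    rcases h1 with h1 | h1
    · rw [h1]
      exact (dvd_X_pow_sub_one_iff hr (by rw [hX1]; exact irreducible_X_sub_C 1)
        (by rw [hX1]; exact monic_X_sub_C 1)).2 (Or.inl rfl)
    · obtain ⟨h3, h4, -⟩ := mem_facs_iff.1 h1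
      exact (dvd_X_pow_sub_one_iff hr h3 h4).2 (Or.inr h1)
  simpa [sub_eq_zero] using h0

omit [Fintype F] in
theorem ne_one_of_hasType_tau (p : ℕ) [hp : Fact p.Prime] [CharP F p] {r : ℕ} (hr : r.Prime)
    (hrp : r ≠ p) (n i : ℕ) (m : Multiset ↥(facs F r)) (hm0 : m ≠ 0) {A : Matrix ι ι F}
    (hA : HasType A (tau n i r m)) : A ≠ 1 := by
  intro hA1
  have h0 : aeval A (X - 1 : F[X]) = 0 := by simp [hA1]
  rw [hA.aeval_eq_zero_iff] at h0
  obtain ⟨P, hP⟩ := Multiset.exists_mem_of_ne_zero hm0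
  have h2 := h0 (P.1, 1) (by
    rw [tau, Multiset.mem_add]
    exact Or.inl (Multiset.mem_map.2 ⟨P, hP, rfl⟩))
  rw [pow_one] at h2
  exact not_dvd_X_sub_one p hr hrp P.2 h2

/-- the type of a matrix of order `r` is some `tau m`. -/
theorem typ_eq_tau' (p : ℕ) [hp : Fact p.Prime] [CharP F p] {r : ℕ} (hr : r.Prime)
    (hrp : r ≠ p) (n i : ℕ) (hn : Fintype.card ι = n)
    (hi : i = orderOf ((Fintype.card F : ℕ) : ZMod r))
    (A : Matrix ι ι F) (hAr : A ^ r = 1) (hA1 : A ≠ 1) :
    ∃ m : Multiset ↥(facs F r), m ≠ 0 ∧ i * Multiset.card m ≤ n ∧ typ A = tau n i r m := by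
  classical
  have hX1 : (X - 1 : F[X]) = X - C 1 := by simp
  set T := typ A with hT
  have hA : HasType A T := hasType_typ A
  have hrF : (r : F) ≠ 0 := by
    rw [Ne, CharP.cast_eq_zero_iff F p]
    intro h
    exact hrp ((Nat.prime_dvd_prime_iff_eq hp.out hr).1 h).symm
  obtain ⟨hss1, hss2⟩ := hA.mem_ssTypes_of_pow_eq_one hrF hAr
  rw [hn] at hss2
  have hdiv : ∀ x ∈ T, x.1 = X - 1 ∨ x.1 ∈ facs F r := by
    have h0 : aeval A (X ^ r - 1 : F[X]) = 0 := by simp [hAr]
    rw [hA.aeval_eq_zero_iff] at h0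
    intro x hx
    obtain ⟨h1, h2, -, h4⟩ := hss1 x hx
    have := h0 x hx
    rw [h4, pow_one] at this
    exact (dvd_X_pow_sub_one_iff hr h2 h1).1 this
  set T1 := T.filter (fun x => x.1 ≠ X - 1) with hT1
  set T2 := T.filter (fun x => ¬ x.1 ≠ X - 1) with hT2
  have hsplit : T1 + T2 = T := Multiset.filter_add_not _ _
  have hT1mem : ∀ x ∈ T1, x.1 ∈ facs F r := by
    intro x hx
    obtain ⟨h1, h2⟩ := Multiset.mem_filter.1 hx
    exact (hdiv x h1).resolve_left h2
  have hT2rep : T2 = Multiset.replicate (Multiset.card T2) ((X - 1 : F[X]), 1) := by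
    rw [Multiset.eq_replicate_card]
    intro x hx
    obtain ⟨h1, h2⟩ := Multiset.mem_filter.1 hx
    exact Prod.ext (not_not.1 h2) (hss1 x h1).2.2.2
  set m : Multiset ↥(facs F r) := T1.pmap (fun x hx => (⟨x.1, hx⟩ : ↥(facs F r))) hT1mem with hm
  have hmmap : m.map (fun P : ↥(facs F r) => ((P.1, 1) : F[X] × ℕ)) = T1 := by
    rw [hm, Multiset.map_pmap]
    have h5 := Multiset.pmap_eq_map (fun x : F[X] × ℕ => x.1 ∈ facs F r)
      (fun x : F[X] × ℕ => ((x.1, 1) : F[X] × ℕ)) T1 hT1mem
    rw [show Multiset.pmap (fun (a : F[X] × ℕ) (h : a.1 ∈ facs F r) =>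
      (((⟨a.1, h⟩ : ↥(facs F r)).1, 1) : F[X] × ℕ)) T1 hT1mem =
      Multiset.map (fun x : F[X] × ℕ => ((x.1, 1) : F[X] × ℕ)) T1 from h5]
    conv_rhs => rw [← Multiset.map_id T1]
    apply Multiset.map_congr rfl
    intro x hx
    exact Prod.ext rfl (hss1 x (Multiset.mem_filter.1 hx).1).2.2.2.symm
  have hcard : Multiset.card m = Multiset.card T1 := Multiset.card_pmap _ _ _
  have hsum : i * Multiset.card T1 + Multiset.card T2 = n := by
    rw [← hss2, ← hsplit, Multiset.map_add, Multiset.sum_add]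
    congr 1
    · have h1 : T1.map (fun x => x.1.natDegree) = T1.map (fun _ => i) := by
        apply Multiset.map_congr rfl
        intro x hx
        rw [natDegree_of_mem p hr hrp (hT1mem x hx), hi]
      rw [h1, Multiset.map_const', Multiset.sum_replicate, smul_eq_mul, mul_comm]
    · conv_rhs => rw [hT2rep]
      rw [Multiset.map_replicate, Multiset.sum_replicate, hX1, natDegree_X_sub_C, smul_eq_mul,
        mul_one]
  refine ⟨m, ?_, by rw [hcard]; omega, ?_⟩
  · intro hm0
    have hT10 : T1 = 0 := by rw [← hmmap, hm0, Multiset.map_zero]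
    have h0 : aeval A (X - 1 : F[X]) = 0 := by
      rw [hA.aeval_eq_zero_iff]
      intro x hx
      rw [← hsplit, hT10, zero_add, hT2rep] at hx
      rw [Multiset.eq_of_mem_replicate hx, pow_one]
    exact hA1 (by simpa [sub_eq_zero] using h0)
  · rw [tau, hmmap, hcard, show n - i * Multiset.card T1 = Multiset.card T2 by omega, ← hT2rep,
      hsplit]

omit [Fintype F] in
/-- semisimple matrices with the same characteristic polynomial have the same type. -/
theorem eq_of_prod_eq {k : ℕ} {T T' : Multiset (F[X] × ℕ)} (hT : T ∈ ssTypes F k)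
    (hT' : T' ∈ ssTypes F k) (h : (T.map Prod.fst).prod = (T'.map Prod.fst).prod) : T = T' := by
  have h1 := (ssEquiv F k).injective (a₁ := ⟨T, hT⟩) (a₂ := ⟨T', hT'⟩) (Subtype.ext h)
  exact congrArg Subtype.val h1

end Cfsg.Agent.Lib.Helper38.CycF
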