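import Cfsg.Agent.Lib.Helper38.SpOrderR
import Cfsg.Agent.Lib.Helper44.OrthConj
import Cfsg.Agent.Lib.Helper44.StdForms
import Cfsg.Agent.Lib.Helper44.SSConj

set_option autoImplicit false

/-! Elements of odd prime order `r` of orthogonal groups: general facts. -/

namespace Cfsg.Agent.Lib.Helper38.CycF

open Polynomial Matrix Cfsg.Agent.Lib.Helper45 Cfsg.Agent.Lib.Helper44 QuadraticMap

variable {F : Type*} [Field F]

theorem map_starI_eq_of_reverse_eq_C (p : ℕ) [hp : Fact p.Prime] [CharP F p] {r : ℕ} (hr : r.Prime)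
    (hrp : r ≠ p) (m : Multiset ↥(facs F r)) (k : ℕ) (c' : F)
    (h : f0 m * (X - 1) ^ k = C c' * (f0 m * (X - 1) ^ k).reverse) :
    m.map (starI p hr hrp) = m := by
  obtain ⟨c, hc⟩ := reverse_f0 p hr hrp m
  have hX : ((X - 1 : F[X]) ^ k) ≠ 0 := by
    apply pow_ne_zero
    have := (monic_X_sub_C (1 : F)).ne_zero
    simpa using this
  rw [reverse_mul_of_domain, hc, reverse_X_sub_one_pow] at h
  have h1 : C (c' * c * (-1) ^ k) * f0 (m.map (starI p hr hrp)) = f0 m := by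
    apply mul_right_cancel₀ hX
    rw [h, C_mul, C_mul]
    ring
  have h2 := congrArg leadingCoeff h1
  rw [leadingCoeff_mul, leadingCoeff_C, (monic_f0 _).leadingCoeff, (monic_f0 _).leadingCoeff,
    mul_one] at h2
  rw [h2, C_1, one_mul] at h1
  exact f0_injective h1

variable {ι : Type} [Fintype ι] [DecidableEq ι]

/-- the matrix of an isometry is similar to its inverse transpose -/
theorem charpoly_inv_of_isometry {Q : QuadraticForm F (ι → F)} (hQ : (polarBilin Q).Nondegenerate)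
    (M : Matrix ι ι F) (hM : ∀ v, Q (M *ᵥ v) = Q v) : IsUnit M ∧ M⁻¹.charpoly = M.charpoly := by
  have h1 : LinearMap.BilinForm.comp (polarBilin Q) (Matrix.toLin' M) (Matrix.toLin' M)
      = polarBilin Q := by
    apply LinearMap.ext
    intro x
    apply LinearMap.ext
    intro y
    rw [LinearMap.BilinForm.comp_apply, Matrix.toLin'_apply, Matrix.toLin'_apply,
      polarBilin_apply_apply, polarBilin_apply_apply]
    simp only [polar, ← Matrix.mulVec_add, hM]
  have h2 := congrArg (fun B => LinearMap.BilinForm.toMatrix' B) h1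
  simp only [LinearMap.BilinForm.toMatrix'_comp, LinearMap.toMatrix'_toLin'] at h2
  set S := LinearMap.BilinForm.toMatrix' (polarBilin Q) with hS
  have h3 : S.det ≠ 0 := by
    rw [← Matrix.nondegenerate_iff_det_ne_zero]
    exact LinearMap.BilinForm.Nondegenerate.toMatrix' hQ
  have hSu : IsUnit S.det := h3.isUnit
  have h4 : (S⁻¹ * Mᵀ * S) * M = 1 := by
    rw [mul_assoc, mul_assoc, ← mul_assoc Mᵀ, h2, Matrix.nonsing_inv_mul _ hSu]
  have hMu : IsUnit M := by
    rw [Matrix.isUnit_iff_isUnit_det]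
    have hd : M.det * (S⁻¹ * Mᵀ * S).det = 1 := by rw [mul_comm, ← Matrix.det_mul, h4, Matrix.det_one]
    exact IsUnit.of_mul_eq_one _ hd
  refine ⟨hMu, ?_⟩
  rw [Matrix.inv_eq_left_inv h4]
  let Su : (Matrix ι ι F)ˣ := ⟨S, S⁻¹, Matrix.mul_nonsing_inv _ hSu, Matrix.nonsing_inv_mul _ hSu⟩
  have h5 := Matrix.charpoly_units_conj' Su Mᵀ
  rw [Matrix.charpoly_transpose] at h5
  exact h5

omit [Fintype ι] in
theorem orth_coe_pow_orderOf [Fintype ι] {Q : (ι → F) → F} (g : ↥(Cfsg.isometryGroup F Q)) :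
    ((g : GL ι F) : Matrix ι ι F) ^ orderOf g = 1 := by
  have h1 := pow_orderOf_eq_one g
  have h2 := congrArg (fun x : ↥(Cfsg.isometryGroup F Q) => ((x : GL ι F) : Matrix ι ι F)) h1
  simp only [SubmonoidClass.coe_pow, Units.val_pow_eq_pow_val, OneMemClass.coe_one, Units.val_one] at h2
  exact h2

variable [Fintype F]

theorem orth_typ_eq_tau (p : ℕ) [hp : Fact p.Prime] [CharP F p] {r : ℕ} (hr : r.Prime)
    (hrp : r ≠ p) {Q : QuadraticForm F (ι → F)} (hQ : (polarBilin Q).Nondegenerate) (n i : ℕ)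
    (hn : Fintype.card ι = n) (hi : i = orderOf ((Fintype.card F : ℕ) : ZMod r))
    (g : ↥(Cfsg.isometryGroup F ⇑Q)) (hg : orderOf g = r) :
    ∃ μ : Multiset ↥(facs F r), μ ≠ 0 ∧ i * Multiset.card μ ≤ n ∧
      typ ((g : GL ι F) : Matrix ι ι F) = tau n i r μ ∧ μ.map (starI p hr hrp) = μ := by
  have h1 := orth_coe_pow_orderOf g
  rw [hg] at h1
  have h2 : ((g : GL ι F) : Matrix ι ι F) ≠ 1 := by
    intro h
    have h3 : g = 1 := Subtype.ext (Units.ext h)
    rw [h3, orderOf_one] at hg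
    exact hr.one_lt.ne hg
  obtain ⟨μ, hμ0, hμ, hT⟩ := typ_eq_tau' p hr hrp n i hn hi _ h1 h2
  refine ⟨μ, hμ0, hμ, hT, ?_⟩
  have h3 := (hasType_typ ((g : GL ι F) : Matrix ι ι F)).charpoly_of_mem_ssTypes
    (by rw [hT]; exact tau_mem_ssTypes p hr hrp n i hi μ hμ)
  rw [hT, prod_tau] at h3
  obtain ⟨hu, h4⟩ := charpoly_inv_of_isometry hQ _ (mem_isometryGroup.1 g.2)
  rw [Matrix.charpoly_inv _ hu, ← Matrix.reverse_charpoly, h3] at h4
  apply map_starI_eq_of_reverse_eq_C p hr hrp μ _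
    ((-1) ^ Fintype.card ι * Ring.inverse ((g : GL ι F) : Matrix ι ι F).det)
  refine h4.symm.trans ?_
  rw [C_mul]
  simp only [map_pow, map_neg, map_one]

/-- conjugacy in the isometry group, arbitrary index type -/
theorem isometryGroup_isConj_of_conj {p : ℕ} [Fact p.Prime] [CharP F p]
    (Q : QuadraticForm F (ι → F))
    (hQ : (QuadraticMap.polarBilin Q).Nondegenerate) (A B : ↥(Cfsg.isometryGroup F ⇑Q))
    (hodd : Odd (orderOf A)) (hA : (orderOf A).Coprime p) (c : GL ι F)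
    (hc : (c : Matrix ι ι F) * ((A : GL ι F) : Matrix ι ι F) =
      ((B : GL ι F) : Matrix ι ι F) * (c : Matrix ι ι F)) : IsConj A B := by
  obtain ⟨j, -, hj⟩ := Nat.exists_mul_mod_eq_one_of_coprime hA (Fact.out : p.Prime).one_lt
  have hjk : (j : F) * (orderOf A : F) = 1 := by
    rw [mul_comm, ← Nat.cast_mul, CharP.cast_eq_mod F p, hj, Nat.cast_one]
  let T := Matrix.toLinAlgEquiv' (R := F) (n := ι)
  obtain ⟨g, hg1, hg2⟩ := orth_conj Q hQ
    (T ((A : GL ι F) : Matrix ι ι F))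
    (T ((B : GL ι F) : Matrix ι ι F))
    (T (c : Matrix ι ι F)) (T ((c⁻¹ : (Matrix ι ι F)ˣ) : Matrix ι ι F))
    (fun v => by
      rw [Matrix.toLinAlgEquiv'_apply]
      exact mem_isometryGroup.1 A.2 v)
    (fun v => by
      rw [Matrix.toLinAlgEquiv'_apply]
      exact mem_isometryGroup.1 B.2 v)
    j (orderOf A) hodd hjk
    (by
      rw [← map_pow, orth_coe_pow_orderOf, map_one])
    (by rw [← map_mul, Units.mul_inv, map_one])
    (by rw [← map_mul, Units.inv_mul, map_one])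
    (by rw [← map_mul, ← map_mul, hc])
  refine isConj_iff.2 ⟨(isoEquiv Q).symm ⟨g, hg1⟩, ?_⟩
  apply (isoEquiv Q).injective
  rw [map_mul, map_mul, map_inv, MulEquiv.apply_symm_apply, mul_inv_eq_iff_eq_mul]
  apply Subtype.ext
  ext1 v
  change g ((isoEquiv Q A : (ι → F) ≃ₗ[F] (ι → F)) v) =
    (isoEquiv Q B : (ι → F) ≃ₗ[F] (ι → F)) (g v)
  rw [isoEquiv_apply, isoEquiv_apply]
  have := hg2 v
  rwa [Matrix.toLinAlgEquiv'_apply, Matrix.toLinAlgEquiv'_apply] at this

omit [Fintype F] in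
theorem orth_charpoly_eq_of_isConj {Q : (ι → F) → F} {g h : ↥(Cfsg.isometryGroup F Q)}
    (hgh : IsConj g h) :
    ((g : GL ι F) : Matrix ι ι F).charpoly = ((h : GL ι F) : Matrix ι ι F).charpoly := by
  obtain ⟨c, hc⟩ := isConj_iff.1 hgh
  rw [← hc]
  simp only [Subgroup.coe_mul, Subgroup.coe_inv, Units.val_mul, Matrix.coe_units_inv]
  rw [Matrix.charpoly_units_conj]

theorem orth_card_classes (p : ℕ) [hp : Fact p.Prime] [CharP F p] {r : ℕ} (hr : r.Prime)
    (hr2 : r ≠ 2) (hrp : r ≠ p) {Q : QuadraticForm F (ι → F)} (hQ : (polarBilin Q).Nondegenerate)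
    {M : Type*} (τ : M → Multiset (F[X] × ℕ)) (hτ : Function.Injective τ)
    (h1 : ∀ g : ↥(Cfsg.isometryGroup F ⇑Q), orderOf g = r →
      ∃ x, typ ((g : GL ι F) : Matrix ι ι F) = τ x)
    (h2 : ∀ x, ∃ g : ↥(Cfsg.isometryGroup F ⇑Q), orderOf g = r ∧
      typ ((g : GL ι F) : Matrix ι ι F) = τ x) :
    Nat.card {C : ConjClasses ↥(Cfsg.isometryGroup F ⇑Q) //
      ∃ g : ↥(Cfsg.isometryGroup F ⇑Q), ConjClasses.mk g = C ∧ orderOf g = r} = Nat.card M := by
  have hcop : r.Coprime p := (Nat.coprime_primes hr hp.out).2 hrp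
  have hodd : Odd r := hr.odd_of_ne_two hr2
  have hss : ∀ g : ↥(Cfsg.isometryGroup F ⇑Q), orderOf g = r →
      typ ((g : GL ι F) : Matrix ι ι F) ∈ ssTypes F (Fintype.card ι) := by
    intro g hg
    exact typ_mem_ssTypes_of_coprime p (by rw [hg]; exact hcop) (orth_coe_pow_orderOf g)
  symm
  apply Nat.card_congr
  refine Equiv.ofBijective (fun x => ⟨ConjClasses.mk (h2 x).choose, (h2 x).choose, rfl,
    (h2 x).choose_spec.1⟩) ⟨?_, ?_⟩
  · intro x y hxy
    have h3 : ConjClasses.mk (h2 x).choose = ConjClasses.mk (h2 y).choose :=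
      congrArg Subtype.val hxy
    have h4 := orth_charpoly_eq_of_isConj (ConjClasses.mk_eq_mk_iff_isConj.1 h3)
    obtain ⟨hx1, hx2⟩ := (h2 x).choose_spec
    obtain ⟨hy1, hy2⟩ := (h2 y).choose_spec
    rw [(hasType_typ _).charpoly_of_mem_ssTypes (hss _ hx1),
      (hasType_typ _).charpoly_of_mem_ssTypes (hss _ hy1)] at h4
    have h5 := eq_of_prod_eq (hss _ hx1) (hss _ hy1) h4
    rw [hx2, hy2] at h5
    exact hτ h5
  · rintro ⟨C, g, rfl, hg⟩
    obtain ⟨x, hx⟩ := h1 g hg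
    refine ⟨x, Subtype.ext ?_⟩
    obtain ⟨hx1, hx2⟩ := (h2 x).choose_spec
    apply ConjClasses.mk_eq_mk_iff_isConj.2
    obtain ⟨P, hP⟩ := (hasType_typ (((h2 x).choose : GL ι F) : Matrix ι ι F)).conj
      (by rw [hx2, ← hx]; exact hasType_typ ((g : GL ι F) : Matrix ι ι F))
    exact isometryGroup_isConj_of_conj (p := p) Q hQ _ _ (by rw [hx1]; exact hodd)
      (by rw [hx1]; exact hcop) P hP

end Cfsg.Agent.Lib.Helper38.CycF
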