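import Cfsg.Agent.Lib.Helper38.OrthOrderA

set_option autoImplicit false

/-! Quadratic forms from matrices, the form `ω(v, g v)` of a symplectic element, transport. -/

namespace Cfsg.Agent.Lib.Helper38.CycF

open Polynomial Matrix Cfsg.Agent.Lib.Helper45 Cfsg.Agent.Lib.Helper44 QuadraticMap

variable {F : Type*} [Field F]

section qf

variable {ι : Type*} [Fintype ι] [DecidableEq ι]

/-- the quadratic form `v ↦ vᵀ S v` -/
noncomputable def qfOf (S : Matrix ι ι F) : QuadraticForm F (ι → F) :=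
  LinearMap.BilinMap.toQuadraticMap (Matrix.toLinearMap₂' F S)

theorem qfOf_apply (S : Matrix ι ι F) (v : ι → F) : qfOf S v = v ⬝ᵥ S *ᵥ v := by
  rw [qfOf, LinearMap.BilinMap.toQuadraticMap_apply, Matrix.toLinearMap₂'_apply']

theorem qfOf_polar (S : Matrix ι ι F) (x y : ι → F) :
    polar (qfOf S) x y = x ⬝ᵥ (S + Sᵀ) *ᵥ y := by
  rw [qfOf, LinearMap.BilinMap.polar_toQuadraticMap, Matrix.toLinearMap₂'_apply',
    Matrix.toLinearMap₂'_apply', Matrix.add_mulVec, dotProduct_add]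
  congr 1
  rw [Matrix.mulVec_transpose, Matrix.dotProduct_mulVec, dotProduct_comm]

theorem qfOf_nondeg (S : Matrix ι ι F) (hS : (S + Sᵀ).det ≠ 0) :
    (polarBilin (qfOf S)).Nondegenerate := by
  apply nondeg_of_sep
  intro x hx
  apply Matrix.eq_zero_of_vecMul_eq_zero hS
  funext j
  have h1 := hx (Pi.single j 1)
  rw [qfOf_polar, Matrix.dotProduct_mulVec, dotProduct_single, mul_one] at h1
  exact h1

theorem qfOf_mulVec (S M : Matrix ι ι F) (h : Mᵀ * S * M = S) (v : ι → F) :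
    qfOf S (M *ᵥ v) = qfOf S v := by
  rw [qfOf_apply, qfOf_apply]
  conv_rhs => rw [← h]
  rw [← Matrix.mulVec_mulVec, ← Matrix.mulVec_mulVec, Matrix.dotProduct_mulVec v,
    Matrix.vecMul_transpose]

end qf

/-- `g² - 1` is invertible if `g - 1` is and `g` has odd order -/
theorem det_sq_sub_one_ne_zero {ι : Type*} [Fintype ι] [DecidableEq ι] (G : Matrix ι ι F) {r : ℕ}
    (hr : Odd r) (hG : G ^ r = 1) (h1 : (G - 1).det ≠ 0) : (G ^ 2 - 1).det ≠ 0 := by
  obtain ⟨s, rfl⟩ := hr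
  have h2 : (G ^ 2) ^ (s + 1) = G := by
    rw [← pow_mul]
    have : 2 * (s + 1) = (2 * s + 1) + 1 := by ring
    rw [this, pow_succ, hG, one_mul]
  have h3 := geom_sum_mul (G ^ 2) (s + 1)
  rw [h2] at h3
  intro h0
  apply h1
  rw [← h3, Matrix.det_mul, h0, mul_zero]

/-- the invariant quadratic form of a symplectic matrix of odd order without fixed vectors -/
theorem sp_form {k : ℕ} (G : Matrix (Fin k ⊕ Fin k) (Fin k ⊕ Fin k) F)
    (hG : G ∈ symplecticGroup (Fin k) F) {r : ℕ} (hr : Odd r) (hGr : G ^ r = 1)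
    (h1 : (G - 1).det ≠ 0) :
    Gᵀ * (J (Fin k) F * G) * G = J (Fin k) F * G ∧
      ((J (Fin k) F * G) + (J (Fin k) F * G)ᵀ).det ≠ 0 := by
  have h := SymplecticGroup.mem_iff'.1 hG
  constructor
  · rw [← mul_assoc, h]
  · have h2 : ((J (Fin k) F * G) + (J (Fin k) F * G)ᵀ) * G = J (Fin k) F * (G ^ 2 - 1) := by
      rw [Matrix.transpose_mul, J_transpose, add_mul, Matrix.mul_neg, Matrix.neg_mul, h, mul_sub,
        mul_one, _root_.sq, mul_assoc, sub_eq_add_neg]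
    intro h0
    have h3 := congrArg Matrix.det h2
    rw [Matrix.det_mul, h0, zero_mul, Matrix.det_mul] at h3
    exact mul_ne_zero (isUnit_det_J (Fin k) F).ne_zero (det_sq_sub_one_ne_zero G hr hGr h1) h3.symm

/-- transport of an isometry along a similarity -/
theorem exists_isometry_of_similar {ι₁ ι₂ : Type} [Fintype ι₁] [DecidableEq ι₁] [Fintype ι₂]
    [DecidableEq ι₂] (Q₁ : QuadraticForm F (ι₁ → F)) (Q₂ : QuadraticForm F (ι₂ → F))
    (T : (ι₁ → F) ≃ₗ[F] (ι₂ → F)) (c : F) (hT : ∀ v, Q₂ (T v) = c * Q₁ v)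
    (M : Matrix ι₁ ι₁ F) (hM : ∀ v, Q₁ (M *ᵥ v) = Q₁ v) {r : ℕ} (hr : r ≠ 0) (hMr : M ^ r = 1) :
    ∃ g : ↥(Cfsg.isometryGroup F ⇑Q₂), g ^ r = 1 ∧
      ((g : GL ι₂ F) : Matrix ι₂ ι₂ F).charpoly = M.charpoly := by
  let E : Matrix ι₁ ι₁ F ≃ₐ[F] Matrix ι₂ ι₂ F :=
    (Matrix.toLinAlgEquiv' (R := F) (n := ι₁)).trans
      ((T.conjAlgEquiv F).trans (Matrix.toLinAlgEquiv' (R := F) (n := ι₂)).symm)
  have hE : ∀ (X : Matrix ι₁ ι₁ F) (w : ι₂ → F), E X *ᵥ w = T (X *ᵥ T.symm w) := by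
    intro X w
    have h1 : Matrix.toLinAlgEquiv' (E X) = T.conjAlgEquiv F (Matrix.toLinAlgEquiv' X) := by
      simp [E]
    have h2 := congrArg (fun f : (ι₂ → F) →ₗ[F] (ι₂ → F) => f w) h1
    simpa [LinearEquiv.conjAlgEquiv_apply] using h2
  have hr1 : E M ^ r = 1 := by rw [← map_pow, hMr, map_one]
  obtain ⟨s, rfl⟩ : ∃ s, r = s + 1 := ⟨r - 1, by omega⟩
  let u : GL ι₂ F := ⟨E M, E M ^ s, by rw [← pow_succ', hr1], by rw [← pow_succ, hr1]⟩
  have hu : u ∈ Cfsg.isometryGroup F ⇑Q₂ := by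
    rw [mem_isometryGroup]
    intro w
    change Q₂ (E M *ᵥ w) = Q₂ w
    rw [hE, hT, hM, ← hT, LinearEquiv.apply_symm_apply]
  refine ⟨⟨u, hu⟩, ?_, ?_⟩
  · apply Subtype.ext
    apply Units.ext
    exact hr1
  · change (E M).charpoly = M.charpoly
    have h1 : Matrix.toLin' (E M) = T.conj (Matrix.toLin' M) := by
      apply LinearMap.ext
      intro w
      rw [Matrix.toLin'_apply, hE, LinearEquiv.conj_apply_apply, Matrix.toLin'_apply]
    rw [← Matrix.charpoly_toLin', h1, LinearEquiv.charpoly_conj, Matrix.charpoly_toLin']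

end Cfsg.Agent.Lib.Helper38.CycF
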