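import Cfsg.Agent.Lib.Helper38.OrthOrderB
import Cfsg.Agent.S0838

set_option autoImplicit false

/-! Elements of odd prime order `r` of `O_{2m+1}(q)`. -/

namespace Cfsg.Agent.Lib.Helper38.CycF

open Polynomial Matrix Cfsg.Agent.Lib.Helper45 Cfsg.Agent.Lib.Helper44 QuadraticMap

variable {F : Type*} [Field F]

theorem comp_nondeg {V W : Type*} [AddCommGroup V] [Module F V] [AddCommGroup W] [Module F W]
    (Q : QuadraticForm F W) (hQ : (polarBilin Q).Nondegenerate) (L : V ≃ₗ[F] W) :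
    (polarBilin (Q.comp (L : V →ₗ[F] W))).Nondegenerate := by
  apply nondeg_of_sep
  intro x hx
  have h1 : L x = 0 := by
    apply hQ.1
    intro y
    have h2 := hx (L.symm y)
    simp only [polar, QuadraticMap.comp_apply, LinearEquiv.coe_coe, map_add,
      LinearEquiv.apply_symm_apply] at h2
    rw [polarBilin_apply_apply]
    exact h2
  simpa using h1

variable [Fintype F]

theorem similar_odd (h2 : (2 : F) ≠ 0) {ι₁ ι₂ : Type} [Fintype ι₁] [Fintype ι₂] {n : ℕ} (hn : Odd n)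
    (h₁ : Fintype.card ι₁ = n) (h₂ : Fintype.card ι₂ = n)
    (Q₁ : QuadraticForm F (ι₁ → F)) (Q₂ : QuadraticForm F (ι₂ → F))
    (hQ₁ : (polarBilin Q₁).Nondegenerate) (hQ₂ : (polarBilin Q₂).Nondegenerate) :
    ∃ (T : (ι₁ → F) ≃ₗ[F] (ι₂ → F)) (c : F), ∀ v, Q₂ (T v) = c * Q₁ v := by
  let e₁ : ι₁ ≃ Fin n := Fintype.equivFinOfCardEq h₁
  let e₂ : ι₂ ≃ Fin n := Fintype.equivFinOfCardEq h₂
  let L₁ : (Fin n → F) ≃ₗ[F] (ι₁ → F) := LinearEquiv.funCongrLeft F F e₁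
  let L₂ : (Fin n → F) ≃ₗ[F] (ι₂ → F) := LinearEquiv.funCongrLeft F F e₂
  obtain ⟨g, c, -, hg⟩ := Cfsg.Agent.S0838.result h2 hn _ _ (comp_nondeg Q₁ hQ₁ L₁)
    (comp_nondeg Q₂ hQ₂ L₂)
  refine ⟨(L₁.symm.trans g).trans L₂, c, ?_⟩
  intro v
  have h3 := hg (L₁.symm v)
  simp only [QuadraticMap.comp_apply, LinearEquiv.coe_coe, LinearEquiv.apply_symm_apply] at h3
  exact h3

theorem typ_eq_tau_of_charpoly (p : ℕ) [hp : Fact p.Prime] [CharP F p] {r : ℕ} (hr : r.Prime)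
    (hrp : r ≠ p) {ι : Type*} [Fintype ι] [DecidableEq ι] (n i : ℕ) (hn : Fintype.card ι = n)
    (hi : i = orderOf ((Fintype.card F : ℕ) : ZMod r)) (μ : Multiset ↥(facs F r))
    (hμ : i * Multiset.card μ ≤ n) (A : Matrix ι ι F) (hA : A ^ r = 1)
    (hc : A.charpoly = f0 μ * (X - 1) ^ (n - i * Multiset.card μ)) : typ A = tau n i r μ := by
  have hcop : r.Coprime p := (Nat.coprime_primes hr hp.out).2 hrp
  have hT := tau_mem_ssTypes p hr hrp n i hi μ hμ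
  have h4 := typ_mem_ssTypes_of_coprime p hcop hA
  rw [hn] at h4
  have h5 := (hasType_typ A).charpoly_of_mem_ssTypes h4
  rw [hc, ← prod_tau] at h5
  exact (eq_of_prod_eq hT h4 h5).symm

/-- a block matrix preserving a non-degenerate quadratic form, with prescribed characteristic
polynomial -/
theorem exists_form_block (p : ℕ) [hp : Fact p.Prime] [CharP F p] {r : ℕ} (hr : r.Prime)
    (hr2 : r ≠ 2) (hrp : r ≠ p) (i : ℕ) (hi : i = orderOf ((Fintype.card F : ℕ) : ZMod r))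
    (μ : Multiset ↥(facs F r)) (hμ0 : μ ≠ 0) (k : ℕ) (hk : i * Multiset.card μ = 2 * k)
    (hstar : μ.map (starI p hr hrp) = μ) {κ : Type*} [Fintype κ] [DecidableEq κ]
    (D : Matrix κ κ F) (hD : (D + Dᵀ).det ≠ 0) :
    ∃ S M : Matrix ((Fin k ⊕ Fin k) ⊕ κ) ((Fin k ⊕ Fin k) ⊕ κ) F,
      Mᵀ * S * M = S ∧ (S + Sᵀ).det ≠ 0 ∧ M ^ r = 1 ∧
      M.charpoly = f0 μ * (X - 1) ^ Fintype.card κ ∧
      ∃ S₀ : Matrix (Fin k ⊕ Fin k) (Fin k ⊕ Fin k) F, S = fromBlocks S₀ 0 0 D := by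
  obtain ⟨g, hg, hT⟩ := sp_exists_of_tau p hr hrp k i hi μ hμ0 hk.le (by rw [hk]; exact even_two_mul k)
    hstar
  set G := (g : Matrix (Fin k ⊕ Fin k) (Fin k ⊕ Fin k) F) with hG
  have hGr : G ^ r = 1 := by
    have := sp_coe_pow_orderOf g
    rwa [hg] at this
  have hch : G.charpoly = f0 μ := by
    have h3 := (hasType_typ G).charpoly_of_mem_ssTypes
      (by rw [hT]; exact tau_mem_ssTypes p hr hrp (2 * k) i hi μ hk.le)
    rw [hT, prod_tau, hk, Nat.sub_self, pow_zero, mul_one] at h3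
    exact h3
  have h1 : (G - 1).det ≠ 0 := by
    have h2 := Matrix.eval_charpoly G 1
    rw [hch] at h2
    have h3 := eval_one_f0_ne_zero p hr hrp μ
    rw [h2] at h3
    intro h0
    apply h3
    have h4 : (Matrix.scalar (Fin k ⊕ Fin k) (1 : F) - G) = -(G - 1) := by
      rw [map_one]; abel
    rw [h4, Matrix.det_neg, h0, mul_zero]
  obtain ⟨f1, f2⟩ := sp_form G g.2 (hr.odd_of_ne_two hr2) hGr h1
  refine ⟨fromBlocks (J (Fin k) F * G) 0 0 D, fromBlocks G 0 0 1, ?_, ?_, ?_, ?_, _, rfl⟩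
  · rw [fromBlocks_transpose, fromBlocks_multiply, fromBlocks_multiply]
    simp only [Matrix.transpose_zero, Matrix.transpose_one, Matrix.mul_zero, Matrix.zero_mul,
      add_zero, zero_add, Matrix.one_mul, Matrix.mul_one]
    rw [f1]
  · rw [fromBlocks_transpose, fromBlocks_add]
    simp only [Matrix.transpose_zero, add_zero]
    rw [Matrix.det_fromBlocks_zero₂₁]
    exact mul_ne_zero f2 hD
  · have : ∀ j : ℕ, (fromBlocks G 0 0 (1 : Matrix κ κ F)) ^ j = fromBlocks (G ^ j) 0 0 1 := by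
      intro j
      induction j with
      | zero => simp
      | succ j ih =>
        rw [pow_succ, ih, fromBlocks_multiply]
        simp [pow_succ]
    rw [this, hGr, fromBlocks_one]
  · rw [Matrix.charpoly_fromBlocks_zero₁₂, hch, Matrix.charpoly_one]

theorem oo_exists_of_tau (p : ℕ) [hp : Fact p.Prime] [CharP F p] {r : ℕ} (hr : r.Prime)
    (hr2 : r ≠ 2) (hrp : r ≠ p) (h2 : (2 : F) ≠ 0) (m i : ℕ)
    (hi : i = orderOf ((Fintype.card F : ℕ) : ZMod r))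
    (μ : Multiset ↥(facs F r)) (hμ0 : μ ≠ 0) (hμ : i * Multiset.card μ ≤ 2 * m + 1)
    (heven : Even (i * Multiset.card μ)) (hstar : μ.map (starI p hr hrp) = μ) :
    ∃ g : ↥(Cfsg.isometryGroup F ⇑(oddQF m F)), orderOf g = r ∧
      typ ((g : GL (Unit ⊕ (Fin m ⊕ Fin m)) F) :
        Matrix (Unit ⊕ (Fin m ⊕ Fin m)) (Unit ⊕ (Fin m ⊕ Fin m)) F) = tau (2 * m + 1) i r μ := by
  obtain ⟨k, hk⟩ := heven
  rw [← two_mul] at hk
  have hcard2 : Fintype.card (Unit ⊕ (Fin m ⊕ Fin m)) = 2 * m + 1 := by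
    simp only [Fintype.card_sum, Fintype.card_fin, Fintype.card_unit]; omega
  have hcard1 : Fintype.card ((Fin k ⊕ Fin k) ⊕ Fin (2 * m + 1 - 2 * k)) = 2 * m + 1 := by
    simp only [Fintype.card_sum, Fintype.card_fin]; omega
  obtain ⟨S, M, e1, e2, e3, e4, -⟩ := exists_form_block p hr hr2 hrp i hi μ hμ0 k hk hstar
    (1 : Matrix (Fin (2 * m + 1 - 2 * k)) (Fin (2 * m + 1 - 2 * k)) F) (by
      rw [Matrix.transpose_one, ← two_smul F, Matrix.det_smul, Matrix.det_one, mul_one]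
      exact pow_ne_zero _ h2)
  obtain ⟨T, c, hT⟩ := similar_odd h2 (n := 2 * m + 1) ⟨m, rfl⟩ hcard1 hcard2 (qfOf S) (oddQF m F)
    (qfOf_nondeg S e2) (oddQF_nondeg m F h2)
  obtain ⟨g, hg1, hg2⟩ := exists_isometry_of_similar (qfOf S) (oddQF m F) T c hT M
    (qfOf_mulVec S M e1) hr.ne_zero e3
  have hgr : ((g : GL (Unit ⊕ (Fin m ⊕ Fin m)) F) :
      Matrix (Unit ⊕ (Fin m ⊕ Fin m)) (Unit ⊕ (Fin m ⊕ Fin m)) F) ^ r = 1 := by
    have h3 := congrArg (fun x : ↥(Cfsg.isometryGroup F ⇑(oddQF m F)) =>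
      ((x : GL (Unit ⊕ (Fin m ⊕ Fin m)) F) :
        Matrix (Unit ⊕ (Fin m ⊕ Fin m)) (Unit ⊕ (Fin m ⊕ Fin m)) F)) hg1
    simp only [SubmonoidClass.coe_pow, Units.val_pow_eq_pow_val, OneMemClass.coe_one,
      Units.val_one] at h3
    exact h3
  have hty := typ_eq_tau_of_charpoly p hr hrp (2 * m + 1) i hcard2 hi μ hμ _ hgr
    (by rw [hg2, e4, Fintype.card_fin, hk])
  refine ⟨g, ?_, hty⟩
  have : Fact r.Prime := ⟨hr⟩
  apply orderOf_eq_prime hg1
  intro h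
  have hA := hasType_typ ((g : GL (Unit ⊕ (Fin m ⊕ Fin m)) F) :
      Matrix (Unit ⊕ (Fin m ⊕ Fin m)) (Unit ⊕ (Fin m ⊕ Fin m)) F)
  rw [hty] at hA
  apply ne_one_of_hasType_tau p hr hrp _ _ _ hμ0 hA
  rw [h]
  rfl

end Cfsg.Agent.Lib.Helper38.CycF
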