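import Mathlib

set_option autoImplicit false

/-! Counting the solutions of `Q v = c` for functions on coordinate spaces over finite fields. -/

namespace Cfsg.Agent.Lib.Helper38.QCnt

open Matrix

variable {F : Type*} [Field F] [Fintype F]

/-- number of solutions of `Q v = c` -/
noncomputable def cnt {ι : Type*} (Q : (ι → F) → F) (c : F) : ℕ := Nat.card {v : ι → F // Q v = c}

/-- all non-zero values are taken equally often -/
def Unif {ι : Type*} (Q : (ι → F) → F) : Prop := ∀ c : F, c ≠ 0 → cnt Q c = cnt Q 1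

/-- the excess `q N₀ - q ^ n` -/
noncomputable def exc {ι : Type*} [Fintype ι] (Q : (ι → F) → F) : ℤ :=
  (Fintype.card F : ℤ) * (cnt Q 0 : ℤ) - (Fintype.card F : ℤ) ^ Fintype.card ι

theorem unif_of_simil {ι : Type*} (Q : (ι → F) → F)
    (h : ∀ c : F, c ≠ 0 → ∃ g : (ι → F) ≃ (ι → F), ∀ v, Q (g v) = c * Q v) : Unif Q := by
  intro c hc
  obtain ⟨g, hg⟩ := h c hc
  symm
  apply Nat.card_congr
  apply Equiv.subtypeEquiv g
  intro v
  rw [hg]
  constructor
  · intro h1
    rw [h1, mul_one]
  · intro h1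
    exact mul_left_cancel₀ hc (by rw [h1, mul_one])

theorem cnt_congr {ι κ : Type*} (P : (ι → F) → F) (R : (κ → F) → F) (g : (κ → F) ≃ (ι → F))
    (h : ∀ w, P (g w) = R w) (c : F) : cnt P c = cnt R c := by
  symm
  apply Nat.card_congr
  apply Equiv.subtypeEquiv g
  intro v
  rw [h]

theorem card_filter_eq_cnt {ι : Type*} [Fintype (ι → F)] (Q : (ι → F) → F) (c : F)
    [DecidablePred (fun v : ι → F => Q v = c)] :
    (Finset.univ.filter (fun v : ι → F => Q v = c)).card = cnt Q c := by
  rw [cnt, Nat.card_eq_fintype_card, Fintype.card_subtype]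

theorem cnt_zero_le {ι : Type*} [Fintype ι] (Q : (ι → F) → F) (c : F) :
    cnt Q c ≤ Fintype.card F ^ Fintype.card ι := by
  classical
  rw [← card_filter_eq_cnt, ← Fintype.card_fun]
  exact Finset.card_le_univ _

theorem card_filter_ne_cnt {ι : Type*} [Fintype ι] [Fintype (ι → F)] (Q : (ι → F) → F) (c : F)
    [DecidablePred (fun v : ι → F => ¬ Q v = c)] :
    (Finset.univ.filter (fun v : ι → F => ¬ Q v = c)).card
      = Fintype.card F ^ Fintype.card ι - cnt Q c := by
  classical
  have h := Finset.card_filter_add_card_filter_not (s := (Finset.univ : Finset (ι → F)))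
    (fun v : ι → F => Q v = c)
  have h2 : Fintype.card (ι → F) = Fintype.card F ^ Fintype.card ι := by
    rw [← Nat.card_eq_fintype_card, Nat.card_fun, Nat.card_eq_fintype_card,
      Nat.card_eq_fintype_card]
  rw [card_filter_eq_cnt, Finset.card_univ, h2] at h
  have h3 : (Finset.univ.filter (fun v : ι → F => ¬ Q v = c)).card
      = (Finset.univ.filter (fun v : ι → F => ¬ Q v = c)).card := rfl
  convert Nat.eq_sub_of_add_eq' h using 2

theorem cnt_total {ι : Type*} [Fintype ι] (Q : (ι → F) → F) (hQ : Unif Q) :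
    cnt Q 0 + (Fintype.card F - 1) * cnt Q 1 = Fintype.card F ^ Fintype.card ι := by
  classical
  have h1 : Fintype.card (ι → F) = ∑ c : F, cnt Q c := by
    rw [← Fintype.card_congr (Equiv.sigmaFiberEquiv Q), Fintype.card_sigma]
    apply Finset.sum_congr rfl
    intro c _
    rw [cnt, Nat.card_eq_fintype_card]
  rw [Fintype.card_fun] at h1
  rw [h1, ← Finset.add_sum_erase _ _ (Finset.mem_univ (0 : F))]
  congr 1
  rw [Finset.sum_congr rfl (fun c hc => hQ c (Finset.ne_of_mem_erase hc)), Finset.sum_const,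
    Finset.card_erase_of_mem (Finset.mem_univ _), Finset.card_univ, smul_eq_mul]

theorem cnt_sum {ι κ : Type*} [Fintype ι] [Fintype κ] (A : (ι → F) → F) (B : (κ → F) → F)
    (P : (ι ⊕ κ → F) → F) (hP : ∀ v, P v = A (v ∘ Sum.inl) + B (v ∘ Sum.inr)) (hB : Unif B) :
    cnt P 0 = cnt A 0 * cnt B 0 + (Fintype.card F ^ Fintype.card ι - cnt A 0) * cnt B 1 := by
  classical
  let e : {v : ι ⊕ κ → F // P v = 0} ≃ Σ x : ι → F, {y : κ → F // B y = - A x} :=
    { toFun := fun v => ⟨v.1 ∘ Sum.inl, ⟨v.1 ∘ Sum.inr, by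
        have := v.2
        rw [hP] at this
        linear_combination this⟩⟩
      invFun := fun s => ⟨Sum.elim s.1 s.2.1, by
        rw [hP, Sum.elim_comp_inl, Sum.elim_comp_inr, s.2.2]
        ring⟩
      left_inv := by
        intro v
        apply Subtype.ext
        funext j
        rcases j with j | j <;> rfl
      right_inv := by
        rintro ⟨x, y, hy⟩
        rfl }
  have h2 : ∀ x : ι → F, Nat.card {y : κ → F // B y = - A x}
      = if A x = 0 then cnt B 0 else cnt B 1 := by
    intro x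
    split_ifs with h
    · rw [h, neg_zero]; rfl
    · exact hB _ (neg_ne_zero.2 h)
  rw [cnt, Nat.card_congr e, Nat.card_sigma, Finset.sum_congr rfl (fun x _ => h2 x),
    Finset.sum_ite, Finset.sum_const, Finset.sum_const, card_filter_eq_cnt, card_filter_ne_cnt,
    smul_eq_mul, smul_eq_mul]

theorem exc_sum {ι κ : Type*} [Fintype ι] [Fintype κ] (A : (ι → F) → F) (B : (κ → F) → F)
    (P : (ι ⊕ κ → F) → F) (hP : ∀ v, P v = A (v ∘ Sum.inl) + B (v ∘ Sum.inr)) (hB : Unif B) :
    ((Fintype.card F : ℤ) - 1) * exc P = exc A * exc B := by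
  have h1 := cnt_sum A B P hP hB
  have h2 := cnt_total B hB
  have h3 := cnt_zero_le A 0
  have hq : 1 ≤ Fintype.card F := Fintype.card_pos
  have h1' : (cnt P 0 : ℤ) = cnt A 0 * cnt B 0
      + ((Fintype.card F : ℤ) ^ Fintype.card ι - cnt A 0) * cnt B 1 := by
    rw [h1]
    push_cast [Nat.cast_sub h3]
    ring
  have h2' : (cnt B 0 : ℤ) + ((Fintype.card F : ℤ) - 1) * cnt B 1
      = (Fintype.card F : ℤ) ^ Fintype.card κ := by
    rw [← Nat.cast_pow, ← h2]
    push_cast [Nat.cast_sub hq]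
    ring
  unfold exc
  rw [h1', Fintype.card_sum, pow_add]
  set q : ℤ := (Fintype.card F : ℤ)
  set QA : ℤ := q ^ Fintype.card ι
  set QB : ℤ := q ^ Fintype.card κ
  linear_combination (q * (QA - (cnt A 0 : ℤ))) * h2'

/-- a fixed-point-free isometry of prime order `r`: `r` divides the number of `v` with `Q v = 1` -/
theorem dvd_cnt_one {ι : Type*} [Fintype ι] [DecidableEq ι] (Q : (ι → F) → F) (hQ0 : Q 0 = 0)
    (M : Matrix ι ι F) {r : ℕ} [Fact r.Prime] (hM : ∀ v, Q (M *ᵥ v) = Q v) (hMr : M ^ r = 1)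
    (hfix : ∀ v, M *ᵥ v = v → v = 0) : r ∣ cnt Q 1 := by
  classical
  let f : Function.End {v : ι → F // Q v = 1} := fun v => ⟨M *ᵥ v.1, by rw [hM]; exact v.2⟩
  have hf : ∀ (j : ℕ) (v : {v : ι → F // Q v = 1}), ((f ^ j) v).1 = (M ^ j) *ᵥ v.1 := by
    intro j
    induction j with
    | zero => intro v; rw [pow_zero, pow_zero, Matrix.one_mulVec]; rfl
    | succ j ih =>
      intro v
      rw [pow_succ', pow_succ', ← Matrix.mulVec_mulVec, ← ih]
      rfl
  have hfr : f ^ r ^ 1 = 1 := by
    rw [pow_one]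
    funext v
    apply Subtype.ext
    rw [hf, hMr, Matrix.one_mulVec]
    rfl
  have h1 := Equiv.Perm.card_fixedPoints_modEq hfr
  have h2 : IsEmpty (Function.fixedPoints f) := by
    constructor
    rintro ⟨v, hv⟩
    have h3 : M *ᵥ v.1 = v.1 := congrArg Subtype.val hv
    have h4 := hfix _ h3
    have h5 := v.2
    rw [h4, hQ0] at h5
    exact zero_ne_one h5
  rw [Fintype.card_eq_zero (α := ↥(Function.fixedPoints f))] at h1
  rw [cnt, Nat.card_eq_fintype_card]
  exact (Nat.modEq_zero_iff_dvd).1 h1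

end Cfsg.Agent.Lib.Helper38.QCnt
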