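import Cfsg.Agent.Lib.Helper38.QCount
import Cfsg.Agent.Lib.Helper38.OrthOrderC
import Cfsg.Agent.Lib.Helper43.PO.Class2
import Cfsg.Agent.Lib.Helper44.SumForm
import Cfsg.Agent.S2624
import Cfsg.Agent.S0289
import Cfsg.Agent.S0290

set_option autoImplicit false

/-! The sign of a non-degenerate quadratic form of even dimension over a finite field, by counting
singular vectors. -/

namespace Cfsg.Agent.Lib.Helper38.QCnt

open Matrix QuadraticMap Cfsg.Agent.Lib.Helper44 Cfsg.Agent.Lib.Helper43.PO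
  Cfsg.Agent.Lib.Helper38.CycF

variable {F : Type*} [Field F] [Fintype F]

theorem unif_of_nondeg {ι : Type} [Fintype ι] {n : ℕ} (hι : Fintype.card ι = 2 * (n + 1))
    (Q : QuadraticForm F (ι → F)) (hQ : (polarBilin Q).Nondegenerate) : Unif ⇑Q := by
  apply unif_of_simil
  intro c hc
  let e : ι ≃ Fin (2 * (n + 1)) := Fintype.equivFinOfCardEq hι
  let L : (Fin (2 * (n + 1)) → F) ≃ₗ[F] (ι → F) := LinearEquiv.funCongrLeft F F e
  obtain ⟨g, hg⟩ := Cfsg.Agent.S2624.result (by omega) (even_two_mul _) _ (comp_nondeg Q hQ L) c hc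
  refine ⟨((L.symm.trans g).trans L).toEquiv, ?_⟩
  intro v
  have h3 := hg (L.symm v)
  simp only [QuadraticMap.comp_apply, LinearEquiv.coe_coe, LinearEquiv.apply_symm_apply] at h3
  exact h3

theorem cnt_isoM {ι κ : Type} [Fintype ι] [Fintype κ] [DecidableEq ι] [DecidableEq κ]
    {P : QuadraticForm F (ι → F)} {R : QuadraticForm F (κ → F)} (h : IsoM P R) (c : F) :
    cnt ⇑P c = cnt ⇑R c := by
  obtain ⟨M, N, h1, h2, h3⟩ := h
  apply cnt_congr _ _ ⟨fun w => M *ᵥ w, fun w => N *ᵥ w, fun w => by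
    simp only [Matrix.mulVec_mulVec, h2, Matrix.one_mulVec], fun w => by
    simp only [Matrix.mulVec_mulVec, h1, Matrix.one_mulVec]⟩
  exact h3

theorem exc_isoM {ι κ : Type} [Fintype ι] [Fintype κ] [DecidableEq ι] [DecidableEq κ]
    {P : QuadraticForm F (ι → F)} {R : QuadraticForm F (κ → F)} (h : IsoM P R)
    (hc : Fintype.card ι = Fintype.card κ) : exc ⇑P = exc ⇑R := by
  unfold exc
  rw [cnt_isoM h, hc]

theorem exc_plus (n : ℕ) : exc ⇑(plusQF (n + 1) F)
    = (Fintype.card F : ℤ) ^ (n + 1) * ((Fintype.card F : ℤ) - 1) := by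
  have h := Cfsg.Agent.S0289.result (F := F) rfl (n + 1) (by omega)
  unfold exc cnt
  rw [plusQF_coe, h]
  have h1 : Fintype.card F ^ (n + 1 - 1) ≤ Fintype.card F ^ (2 * (n + 1) - 1) + Fintype.card F ^ (n + 1) :=
    le_add_left (Nat.pow_le_pow_right Fintype.card_pos (by omega))
  rw [Nat.cast_sub h1]
  simp only [Fintype.card_sum, Fintype.card_fin, Nat.add_sub_cancel]
  have h2 : 2 * (n + 1) - 1 = 2 * n + 1 := by omega
  rw [h2]
  push_cast
  ring

theorem exc_minus (n : ℕ) {a b : F}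
    (hab : ∀ z₁ z₂ : F, z₁ ^ 2 + a * z₁ * z₂ + b * z₂ ^ 2 = 0 → z₁ = 0 ∧ z₂ = 0) :
    exc ⇑(minusQF n F a b) = - ((Fintype.card F : ℤ) ^ (n + 1) * ((Fintype.card F : ℤ) - 1)) := by
  have h : Nat.card {v : (Fin n ⊕ Fin n) ⊕ Fin 2 → F // Cfsg.quadFormMinus n F a b v = 0}
      = Fintype.card F ^ (2 * (n + 1) - 1) + Fintype.card F ^ n - Fintype.card F ^ (n + 1) :=
    Cfsg.Agent.S0290.result (F := F) rfl (n + 1) (by omega) a b hab
  unfold exc cnt
  rw [minusQF_coe, h]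
  have h1 : Fintype.card F ^ (n + 1) ≤ Fintype.card F ^ (2 * (n + 1) - 1) + Fintype.card F ^ n :=
    le_add_right (Nat.pow_le_pow_right Fintype.card_pos (by omega))
  rw [Nat.cast_sub h1]
  simp only [Fintype.card_sum, Fintype.card_fin]
  have h2 : 2 * (n + 1) - 1 = 2 * n + 1 := by omega
  rw [h2]
  push_cast
  ring

theorem card_pow_mul_pos (n : ℕ) :
    0 < (Fintype.card F : ℤ) ^ (n + 1) * ((Fintype.card F : ℤ) - 1) := by
  have h1 : 1 < Fintype.card F := Fintype.one_lt_card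
  have h2 : (1 : ℤ) < (Fintype.card F : ℤ) := by exact_mod_cast h1
  apply mul_pos
  · apply pow_pos; omega
  · omega

theorem exists_aniso (F : Type*) [Field F] [Fintype F] : ∃ ζ : F, ∀ t : F, t ^ 2 + t + ζ ≠ 0 := by
  by_contra hcon
  push Not at hcon
  have hs : Function.Surjective (fun t : F => t ^ 2 + t) := by
    intro y
    obtain ⟨t, ht⟩ := hcon (-y)
    exact ⟨t, by show t ^ 2 + t = y; linear_combination ht⟩
  have hi := (Finite.injective_iff_surjective).2 hs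
  have h1 : (0 : F) = -1 := hi (by show (0 : F) ^ 2 + 0 = (-1) ^ 2 + (-1); ring)
  have h2 : (1 : F) = 0 := by linear_combination h1
  exact one_ne_zero h2

/-- the dichotomy, with the value of the excess -/
theorem sign_dich {ι : Type} [Fintype ι] [DecidableEq ι] {n : ℕ}
    (hι : Fintype.card ι = 2 * (n + 1))
    (P : QuadraticForm F (ι → F)) (hP : (polarBilin P).Nondegenerate) :
    (IsoM P (plusQF (n + 1) F) ∧
      exc ⇑P = (Fintype.card F : ℤ) ^ (n + 1) * ((Fintype.card F : ℤ) - 1)) ∨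
    ((∀ a b : F, (∀ z₁ z₂ : F, z₁ ^ 2 + a * z₁ * z₂ + b * z₂ ^ 2 = 0 → z₁ = 0 ∧ z₂ = 0) →
      IsoM P (minusQF n F a b)) ∧
      exc ⇑P = - ((Fintype.card F : ℤ) ^ (n + 1) * ((Fintype.card F : ℤ) - 1))) := by
  rcases dich P hP hι with h | ⟨ζ, hζ, h⟩
  · left
    refine ⟨h, ?_⟩
    rw [exc_isoM h (by rw [hι]; simp only [Fintype.card_sum, Fintype.card_fin]; omega), exc_plus]
  · right
    refine ⟨fun a b hab => h.trans (minus_unique (aniso_of_irr hζ) hab n), ?_⟩
    rw [exc_isoM h (by rw [hι, minus_card']), exc_minus n (aniso_of_irr hζ)]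

theorem isoM_plus_of_pos {ι : Type} [Fintype ι] [DecidableEq ι] {n : ℕ}
    (hι : Fintype.card ι = 2 * (n + 1))
    (P : QuadraticForm F (ι → F)) (hP : (polarBilin P).Nondegenerate) (h : 0 < exc ⇑P) :
    IsoM P (plusQF (n + 1) F) := by
  rcases sign_dich hι P hP with ⟨h1, -⟩ | ⟨-, h2⟩
  · exact h1
  · have := card_pow_mul_pos (F := F) n
    omega

theorem isoM_minus_of_neg {ι : Type} [Fintype ι] [DecidableEq ι] {n : ℕ}
    (hι : Fintype.card ι = 2 * (n + 1))
    (P : QuadraticForm F (ι → F)) (hP : (polarBilin P).Nondegenerate) (h : exc ⇑P < 0) {a b : F}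
    (hab : ∀ z₁ z₂ : F, z₁ ^ 2 + a * z₁ * z₂ + b * z₂ ^ 2 = 0 → z₁ = 0 ∧ z₂ = 0) :
    IsoM P (minusQF n F a b) := by
  rcases sign_dich hι P hP with ⟨-, h2⟩ | ⟨h1, -⟩
  · have := card_pow_mul_pos (F := F) n
    omega
  · exact h1 a b hab

end Cfsg.Agent.Lib.Helper38.QCnt
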