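import Cfsg.Agent.Lib.Helper38.QSign

set_option autoImplicit false

/-! Elements of odd prime order in even-dimensional orthogonal groups: which types occur. -/

namespace Cfsg.Agent.Lib.Helper38.QCnt

open Polynomial Matrix QuadraticMap Cfsg.Agent.Lib.Helper44 Cfsg.Agent.Lib.Helper43.PO
  Cfsg.Agent.Lib.Helper38.CycF Cfsg.Agent.Lib.Helper45

variable {F : Type*} [Field F] [Fintype F]

theorem pow_eq_of_fpf_aux {ι : Type} [Fintype ι] [DecidableEq ι] {n : ℕ}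
    (hι : Fintype.card ι = 2 * (n + 1))
    (P : QuadraticForm F (ι → F)) (hP : (polarBilin P).Nondegenerate) (M : Matrix ι ι F) {r : ℕ}
    [Fact r.Prime] (hrq : ¬ r ∣ Fintype.card F)
    (hM : ∀ v, P (M *ᵥ v) = P v) (hMr : M ^ r = 1) (hfix : ∀ v, M *ᵥ v = v → v = 0) (ε : ℤ)
    (hε : exc ⇑P = ε * ((Fintype.card F : ℤ) ^ (n + 1) * ((Fintype.card F : ℤ) - 1))) :
    ((Fintype.card F : ℕ) : ZMod r) ^ (n + 1) = (ε : ZMod r) := by
  have h1 := dvd_cnt_one ⇑P (map_zero P) M hM hMr hfix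
  have h2 := cnt_total ⇑P (unif_of_nondeg hι P hP)
  have hq : 1 ≤ Fintype.card F := Fintype.card_pos
  have hq1 : 1 < Fintype.card F := Fintype.one_lt_card
  have h2' : (cnt ⇑P 0 : ℤ) + ((Fintype.card F : ℤ) - 1) * cnt ⇑P 1
      = (Fintype.card F : ℤ) ^ (2 * (n + 1)) := by
    rw [← hι, ← Nat.cast_pow, ← h2]
    push_cast [Nat.cast_sub hq]
    ring
  unfold exc at hε
  rw [hι] at hε
  set q : ℤ := (Fintype.card F : ℤ) with hqdef
  have hq2 : q - 1 ≠ 0 := by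
    have : (1 : ℤ) < q := by rw [hqdef]; exact_mod_cast hq1
    omega
  have h3 : q * (cnt ⇑P 1 : ℤ) = q ^ (n + 1) * (q ^ (n + 1) - ε) := by
    apply mul_left_cancel₀ hq2
    linear_combination (-1 : ℤ) * hε + q * h2'
  have h4 := congrArg (fun z : ℤ => (z : ZMod r)) h3
  simp only [Int.cast_mul, Int.cast_pow, Int.cast_sub, Int.cast_natCast, hqdef] at h4
  rw [(ZMod.natCast_eq_zero_iff (cnt ⇑P 1) r).2 h1, mul_zero] at h4
  have h5 : ((Fintype.card F : ℕ) : ZMod r) ≠ 0 := by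
    rwa [Ne, ZMod.natCast_eq_zero_iff]
  rcases mul_eq_zero.1 h4.symm with h6 | h6
  · exact absurd h6 (pow_ne_zero _ h5)
  · exact sub_eq_zero.1 h6

/-- a fixed-point-free isometry of order `r` determines the sign -/
theorem pow_eq_of_fpf {ι : Type} [Fintype ι] [DecidableEq ι] {n : ℕ}
    (hι : Fintype.card ι = 2 * (n + 1))
    (P : QuadraticForm F (ι → F)) (hP : (polarBilin P).Nondegenerate) (M : Matrix ι ι F) {r : ℕ}
    [Fact r.Prime] (hrq : ¬ r ∣ Fintype.card F)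
    (hM : ∀ v, P (M *ᵥ v) = P v) (hMr : M ^ r = 1) (hfix : ∀ v, M *ᵥ v = v → v = 0) :
    (0 < exc ⇑P → ((Fintype.card F : ℕ) : ZMod r) ^ (n + 1) = 1) ∧
      (exc ⇑P < 0 → ((Fintype.card F : ℕ) : ZMod r) ^ (n + 1) = -1) := by
  have hpos := card_pow_mul_pos (F := F) n
  rcases sign_dich hι P hP with ⟨-, h2⟩ | ⟨-, h2⟩
  · refine ⟨fun _ => ?_, fun h => by omega⟩
    have := pow_eq_of_fpf_aux hι P hP M hrq hM hMr hfix 1 (by rw [h2, one_mul])
    simpa using this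
  · refine ⟨fun h => by omega, fun _ => ?_⟩
    have := pow_eq_of_fpf_aux hι P hP M hrq hM hMr hfix (-1) (by rw [h2]; ring)
    simpa using this

theorem exc_ne_zero {ι : Type} [Fintype ι] [DecidableEq ι] {n : ℕ}
    (hι : Fintype.card ι = 2 * (n + 1))
    (P : QuadraticForm F (ι → F)) (hP : (polarBilin P).Nondegenerate) :
    0 < exc ⇑P ∨ exc ⇑P < 0 := by
  have hpos := card_pow_mul_pos (F := F) n
  rcases sign_dich hι P hP with ⟨-, h2⟩ | ⟨-, h2⟩
  · left; omega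
  · right; omega

theorem isoM_of_same_sign {ι κ : Type} [Fintype ι] [DecidableEq ι] [Fintype κ] [DecidableEq κ]
    {n : ℕ} (hι : Fintype.card ι = 2 * (n + 1)) (hκ : Fintype.card κ = 2 * (n + 1))
    (P : QuadraticForm F (ι → F)) (hP : (polarBilin P).Nondegenerate)
    (Q : QuadraticForm F (κ → F)) (hQ : (polarBilin Q).Nondegenerate)
    (h : (0 < exc ⇑P ∧ 0 < exc ⇑Q) ∨ (exc ⇑P < 0 ∧ exc ⇑Q < 0)) : IsoM P Q := by
  rcases h with ⟨h1, h2⟩ | ⟨h1, h2⟩
  · exact (isoM_plus_of_pos hι P hP h1).trans (isoM_plus_of_pos hκ Q hQ h2).symm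
  · obtain ⟨ζ, hζ⟩ := exists_aniso F
    exact (isoM_minus_of_neg hι P hP h1 (aniso_of_irr hζ)).trans
      (isoM_minus_of_neg hκ Q hQ h2 (aniso_of_irr hζ)).symm

theorem exists_isometry_of_isoM {ι₁ ι₂ : Type} [Fintype ι₁] [DecidableEq ι₁] [Fintype ι₂]
    [DecidableEq ι₂] (P : QuadraticForm F (ι₁ → F)) (Q : QuadraticForm F (ι₂ → F)) (h : IsoM P Q)
    (M : Matrix ι₁ ι₁ F) (hM : ∀ v, P (M *ᵥ v) = P v) {r : ℕ} (hr : r ≠ 0) (hMr : M ^ r = 1) :
    ∃ g : ↥(Cfsg.isometryGroup F ⇑Q), g ^ r = 1 ∧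
      ((g : GL ι₂ F) : Matrix ι₂ ι₂ F).charpoly = M.charpoly := by
  obtain ⟨A, B, h1, h2, h3⟩ := h
  apply exists_isometry_of_similar P Q (Matrix.toLin'OfInv h1 h2) 1 _ M hM hr hMr
  intro v
  have e : (Matrix.toLin'OfInv h1 h2) v = B *ᵥ v := rfl
  rw [one_mul, e, ← h3, Matrix.mulVec_mulVec, h1, Matrix.one_mulVec]

theorem order_typ_of_charpoly (p : ℕ) [hp : Fact p.Prime] [CharP F p] {r : ℕ} (hr : r.Prime)
    (hrp : r ≠ p) {ι : Type} [Fintype ι] [DecidableEq ι] (Q : (ι → F) → F) (n i : ℕ)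
    (hn : Fintype.card ι = n) (hi : i = orderOf ((Fintype.card F : ℕ) : ZMod r))
    (μ : Multiset ↥(facs F r)) (hμ0 : μ ≠ 0) (hμ : i * Multiset.card μ ≤ n)
    (g : ↥(Cfsg.isometryGroup F Q)) (hg1 : g ^ r = 1)
    (hc : ((g : GL ι F) : Matrix ι ι F).charpoly = f0 μ * (X - 1) ^ (n - i * Multiset.card μ)) :
    orderOf g = r ∧ typ ((g : GL ι F) : Matrix ι ι F) = tau n i r μ := by
  have hgr : ((g : GL ι F) : Matrix ι ι F) ^ r = 1 := by
    have h3 := congrArg (fun x : ↥(Cfsg.isometryGroup F Q) => ((x : GL ι F) : Matrix ι ι F)) hg1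
    simp only [SubmonoidClass.coe_pow, Units.val_pow_eq_pow_val, OneMemClass.coe_one,
      Units.val_one] at h3
    exact h3
  have hty := typ_eq_tau_of_charpoly p hr hrp n i hn hi μ hμ _ hgr hc
  refine ⟨?_, hty⟩
  have : Fact r.Prime := ⟨hr⟩
  apply orderOf_eq_prime hg1
  intro h
  have hA := hasType_typ ((g : GL ι F) : Matrix ι ι F)
  rw [hty] at hA
  apply ne_one_of_hasType_tau p hr hrp _ _ _ hμ0 hA
  rw [h]
  rfl

theorem fix_of_charpoly (p : ℕ) [hp : Fact p.Prime] [CharP F p] {r : ℕ} (hr : r.Prime)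
    (hrp : r ≠ p) {ι : Type} [Fintype ι] [DecidableEq ι] (μ : Multiset ↥(facs F r))
    (G : Matrix ι ι F) (hch : G.charpoly = f0 μ) (v : ι → F) (hv : G *ᵥ v = v) : v = 0 := by
  have h2 := Matrix.eval_charpoly G 1
  rw [hch] at h2
  have h3 := eval_one_f0_ne_zero p hr hrp μ
  rw [h2] at h3
  apply Matrix.eq_zero_of_mulVec_eq_zero h3
  rw [map_one, Matrix.sub_mulVec, Matrix.one_mulVec, hv, sub_self]

/-- necessity: an element without fixed vectors determines the sign of the form -/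
theorem full_sign (p : ℕ) [hp : Fact p.Prime] [CharP F p] {r : ℕ} (hr : r.Prime)
    (hrp : r ≠ p) {ι : Type} [Fintype ι] [DecidableEq ι] {n : ℕ}
    (hι : Fintype.card ι = 2 * (n + 1)) (Q : QuadraticForm F (ι → F))
    (hQ : (polarBilin Q).Nondegenerate) (hrq : ¬ r ∣ Fintype.card F) (i : ℕ)
    (hi : i = orderOf ((Fintype.card F : ℕ) : ZMod r))
    (g : ↥(Cfsg.isometryGroup F ⇑Q)) (hg : orderOf g = r) (μ : Multiset ↥(facs F r))
    (hT : typ ((g : GL ι F) : Matrix ι ι F) = tau (2 * (n + 1)) i r μ)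
    (hfull : i * Multiset.card μ = 2 * (n + 1)) :
    (0 < exc ⇑Q → ((Fintype.card F : ℕ) : ZMod r) ^ (n + 1) = 1) ∧
      (exc ⇑Q < 0 → ((Fintype.card F : ℕ) : ZMod r) ^ (n + 1) = -1) := by
  have : Fact r.Prime := ⟨hr⟩
  have hGr := orth_coe_pow_orderOf g
  rw [hg] at hGr
  have hch : ((g : GL ι F) : Matrix ι ι F).charpoly = f0 μ := by
    have h3 := (hasType_typ ((g : GL ι F) : Matrix ι ι F)).charpoly_of_mem_ssTypes
      (by rw [hT]; exact tau_mem_ssTypes p hr hrp (2 * (n + 1)) i hi μ hfull.le)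
    rw [hT, prod_tau, hfull, Nat.sub_self, pow_zero, mul_one] at h3
    exact h3
  exact pow_eq_of_fpf hι Q hQ _ hrq (mem_isometryGroup.1 g.2) hGr
    (fix_of_charpoly p hr hrp μ _ hch)

end Cfsg.Agent.Lib.Helper38.QCnt
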