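import Mathlib

set_option autoImplicit false

/-! Symplectic matrices with prescribed characteristic polynomial, part A. -/

namespace Cfsg.Agent.Lib.Helper38.SpSS

open Matrix Polynomial

variable {F : Type*} [Field F] {l : Type*} [Fintype l] [DecidableEq l]

theorem block_mem (N S : Matrix l l F) (hS : Sᵀ = S) (hdet : IsUnit S.det)
    (hNS : N * S = S * Nᵀ) :
    fromBlocks N (-S) S⁻¹ 0 ∈ symplecticGroup l F := by
  rw [SymplecticGroup.mem_iff, J, fromBlocks_multiply, fromBlocks_transpose, fromBlocks_multiply]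
  have h1 : (S⁻¹)ᵀ = S⁻¹ := by rw [transpose_nonsing_inv, hS]
  have h2 : S * S⁻¹ = 1 := mul_nonsing_inv _ hdet
  have h3 : S⁻¹ * S = 1 := nonsing_inv_mul _ hdet
  simp only [Matrix.mul_zero, Matrix.zero_mul, Matrix.mul_one, Matrix.mul_neg, Matrix.neg_mul,
    Matrix.transpose_zero, Matrix.transpose_neg, add_zero, zero_add, neg_zero, h1, hS, h2, h3,
    neg_neg, hNS]
  congr 1
  simp

/-- the polynomial `det (X (X - N) + 1)`. -/
noncomputable def quadDet (N : Matrix l l F) : F[X] :=
  ((X : F[X]) • charmatrix N + 1).det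

theorem charpoly_block (N S : Matrix l l F) (hdet : IsUnit S.det) :
    (fromBlocks N (-S) S⁻¹ 0).charpoly = quadDet N := by
  have h2 : S * S⁻¹ = 1 := mul_nonsing_inv _ hdet
  have hmul : charmatrix (fromBlocks N (-S) S⁻¹ 0) *
      fromBlocks ((X : F[X]) • (1 : Matrix l l F[X])) 0 (S⁻¹.map C) 1 =
      fromBlocks ((X : F[X]) • charmatrix N + 1) (S.map C) 0 ((X : F[X]) • (1 : Matrix l l F[X])) := by
    rw [charmatrix_fromBlocks, fromBlocks_multiply]
    have h4 : S.map (C : F → F[X]) * S⁻¹.map C = 1 := by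
      rw [← Matrix.map_mul, h2]
      simp
    have h5 : charmatrix (0 : Matrix l l F) = (X : F[X]) • (1 : Matrix l l F[X]) := by
      ext i j
      by_cases h : i = j <;> simp [charmatrix_apply, h, Matrix.one_apply]
    have h6 : (-S).map (C : F → F[X]) = -(S.map C) := by
      ext i j; simp
    rw [h5, h6, neg_neg]
    congr 1
    · simp [h4]
    · simp
    · simp
    · simp
  have hdet2 := congrArg Matrix.det hmul
  rw [det_mul, det_fromBlocks_zero₁₂, det_fromBlocks_zero₂₁, det_one, mul_one] at hdet2
  have hX : ((X : F[X]) • (1 : Matrix l l F[X])).det ≠ 0 := by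
    rw [det_smul, det_one, mul_one]
    exact pow_ne_zero _ X_ne_zero
  exact mul_right_cancel₀ hX hdet2

theorem eval_quadDet {L : Type*} [Field L] [Algebra F L] (N : Matrix l l F) (x : L) (hx : x ≠ 0) :
    (quadDet N).eval₂ (algebraMap F L) x =
      x ^ Fintype.card l * (N.charpoly.map (algebraMap F L)).eval (x + x⁻¹) := by
  rw [← charpoly_map, eval_charpoly, ← det_smul, quadDet, ← coe_eval₂RingHom, RingHom.map_det]
  congr 1
  ext i j
  by_cases h : i = j
  · subst h
    simp [charmatrix_apply]
    field_simp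
    ring
  · simp [charmatrix_apply, h]
    exact mul_comm _ _

theorem charpoly_eq_of_quadDet_eq {N N' : Matrix l l F} (h : quadDet N = quadDet N') :
    N.charpoly = N'.charpoly := by
  let L := AlgebraicClosure F
  apply Polynomial.map_injective (algebraMap F L) (algebraMap F L).injective
  apply Polynomial.funext
  intro c
  obtain ⟨x, hx⟩ := IsAlgClosed.exists_root (X ^ 2 - C c * X + 1 : L[X]) (by
    have : (X ^ 2 - C c * X + 1 : L[X]).degree = 2 := by compute_degree!
    rw [this]; norm_num)
  have hx' : x ^ 2 - c * x + 1 = 0 := by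
    simpa [IsRoot] using hx
  have hx0 : x ≠ 0 := by
    rintro rfl
    simp at hx'
  have hc : c = x + x⁻¹ := by
    have : x * x⁻¹ = 1 := mul_inv_cancel₀ hx0
    have h7 : c * x = (x + x⁻¹) * x := by
      linear_combination -hx' - this
    exact mul_right_cancel₀ hx0 h7
  have h1 := eval_quadDet (L := L) N x hx0
  have h2 := eval_quadDet (L := L) N' x hx0
  rw [h, h2] at h1
  rw [hc]
  exact (mul_left_cancel₀ (pow_ne_zero _ hx0) h1).symm

end Cfsg.Agent.Lib.Helper38.SpSS
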