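import Mathlib

set_option autoImplicit false

/-! Every monic polynomial is the characteristic polynomial of a matrix `N` that is self-adjoint
for a nondegenerate symmetric form `S`. -/

namespace Cfsg.Agent.Lib.Helper38.SpSS

open Matrix Polynomial

variable {F : Type*} [Field F]

/-- the bilinear form `(u,v) ↦ coeff_{n-1}(uv)` on `F[X]/(h)`. -/
noncomputable def topForm (h : F[X]) (hm : h.Monic) : LinearMap.BilinForm F (AdjoinRoot h) :=
  (LinearMap.mul F (AdjoinRoot h)).compr₂
    ((Polynomial.lcoeff F (h.natDegree - 1)).comp (AdjoinRoot.modByMonicHom hm))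

theorem topForm_apply (h : F[X]) (hm : h.Monic) (u v : AdjoinRoot h) :
    topForm h hm u v = (AdjoinRoot.modByMonicHom hm (u * v)).coeff (h.natDegree - 1) := rfl

theorem topForm_separatingLeft (h : F[X]) (hm : h.Monic) : (topForm h hm).SeparatingLeft := by
  intro u hu
  by_contra hu0
  set g := AdjoinRoot.modByMonicHom hm u with hg
  have hgu : AdjoinRoot.mk h g = u := AdjoinRoot.mk_leftInverse hm u
  have hg0 : g ≠ 0 := by
    intro h0
    rw [h0, map_zero] at hgu
    exact hu0 hgu.symm
  have hdeg : g.degree < h.degree := by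
    obtain ⟨g0, rfl⟩ := AdjoinRoot.mk_surjective u
    rw [hg, AdjoinRoot.modByMonicHom_mk]
    exact degree_modByMonic_lt _ hm
  have hnd : g.natDegree < h.natDegree := natDegree_lt_natDegree hg0 hdeg
  have h1 := hu (AdjoinRoot.mk h (X ^ (h.natDegree - 1 - g.natDegree)))
  rw [topForm_apply, ← hgu, ← map_mul, AdjoinRoot.modByMonicHom_mk,
    (modByMonic_eq_self_iff hm).2] at h1
  · have h2 : h.natDegree - 1 = g.natDegree + (h.natDegree - 1 - g.natDegree) := by omega
    rw [h2] at h1
    have h3 : h.natDegree - 1 - g.natDegree =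
      g.natDegree + (h.natDegree - 1 - g.natDegree) - g.natDegree := by omega
    rw [← h3, coeff_mul_X_pow] at h1
    exact hg0 (leadingCoeff_eq_zero.1 h1)
  · rw [degree_mul, degree_X_pow, degree_eq_natDegree hg0, degree_eq_natDegree hm.ne_zero]
    norm_cast
    omega

theorem exists_NS (h : F[X]) (hm : h.Monic) :
    ∃ N S : Matrix (Fin h.natDegree) (Fin h.natDegree) F,
      Sᵀ = S ∧ IsUnit S.det ∧ N * S = S * Nᵀ ∧ N.charpoly = h := by
  let pb := AdjoinRoot.powerBasis hm.ne_zero
  let b : Module.Basis (Fin h.natDegree) F (AdjoinRoot h) := pb.basis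
  let B := topForm h hm
  let L := Algebra.leftMulMatrix b pb.gen
  have hsymm : ∀ u v, B u v = B v u := by
    intro u v
    show topForm h hm u v = topForm h hm v u
    rw [topForm_apply, topForm_apply, mul_comm]
  refine ⟨Lᵀ, LinearMap.BilinForm.toMatrix b B, ?_, ?_, ?_, ?_⟩
  · ext i j
    simp only [transpose_apply, LinearMap.BilinForm.toMatrix_apply]
    exact hsymm _ _
  · rw [isUnit_iff_ne_zero, ← LinearMap.BilinForm.nondegenerate_iff_det_ne_zero]
    have hrefl : LinearMap.IsRefl B := by
      intro u v huv
      rw [hsymm, huv]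
    exact (LinearMap.IsRefl.nondegenerate_iff_separatingLeft hrefl).2
      (topForm_separatingLeft h hm)
  · rw [transpose_transpose]
    have h1 := LinearMap.BilinForm.toMatrix_compLeft b B (Algebra.lmul F (AdjoinRoot h) pb.gen)
    have h2 := LinearMap.BilinForm.toMatrix_compRight b B (Algebra.lmul F (AdjoinRoot h) pb.gen)
    have h3 : B.compLeft (Algebra.lmul F (AdjoinRoot h) pb.gen) =
        B.compRight (Algebra.lmul F (AdjoinRoot h) pb.gen) := by
      ext u v
      show topForm h hm (pb.gen * u) v = topForm h hm u (pb.gen * v)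
      rw [topForm_apply, topForm_apply]
      congr 2
      ring
    rw [h3, h2] at h1
    exact h1.symm
  · rw [charpoly_transpose]
    have := charpoly_leftMulMatrix pb
    rw [AdjoinRoot.minpoly_powerBasis_gen_of_monic hm] at this
    exact this

end Cfsg.Agent.Lib.Helper38.SpSS
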