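import Mathlib
import Cfsg.Agent.Lib.Helper38.SpSSA
import Cfsg.Agent.Lib.Helper38.SpSSB

set_option autoImplicit false

/-! Symplectic matrices with prescribed characteristic polynomial, part C. -/

namespace Cfsg.Agent.Lib.Helper38.SpSS

open Matrix Polynomial

variable {F : Type*} [Field F] {l : Type*} [Fintype l] [DecidableEq l]

theorem charpoly_reverse_of_mem {A : Matrix (l ⊕ l) (l ⊕ l) F} (hA : A ∈ symplecticGroup l F) :
    A.charpoly.reverse = A.charpoly := by
  have hdet : A.det = 1 := SymplecticGroup.det_eq_one hA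
  have hu : IsUnit A := by
    rw [Matrix.isUnit_iff_isUnit_det, hdet]; exact isUnit_one
  have h1 := charpoly_inv A hu
  rw [hdet, Fintype.card_sum, ← two_mul, pow_mul] at h1
  simp only [even_two, Even.neg_pow, one_pow, Ring.inverse_one, map_one, one_mul] at h1
  rw [reverse_charpoly, ← h1, SymplecticGroup.inv_eq_symplectic_inv A hA, charpoly_mul_comm,
    ← Matrix.mul_assoc, Matrix.mul_neg, J_squared, neg_neg, Matrix.one_mul, charpoly_transpose]

theorem coeff_symm_of_mem {A : Matrix (l ⊕ l) (l ⊕ l) F} (hA : A ∈ symplecticGroup l F)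
    {i : ℕ} (hi : i ≤ 2 * Fintype.card l) :
    A.charpoly.coeff i = A.charpoly.coeff (2 * Fintype.card l - i) := by
  have hnd : A.charpoly.natDegree = 2 * Fintype.card l := by
    rw [charpoly_natDegree_eq_dim, Fintype.card_sum, two_mul]
  conv_lhs => rw [← charpoly_reverse_of_mem hA]
  rw [coeff_reverse, hnd, revAt_le hi]

theorem charpoly_eq_of_isConj {g h : ↥(symplecticGroup l F)} (hgh : IsConj g h) :
    (g : Matrix (l ⊕ l) (l ⊕ l) F).charpoly = (h : Matrix (l ⊕ l) (l ⊕ l) F).charpoly := by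
  obtain ⟨c, hc⟩ := isConj_iff.1 hgh
  rw [← hc]
  show _ = ((c : Matrix (l ⊕ l) (l ⊕ l) F) * g * ((c⁻¹ : ↥(symplecticGroup l F)) :
    Matrix (l ⊕ l) (l ⊕ l) F)).charpoly
  rw [charpoly_mul_comm, ← Matrix.mul_assoc]
  have : ((c⁻¹ : ↥(symplecticGroup l F)) : Matrix (l ⊕ l) (l ⊕ l) F) * c = 1 := by
    have := congrArg Subtype.val (inv_mul_cancel c)
    exact this
  rw [this, Matrix.one_mul]

theorem charpoly_pow_card_pow [Fintype F] {m : Type*} [Fintype m] [DecidableEq m]
    (M : Matrix m m F) (k : ℕ) : (M ^ (Fintype.card F ^ k)).charpoly = M.charpoly := by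
  induction k with
  | zero => simp
  | succ k ih => rw [pow_succ, pow_mul, FiniteField.Matrix.charpoly_pow_card, ih]

theorem coprime_orderOf_pow {G : Type*} [Group G] [Finite G] (g : G) (p : ℕ) [hp : Fact p.Prime]
    (K : ℕ) (hK : orderOf g ≤ K) : (orderOf (g ^ (p ^ K))).Coprime p := by
  have ho : 0 < orderOf g := orderOf_pos g
  rw [orderOf_pow]
  set o := orderOf g with hod
  have h1 : ordProj[p] o * ordCompl[p] o = o := Nat.ordProj_mul_ordCompl_eq_self o p
  have h2 : (ordCompl[p] o).Coprime p := (Nat.coprime_ordCompl hp.out ho.ne').symm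
  have h3 : o.factorization p ≤ K := le_trans (Nat.factorization_lt p ho.ne').le hK
  have h4 : Nat.gcd o (p ^ K) = ordProj[p] o := by
    conv_lhs => rw [← h1]
    rw [Nat.Coprime.gcd_mul_right_cancel _ (Nat.Coprime.pow_right K h2)]
    exact Nat.gcd_eq_left (pow_dvd_pow p h3)
  rw [h4]
  exact h2

theorem exists_pprime_part [Fintype F] (p : ℕ) [hp : Fact p.Prime] [CharP F p]
    (g : ↥(symplecticGroup l F)) :
    ∃ s : ↥(symplecticGroup l F), (orderOf s).Coprime p ∧
      (s : Matrix (l ⊕ l) (l ⊕ l) F).charpoly = (g : Matrix (l ⊕ l) (l ⊕ l) F).charpoly := by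
  obtain ⟨⟨f, hf0⟩, -, hf⟩ := FiniteField.card F p
  simp only [PNat.mk_coe] at hf
  refine ⟨g ^ (Fintype.card F ^ orderOf g), ?_, ?_⟩
  · rw [hf, ← pow_mul]
    apply coprime_orderOf_pow
    exact Nat.le_mul_of_pos_left _ hf0
  · rw [SubmonoidClass.coe_pow, charpoly_pow_card_pow]

theorem exists_ss_of_monic [Fintype F] (p : ℕ) [hp : Fact p.Prime] [CharP F p] (n : ℕ)
    (h : F[X]) (hm : h.Monic) (hn : h.natDegree = n) :
    ∃ s : ↥(symplecticGroup (Fin n) F), (orderOf s).Coprime p ∧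
      ∃ N : Matrix (Fin n) (Fin n) F, N.charpoly = h ∧
        (s : Matrix (Fin n ⊕ Fin n) (Fin n ⊕ Fin n) F).charpoly = quadDet N := by
  subst hn
  obtain ⟨N, S, hS, hdet, hNS, hch⟩ := exists_NS h hm
  obtain ⟨s, hs, hsc⟩ := exists_pprime_part p
    (⟨_, block_mem N S hS hdet hNS⟩ : ↥(symplecticGroup (Fin h.natDegree) F))
  exact ⟨s, hs, N, hch, by rw [hsc]; exact charpoly_block N S hdet⟩

end Cfsg.Agent.Lib.Helper38.SpSS
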