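import Mathlib
import Cfsg.Agent.S2385

set_option autoImplicit false

/-! Every monic palindromic polynomial of degree `2n` is the characteristic polynomial of a
semisimple element of `Sp_{2n}(q)`. -/

namespace Cfsg.Agent.Lib.Helper38.SpSS

open Matrix Polynomial

variable {F : Type*} [Field F]

theorem eq_of_upper_coeff_eq {n : ℕ} {f g : F[X]} (hfm : f.Monic) (hgm : g.Monic)
    (hfd : f.natDegree = 2 * n) (hgd : g.natDegree = 2 * n) (hfr : f.reverse = f)
    (hgr : g.reverse = g) (hco : ∀ i : ℕ, i < n → f.coeff (n + i) = g.coeff (n + i)) : f = g := by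
  have hupper : ∀ i : ℕ, n ≤ i → f.coeff i = g.coeff i := by
    intro i hi
    rcases lt_trichotomy i (2 * n) with h1 | h1 | h1
    · have := hco (i - n) (by omega)
      rwa [show n + (i - n) = i by omega] at this
    · have h2 := hfm.coeff_natDegree
      have h3 := hgm.coeff_natDegree
      rw [hfd] at h2
      rw [hgd] at h3
      rw [h1, h2, h3]
    · rw [coeff_eq_zero_of_natDegree_lt (by omega), coeff_eq_zero_of_natDegree_lt (by omega)]
  ext i
  by_cases hi : n ≤ i
  · exact hupper i hi
  · have h1 : f.coeff i = f.coeff (2 * n - i) := by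
      conv_lhs => rw [← hfr]
      rw [coeff_reverse, hfd, revAt_le (by omega)]
    have h2 : g.coeff i = g.coeff (2 * n - i) := by
      conv_lhs => rw [← hgr]
      rw [coeff_reverse, hgd, revAt_le (by omega)]
    rw [h1, h2]
    exact hupper _ (by omega)

theorem exists_ss_of_palindromic [Fintype F] (p : ℕ) [hp : Fact p.Prime] [CharP F p] (n : ℕ)
    (f : F[X]) (hm : f.Monic) (hd : f.natDegree = 2 * n) (hrev : f.reverse = f) :
    ∃ s : ↥(symplecticGroup (Fin n) F), (orderOf s).Coprime p ∧
      (s : Matrix (Fin n ⊕ Fin n) (Fin n ⊕ Fin n) F).charpoly = f := by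
  classical
  have hfin : Finite ↥(Matrix.symplecticGroup (Fin n) F) := inferInstance
  have hnd : ∀ g : ↥(symplecticGroup (Fin n) F),
      (g : Matrix (Fin n ⊕ Fin n) (Fin n ⊕ Fin n) F).charpoly.natDegree = 2 * n := by
    intro g
    rw [Matrix.charpoly_natDegree_eq_dim, Fintype.card_sum, Fintype.card_fin, two_mul]
  let Φ : {c : ConjClasses ↥(Matrix.symplecticGroup (Fin n) F) //
        ∃ g : ↥(Matrix.symplecticGroup (Fin n) F), ConjClasses.mk g = c ∧ (orderOf g).Coprime p} →
        (Fin n → F) := fun c => fun i : Fin n =>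
          ((c.2.choose : ↥(Matrix.symplecticGroup (Fin n) F)) :
            Matrix (Fin n ⊕ Fin n) (Fin n ⊕ Fin n) F).charpoly.coeff (n + i)
  have hinj : Function.Injective Φ := by
    intro c d hcd
    obtain ⟨hc1, hc2⟩ := c.2.choose_spec
    obtain ⟨hd1, hd2⟩ := d.2.choose_spec
    have hch := eq_of_upper_coeff_eq (Matrix.charpoly_monic _) (Matrix.charpoly_monic _)
      (hnd c.2.choose) (hnd d.2.choose) (charpoly_reverse_of_mem c.2.choose.2)
      (charpoly_reverse_of_mem d.2.choose.2) (fun i hi => congrFun hcd ⟨i, hi⟩)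
    apply Subtype.ext
    rw [← hc1, ← hd1]
    exact ConjClasses.mk_eq_mk_iff_isConj.2 (Cfsg.Agent.S2389.result p n _ _ hc2 hd2 hch)
  have hbij : Function.Bijective Φ := by
    apply hinj.bijective_of_nat_card_le
    rw [Cfsg.Agent.S2385.result rfl p n, Nat.card_eq_fintype_card, Fintype.card_fun,
      Fintype.card_fin]
  obtain ⟨c, hc⟩ := hbij.2 (fun i : Fin n => f.coeff (n + i))
  refine ⟨c.2.choose, c.2.choose_spec.2, ?_⟩
  exact eq_of_upper_coeff_eq (Matrix.charpoly_monic _) hm (hnd _) hd
    (charpoly_reverse_of_mem c.2.choose.2) hrev (fun i hi => congrFun hc ⟨i, hi⟩)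

end Cfsg.Agent.Lib.Helper38.SpSS
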