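import Mathlib
import Cfsg.Agent.Lib.Helper38.OrderRTypes2
import Cfsg.Agent.Lib.Helper38.SpPalin
import Cfsg.Agent.Lib.Helper38.InvolMultiset

set_option autoImplicit false

/-! Elements of odd prime order `r` of `Sp_{2m}(q)`. -/

namespace Cfsg.Agent.Lib.Helper38.CycF

open Polynomial Matrix Cfsg.Agent.Lib.Helper45 Cfsg.Agent.Lib.Helper38.SpSS

variable {F : Type*} [Field F] [Fintype F]

theorem card_sum_fin (m : ℕ) : Fintype.card (Fin m ⊕ Fin m) = 2 * m := by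
  rw [Fintype.card_sum, Fintype.card_fin, two_mul]

omit [Fintype F] in
theorem sp_coe_pow_orderOf {m : ℕ} (g : ↥(symplecticGroup (Fin m) F)) :
    (g : Matrix (Fin m ⊕ Fin m) (Fin m ⊕ Fin m) F) ^ orderOf g = 1 := by
  have := congrArg Subtype.val (pow_orderOf_eq_one g)
  exact this

theorem sp_typ_eq_tau (p : ℕ) [hp : Fact p.Prime] [CharP F p] {r : ℕ} (hr : r.Prime)
    (hrp : r ≠ p) (m i : ℕ) (hi : i = orderOf ((Fintype.card F : ℕ) : ZMod r))
    (g : ↥(symplecticGroup (Fin m) F)) (hg : orderOf g = r) :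
    ∃ μ : Multiset ↥(facs F r), μ ≠ 0 ∧ i * Multiset.card μ ≤ 2 * m ∧
      typ (g : Matrix (Fin m ⊕ Fin m) (Fin m ⊕ Fin m) F) = tau (2 * m) i r μ ∧
      μ.map (starI p hr hrp) = μ := by
  have h1 := sp_coe_pow_orderOf g
  rw [hg] at h1
  have h2 : (g : Matrix (Fin m ⊕ Fin m) (Fin m ⊕ Fin m) F) ≠ 1 := by
    intro h
    have h3 : g = 1 := Subtype.ext h
    rw [h3, orderOf_one] at hg
    exact hr.one_lt.ne hg
  obtain ⟨μ, hμ0, hμ, hT⟩ := typ_eq_tau' p hr hrp (2 * m) i (card_sum_fin m) hi _ h1 h2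
  refine ⟨μ, hμ0, hμ, hT, ?_⟩
  have h3 := (hasType_typ (g : Matrix (Fin m ⊕ Fin m) (Fin m ⊕ Fin m) F)).charpoly_of_mem_ssTypes
    (by rw [hT]; exact tau_mem_ssTypes p hr hrp (2 * m) i hi μ hμ)
  rw [hT, prod_tau] at h3
  have h4 := charpoly_reverse_of_mem g.2
  rw [h3] at h4
  exact map_starI_eq_of_reverse_eq p hr hrp μ _ h4

theorem sp_exists_of_tau (p : ℕ) [hp : Fact p.Prime] [CharP F p] {r : ℕ} (hr : r.Prime)
    (hrp : r ≠ p) (m i : ℕ) (hi : i = orderOf ((Fintype.card F : ℕ) : ZMod r))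
    (μ : Multiset ↥(facs F r)) (hμ0 : μ ≠ 0) (hμ : i * Multiset.card μ ≤ 2 * m)
    (heven : Even (i * Multiset.card μ)) (hstar : μ.map (starI p hr hrp) = μ) :
    ∃ g : ↥(symplecticGroup (Fin m) F), orderOf g = r ∧
      typ (g : Matrix (Fin m ⊕ Fin m) (Fin m ⊕ Fin m) F) = tau (2 * m) i r μ := by
  have hT := tau_mem_ssTypes p hr hrp (2 * m) i hi μ hμ
  obtain ⟨h1, h2, -⟩ := ssTypes_prod_mem hT
  have hk : Even (2 * m - i * Multiset.card μ) := (Nat.even_sub hμ).2 ⟨fun _ => heven, fun _ => even_two_mul m⟩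
  have h3 := reverse_eq_of_map_starI_eq p hr hrp μ _ hk hstar
  rw [← prod_tau] at h3
  obtain ⟨s, hs, hsc⟩ := exists_ss_of_palindromic p m _ h1 h2 h3
  have h4 := typ_mem_ssTypes_of_coprime p hs (sp_coe_pow_orderOf s)
  rw [card_sum_fin] at h4
  have h5 := (hasType_typ (s : Matrix (Fin m ⊕ Fin m) (Fin m ⊕ Fin m) F)).charpoly_of_mem_ssTypes h4
  rw [hsc] at h5
  have h6 := eq_of_prod_eq hT h4 h5
  refine ⟨s, ?_, h6.symm⟩
  have hA := hasType_typ (s : Matrix (Fin m ⊕ Fin m) (Fin m ⊕ Fin m) F)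
  rw [← h6] at hA
  have : Fact r.Prime := ⟨hr⟩
  apply orderOf_eq_prime
  · apply Subtype.ext
    exact pow_eq_one_of_hasType_tau hr _ _ _ hA
  · intro h
    exact ne_one_of_hasType_tau p hr hrp _ _ _ hμ0 hA (congrArg Subtype.val h)

theorem sp_card_classes (p : ℕ) [hp : Fact p.Prime] [CharP F p] {r : ℕ} (hr : r.Prime)
    (hrp : r ≠ p) (m : ℕ) {M : Type*} (τ : M → Multiset (F[X] × ℕ)) (hτ : Function.Injective τ)
    (h1 : ∀ g : ↥(symplecticGroup (Fin m) F), orderOf g = r →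
      ∃ x, typ (g : Matrix (Fin m ⊕ Fin m) (Fin m ⊕ Fin m) F) = τ x)
    (h2 : ∀ x, ∃ g : ↥(symplecticGroup (Fin m) F), orderOf g = r ∧
      typ (g : Matrix (Fin m ⊕ Fin m) (Fin m ⊕ Fin m) F) = τ x) :
    Nat.card {C : ConjClasses ↥(symplecticGroup (Fin m) F) //
      ∃ g : ↥(symplecticGroup (Fin m) F), ConjClasses.mk g = C ∧ orderOf g = r} = Nat.card M := by
  have hcop : r.Coprime p := (Nat.coprime_primes hr hp.out).2 hrp
  have hss : ∀ g : ↥(symplecticGroup (Fin m) F), orderOf g = r →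
      typ (g : Matrix (Fin m ⊕ Fin m) (Fin m ⊕ Fin m) F) ∈ ssTypes F (2 * m) := by
    intro g hg
    have h4 := typ_mem_ssTypes_of_coprime p (by rw [hg]; exact hcop) (sp_coe_pow_orderOf g)
    rwa [card_sum_fin] at h4
  symm
  apply Nat.card_congr
  refine Equiv.ofBijective (fun x => ⟨ConjClasses.mk (h2 x).choose, (h2 x).choose, rfl,
    (h2 x).choose_spec.1⟩) ⟨?_, ?_⟩
  · intro x y hxy
    have h3 : ConjClasses.mk (h2 x).choose = ConjClasses.mk (h2 y).choose :=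
      congrArg Subtype.val hxy
    have h4 := charpoly_eq_of_isConj (ConjClasses.mk_eq_mk_iff_isConj.1 h3)
    obtain ⟨hx1, hx2⟩ := (h2 x).choose_spec
    obtain ⟨hy1, hy2⟩ := (h2 y).choose_spec
    rw [(hasType_typ _).charpoly_of_mem_ssTypes (hss _ hx1),
      (hasType_typ _).charpoly_of_mem_ssTypes (hss _ hy1)] at h4
    have h5 := eq_of_prod_eq (hss _ hx1) (hss _ hy1) h4
    rw [hx2, hy2] at h5
    exact hτ h5
  · rintro ⟨C, g, rfl, hg⟩
    obtain ⟨x, hx⟩ := h1 g hg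
    refine ⟨x, Subtype.ext ?_⟩
    obtain ⟨hx1, hx2⟩ := (h2 x).choose_spec
    apply ConjClasses.mk_eq_mk_iff_isConj.2
    apply Cfsg.Agent.S2389.result p m _ _ (by rw [hx1]; exact hcop) (by rw [hg]; exact hcop)
    rw [(hasType_typ _).charpoly, (hasType_typ _).charpoly, hx2, hx]

end Cfsg.Agent.Lib.Helper38.CycF
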