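import Mathlib
import Cfsg.Agent.Lib.Helper31.CharP

/-!
The centralizer of a transvection in `SL_n(2)` has characteristic `2`.
-/

set_option autoImplicit false

namespace Cfsg.Agent.Lib.Helper38.TransvCent

open Matrix Subgroup

section comm
variable {n : ℕ} {F : Type*} [Field F]

theorem comm_single {g : Matrix (Fin n) (Fin n) F} {a b : Fin n}
    (h : g * transvection a b 1 = transvection a b 1 * g) :
    g * single a b 1 = single a b 1 * g := by
  unfold transvection at h
  rw [mul_add, add_mul, mul_one, one_mul] at h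
  exact add_left_cancel h

theorem comm_col {g : Matrix (Fin n) (Fin n) F} {a b : Fin n}
    (h : g * transvection a b 1 = transvection a b 1 * g) {m : Fin n} (hm : m ≠ a) : g m a = 0 := by
  have h1 := congrFun (congrFun (comm_single h) m) b
  rw [mul_single_apply_same, single_mul_apply_of_ne _ _ _ _ _ hm, mul_one] at h1
  exact h1

theorem comm_row {g : Matrix (Fin n) (Fin n) F} {a b : Fin n}
    (h : g * transvection a b 1 = transvection a b 1 * g) {l : Fin n} (hl : l ≠ b) : g b l = 0 := by
  have h1 := congrFun (congrFun (comm_single h) a) l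
  rw [mul_single_apply_of_ne _ _ _ _ _ hl, single_mul_apply_same, one_mul] at h1
  exact h1.symm

theorem comm_diag {g : Matrix (Fin n) (Fin n) F} {a b : Fin n}
    (h : g * transvection a b 1 = transvection a b 1 * g) : g a a = g b b := by
  have h1 := congrFun (congrFun (comm_single h) a) b
  rw [mul_single_apply_same, single_mul_apply_same, one_mul, mul_one] at h1
  exact h1

theorem transvection_comm {a b c d : Fin n} (hbc : b ≠ c) (hda : d ≠ a) :
    (transvection a b 1 : Matrix (Fin n) (Fin n) F) * transvection c d 1 =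
      transvection c d 1 * transvection a b 1 := by
  unfold transvection
  rw [mul_add, add_mul, add_mul, mul_add, add_mul, add_mul, single_mul_single_of_ne _ _ _ _ hbc,
    single_mul_single_of_ne _ _ _ _ hda]
  simp only [mul_one, one_mul, add_zero]
  abel

end comm

section main
variable {n : ℕ} {F : Type*} [Field F] [Fintype F]

theorem eq_one_of_ne_zero (hF : Fintype.card F = 2) {x : F} (hx : x ≠ 0) : x = 1 := by
  have := FiniteField.pow_card_sub_one_eq_one x hx
  rwa [hF, show 2 - 1 = 1 from rfl, pow_one] at this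

theorem add_self (hF : Fintype.card F = 2) (x : F) : x + x = 0 := by
  have h2 : (1 : F) + 1 = 0 := by
    by_contra h
    have := eq_one_of_ne_zero hF h
    exact one_ne_zero (add_eq_left.1 this)
  calc x + x = x * (1 + 1) := by ring
    _ = 0 := by rw [h2, mul_zero]

variable (i j : Fin n) (t : SpecialLinearGroup (Fin n) F)

/-- the matrix of an element of the centralizer -/
def mat (x : centralizer ({t} : Set (SpecialLinearGroup (Fin n) F))) : Matrix (Fin n) (Fin n) F :=
  ((x : SpecialLinearGroup (Fin n) F) : Matrix (Fin n) (Fin n) F)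

theorem mat_mul (x y : centralizer ({t} : Set (SpecialLinearGroup (Fin n) F))) :
    mat t (x * y) = mat t x * mat t y := rfl

theorem mat_one : mat t 1 = 1 := rfl

theorem mat_injective : Function.Injective (mat t) := by
  intro x y h
  exact Subtype.ext (Subtype.ext h)

variable {i j t}

theorem mat_comm (ht : (t : Matrix (Fin n) (Fin n) F) = transvection i j 1)
    (x : centralizer ({t} : Set (SpecialLinearGroup (Fin n) F))) :
    mat t x * transvection i j 1 = transvection i j 1 * mat t x := by
  have h1 := mem_centralizer_singleton_iff.1 x.2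
  have h2 : ((x : SpecialLinearGroup (Fin n) F) : Matrix (Fin n) (Fin n) F) *
      (t : Matrix (Fin n) (Fin n) F) = (t : Matrix (Fin n) (Fin n) F) *
      ((x : SpecialLinearGroup (Fin n) F) : Matrix (Fin n) (Fin n) F) :=
    congrArg (fun s : SpecialLinearGroup (Fin n) F => (s : Matrix (Fin n) (Fin n) F)) h1
  rw [ht] at h2
  exact h2

theorem mat_ii (hF : Fintype.card F = 2) (ht : (t : Matrix (Fin n) (Fin n) F) = transvection i j 1)
    (x : centralizer ({t} : Set (SpecialLinearGroup (Fin n) F))) : mat t x i i = 1 := by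
  apply eq_one_of_ne_zero hF
  intro h0
  have hdet : (mat t x).det = 1 := (x : SpecialLinearGroup (Fin n) F).2
  rw [det_eq_zero_of_column_eq_zero i (fun m => by
    by_cases hm : m = i
    · rw [hm]; exact h0
    · exact comm_col (mat_comm ht x) hm)] at hdet
  exact zero_ne_one hdet

theorem mat_jj (hF : Fintype.card F = 2) (ht : (t : Matrix (Fin n) (Fin n) F) = transvection i j 1)
    (x : centralizer ({t} : Set (SpecialLinearGroup (Fin n) F))) : mat t x j j = 1 := by
  rw [← comm_diag (mat_comm ht x)]; exact mat_ii hF ht x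

/-- the action on the middle section -/
def phi (ht : (t : Matrix (Fin n) (Fin n) F) = transvection i j 1) :
    centralizer ({t} : Set (SpecialLinearGroup (Fin n) F)) →*
      Matrix {k : Fin n // k ≠ i ∧ k ≠ j} {k : Fin n // k ≠ i ∧ k ≠ j} F where
  toFun x := (mat t x).submatrix Subtype.val Subtype.val
  map_one' := by
    rw [mat_one]
    exact submatrix_one _ Subtype.val_injective
  map_mul' x y := by
    ext k l
    rw [mat_mul, submatrix_apply, mul_apply, mul_apply,
      ← Fintype.sum_subtype_add_sum_subtype (fun m : Fin n => m ≠ i ∧ m ≠ j)]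
    have h0 : ∑ m : {m : Fin n // ¬ (m ≠ i ∧ m ≠ j)},
        mat t x k.1 m.1 * mat t y m.1 l.1 = 0 := by
      refine Finset.sum_eq_zero (fun m _ => ?_)
      by_cases hm : m.1 = i
      · rw [hm, comm_col (mat_comm ht x) k.2.1, zero_mul]
      · have hmj : m.1 = j := by
          by_contra hne
          exact m.2 ⟨hm, hne⟩
        rw [hmj, comm_row (mat_comm ht y) l.2.2, mul_zero]
    rw [h0, add_zero]
    rfl

theorem mem_ker_phi (ht : (t : Matrix (Fin n) (Fin n) F) = transvection i j 1)
    (x : centralizer ({t} : Set (SpecialLinearGroup (Fin n) F))) :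
    x ∈ (phi ht).ker ↔ ∀ k l : Fin n, k ≠ i → k ≠ j → l ≠ i → l ≠ j →
      mat t x k l = (1 : Matrix (Fin n) (Fin n) F) k l := by
  rw [MonoidHom.mem_ker]
  constructor
  · intro h k l hki hkj hli hlj
    have h1 := congrFun (congrFun h ⟨k, hki, hkj⟩) ⟨l, hli, hlj⟩
    have h2 : mat t x k l = (1 : Matrix {k : Fin n // k ≠ i ∧ k ≠ j}
        {k : Fin n // k ≠ i ∧ k ≠ j} F) ⟨k, hki, hkj⟩ ⟨l, hli, hlj⟩ := h1
    rw [h2, one_apply, one_apply]
    simp [Subtype.ext_iff]
  · intro h
    ext k l
    have h2 : phi ht x k l = mat t x k.1 l.1 := rfl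
    rw [h2, h k.1 l.1 k.2.1 k.2.2 l.2.1 l.2.2, one_apply, one_apply]
    simp [Subtype.ext_iff]

theorem isPGroup_ker (hF : Fintype.card F = 2)
    (ht : (t : Matrix (Fin n) (Fin n) F) = transvection i j 1) : IsPGroup 2 (phi ht).ker := by
  rintro ⟨x, hx⟩
  refine ⟨2, ?_⟩
  apply Subtype.ext
  apply mat_injective t
  show mat t (x ^ 2 ^ 2) = 1
  rw [mem_ker_phi] at hx
  set N : Matrix (Fin n) (Fin n) F := mat t x - 1 with hN
  have ha : ∀ m, N m i = 0 := by
    intro m
    rw [hN, Matrix.sub_apply]
    by_cases hm : m = i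
    · rw [hm, mat_ii hF ht x, one_apply_eq, sub_self]
    · rw [comm_col (mat_comm ht x) hm, one_apply_ne hm, sub_self]
  have hb : ∀ l, N j l = 0 := by
    intro l
    rw [hN, Matrix.sub_apply]
    by_cases hl : l = j
    · rw [hl, mat_jj hF ht x, one_apply_eq, sub_self]
    · rw [comm_row (mat_comm ht x) hl, one_apply_ne (Ne.symm hl), sub_self]
  have hc : ∀ k l, k ≠ i → l ≠ j → N k l = 0 := by
    intro k l hk hl
    by_cases hkj : k = j
    · rw [hkj]; exact hb l
    by_cases hli : l = i
    · rw [hli]; exact ha k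
    rw [hN, Matrix.sub_apply, hx k l hk hkj hli hl, sub_self]
  have h2 : ∀ k l, l ≠ j → (N * N) k l = 0 := by
    intro k l hl
    rw [mul_apply]
    refine Finset.sum_eq_zero (fun m _ => ?_)
    by_cases hm : m = i
    · rw [hm, ha k, zero_mul]
    · rw [hc m l hm hl, mul_zero]
  have h3 : N * N * N = 0 := by
    ext k l
    rw [mul_apply]
    refine Finset.sum_eq_zero (fun m _ => ?_)
    by_cases hm : m = j
    · rw [hm, hb l, mul_zero]
    · rw [h2 k m hm, zero_mul]
  have hdouble : ∀ M : Matrix (Fin n) (Fin n) F, M + M = 0 := by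
    intro M
    ext k l
    exact add_self hF _
  have e : mat t x = 1 + N := by rw [hN]; abel
  have hsq : ∀ M : Matrix (Fin n) (Fin n) F, (1 + M) * (1 + M) = 1 + M * M := by
    intro M
    calc (1 + M) * (1 + M) = 1 + (M + M) + M * M := by
          rw [add_mul, mul_add, mul_add, one_mul, mul_one, one_mul]; abel
      _ = 1 + M * M := by rw [hdouble, add_zero]
  have e4 : x ^ 2 ^ 2 = (x * x) * (x * x) := by
    show x ^ 4 = _
    rw [show 4 = 2 + 2 from rfl, pow_add, pow_two]
  rw [e4, mat_mul, mat_mul, e, hsq, hsq, ← mul_assoc, h3, zero_mul, add_zero]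

/-- transvections in the special linear group -/
def tvS (a b : Fin n) (hab : a ≠ b) : SpecialLinearGroup (Fin n) F :=
  ⟨transvection a b 1, det_transvection_of_ne a b hab 1⟩

/-- the transvections `1 + E_{ik}` as elements of the centralizer -/
def uel (ht : (t : Matrix (Fin n) (Fin n) F) = transvection i j 1) (hij : i ≠ j) (k : Fin n)
    (hk : k ≠ i) : centralizer ({t} : Set (SpecialLinearGroup (Fin n) F)) :=
  ⟨tvS i k hk.symm, by
    apply mem_centralizer_singleton_iff.2
    apply Subtype.ext
    show (transvection i k 1 : Matrix (Fin n) (Fin n) F) * (t : Matrix (Fin n) (Fin n) F) =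
      (t : Matrix (Fin n) (Fin n) F) * transvection i k 1
    rw [ht]
    exact transvection_comm hk hij.symm⟩

theorem uel_mem (ht : (t : Matrix (Fin n) (Fin n) F) = transvection i j 1) (hij : i ≠ j) (k : Fin n)
    (hk : k ≠ i) : uel ht hij k hk ∈ (phi ht).ker := by
  rw [mem_ker_phi]
  intro a b ha _ _ _
  show (transvection i k 1 : Matrix (Fin n) (Fin n) F) a b = _
  unfold transvection
  rw [Matrix.add_apply, Matrix.single_apply, if_neg (by
    rintro ⟨h, -⟩
    exact ha h.symm), add_zero]

theorem centralizer_pCore_le (hF : Fintype.card F = 2)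
    (ht : (t : Matrix (Fin n) (Fin n) F) = transvection i j 1) (hij : i ≠ j) :
    centralizer (Cfsg.pCore 2 ↥(centralizer ({t} : Set (SpecialLinearGroup (Fin n) F))) : Set _) ≤
      Cfsg.pCore 2 ↥(centralizer ({t} : Set (SpecialLinearGroup (Fin n) F))) := by
  have hQ : (phi ht).ker ≤ Cfsg.pCore 2 ↥(centralizer ({t} : Set (SpecialLinearGroup (Fin n) F))) :=
    le_sSup ⟨MonoidHom.normal_ker _, isPGroup_ker hF ht⟩
  intro g hg
  apply hQ
  rw [mem_ker_phi]
  intro k l hki _ _ _
  have h1 := mem_centralizer_iff.1 hg _ (hQ (uel_mem ht hij k hki))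
  have h2 : transvection i k 1 * mat t g = mat t g * transvection i k 1 :=
    congrArg (mat t) h1
  by_cases hkl : k = l
  · rw [← hkl, one_apply_eq, ← comm_diag h2.symm]
    exact mat_ii hF ht g
  · rw [one_apply_ne hkl]
    exact comm_row h2.symm (Ne.symm hkl)

end main

end Cfsg.Agent.Lib.Helper38.TransvCent
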