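import Mathlib
import Cfsg.Agent.Lib.Helper38.ImprimA
import Cfsg.Agent.Lib.Helper29.NormalRankTwo

/-!
A `p`-group (`p` odd) generated by `C` and by `D`, acting irreducibly on a `p'`-module `V` with
`V = C_V(c) + C_V(d)` for all `c ∈ C`, `d ∈ D`, acts trivially.
-/

set_option autoImplicit false

namespace Cfsg.Agent.Lib.Helper38

open Finset Subgroup

section
variable {P V : Type*} [Group P] [AddCommGroup V] [DistribMulAction P V]

theorem pn_conj (m : ℕ) (g x : P) (v : V) : pn m (g * x * g⁻¹) (g • v) = g • pn m x v := by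
  unfold pn
  rw [Finset.smul_sum]
  refine Finset.sum_congr rfl (fun i _ => ?_)
  rw [conj_pow, smul_smul, smul_smul, inv_mul_cancel_right]

end

section
variable {P V : Type*} [Group P] [AddCommGroup V] [DistribMulAction P V]
  {p r : ℕ} [hp : Fact p.Prime] [hr : Fact r.Prime]

theorem StepData.card_fixIn_le [Finite V] {z x y d : P}
    (D : StepData p (⊤ : Subgroup P) z x y d (⊤ : AddSubgroup V)) (hpr : p ≠ r)
    (hV : ∀ v : V, r • v = 0) :
    Nat.card (fixIn (⊤ : AddSubgroup V) y) ≤ Nat.card (fixIn (⊤ : AddSubgroup V) x) := by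
  let f : fixIn (⊤ : AddSubgroup V) y → fixIn (⊤ : AddSubgroup V) x := fun v =>
    ⟨pn p x (v : V), AddSubgroup.mem_top _, smul_pn p x D.hx _⟩
  have hdf : ∀ v : V, d • v = v → v = 0 := fun v hv =>
    fpf_of_mem D.hz ⊤ D.hfpf D.hd D.hd1 v (AddSubgroup.mem_top _) hv
  have hinj : Function.Injective f := by
    intro a b hab
    have hab' : pn p x (a : V) = pn p x (b : V) := congrArg Subtype.val hab
    set u : V := (a : V) - (b : V) with hu
    have hyu : y • u = u := by rw [hu, smul_sub, a.2.2, b.2.2]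
    have hyj : ∀ j : ℕ, (y ^ j) • u = u := by
      intro j
      induction j with
      | zero => simp
      | succ j ih => rw [pow_succ, mul_smul, hyu, ih]
    have h0 : pn p x u = 0 := by rw [hu, pn_sub, hab', sub_self]
    have h1 := sum_pn_eq (p := p) D.orderOf_d (D.d_central x) hdf u
    have h2 : ∑ j ∈ range p, pn p (x * d ^ j) u = 0 := by
      refine Finset.sum_eq_zero (fun j _ => ?_)
      have h3 := pn_conj p (y ^ j) x u
      rw [D.conj_pow j, hyj j, h0, smul_zero] at h3
      exact h3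
    rw [h2] at h1
    have h4 := eq_zero_of_coprime_nsmul ((Nat.coprime_primes hp.out hr.out).2 hpr) (hV u) h1.symm
    exact Subtype.ext (sub_eq_zero.1 h4)
  exact Nat.card_le_card_of_injective f hinj

end

section
variable {P V : Type*} [Group P] [Finite P] [AddCommGroup V] [Finite V] [DistribMulAction P V]
  {p r : ℕ} [hp : Fact p.Prime] [hr : Fact r.Prime]

omit [Finite P] in
theorem exists_mem_not_commute {C : Set P} (hC : closure C = ⊤) {x : P}
    (hx : ∃ y : P, y * x ≠ x * y) : ∃ c ∈ C, c * x ≠ x * c := by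
  by_contra hcon
  push Not at hcon
  obtain ⟨y, hy⟩ := hx
  apply hy
  have h1 : closure C ≤ centralizer {x} := by
    rw [closure_le]
    intro c hc
    exact mem_centralizer_singleton_iff.2 (hcon c hc)
  exact mem_centralizer_singleton_iff.1 (h1 (hC ▸ mem_top y))

theorem two_gen_faithful (hp3 : 3 ≤ p) (hpr : p ≠ r) (hP : IsPGroup p P)
    (hV : ∀ v : V, r • v = 0)
    (hfaith : ∀ g : P, (∀ v : V, g • v = v) → g = 1)
    (hirr : ∀ W : AddSubgroup V, (∀ g : P, ∀ w ∈ W, g • w ∈ W) → W = ⊥ ∨ W = ⊤)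
    (C D : Set P) (hC : closure C = ⊤) (hD : closure D = ⊤)
    (h : ∀ c ∈ C, ∀ d ∈ D, ∀ v : V, ∃ a b : V, v = a + b ∧ c • a = a ∧ d • b = b) :
    ∀ g : P, g = 1 := by
  by_contra hcon
  push Not at hcon
  obtain ⟨g0, hg0⟩ := hcon
  have hVnt : Nontrivial V := by
    by_contra hnt
    rw [not_nontrivial_iff_subsingleton] at hnt
    exact hg0 (hfaith g0 (fun v => Subsingleton.elim _ _))
  have hcen : ∀ t ∈ center P, t ≠ 1 → ∀ v : V, t • v = v → v = 0 := by
    intro t ht ht1 v hv
    rcases hirr (fixIn ⊤ t) (by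
      intro g w hw
      refine ⟨AddSubgroup.mem_top _, ?_⟩
      have h1 : t * g = g * t := (mem_center_iff.1 ht g).symm
      rw [smul_smul, h1, mul_smul, hw.2]) with h1 | h1
    · have h2 : v ∈ fixIn ⊤ t := ⟨AddSubgroup.mem_top _, hv⟩
      rw [h1] at h2
      exact (AddSubgroup.mem_bot).1 h2
    · exfalso
      apply ht1
      apply hfaith
      intro w
      have h2 : w ∈ fixIn ⊤ t := by rw [h1]; exact AddSubgroup.mem_top w
      exact h2.2
  have hne1 : ∀ S : Set P, closure S = ⊤ → ∃ c ∈ S, c ≠ 1 := by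
    intro S hS
    by_contra hc
    push Not at hc
    have h1 : closure S ≤ ⊥ := by
      rw [closure_le]
      intro c hcS
      exact mem_bot.2 (hc c hcS)
    rw [hS] at h1
    exact hg0 (mem_bot.1 (h1 (mem_top g0)))
  by_cases hcomm : ∀ a b : P, a * b = b * a
  · obtain ⟨c, hcC, hc1⟩ := hne1 C hC
    obtain ⟨d, hdD, hd1⟩ := hne1 D hD
    obtain ⟨v, hv⟩ := exists_ne (0 : V)
    obtain ⟨a, b, hab, ha, hb⟩ := h c hcC d hdD v
    apply hv
    rw [hab, hcen c (mem_center_iff.2 (fun g => hcomm g c)) hc1 a ha,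
      hcen d (mem_center_iff.2 (fun g => hcomm g d)) hd1 b hb, add_zero]
  · have hnc : ¬ IsCyclic (⊤ : Subgroup P) := by
      intro hcyc
      apply hcomm
      intro a b
      have h1 := hcyc.isMulCommutative.is_comm.comm (⟨a, mem_top a⟩ : (⊤ : Subgroup P))
        ⟨b, mem_top b⟩
      exact congrArg Subtype.val h1
    obtain ⟨A, -, hAn, -, hAexp, hAcard⟩ :=
      Cfsg.Agent.Lib.Helper29.exists_normal_elemAb_sq_of_not_isCyclic (by omega) hP ⊤ hnc
    obtain ⟨z, x, hzc, hzo, hzA, hxA, hxz, hxp, hx⟩ := exists_step_elements hP A hAexp hAcard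
    have hz1 : z ≠ 1 := by
      rintro rfl
      rw [orderOf_one] at hzo
      exact hp.out.one_lt.ne hzo
    have hcop : p.Coprime r := (Nat.coprime_primes hp.out hr.out).2 hpr
    have hpz : ∀ v : V, p • v = 0 → v = 0 := fun v hv => eq_zero_of_coprime_nsmul hcop (hV v) hv
    have hzcard : Nat.card (zpowers z) = p := by rw [Nat.card_zpowers, hzo]
    have hzle : zpowers z ≤ center P := zpowers_le.2 hzc
    have hxnc : ∃ y : P, y * x ≠ x * y := by
      by_contra hcon
      push Not at hcon
      obtain ⟨v, hv⟩ := exists_ne (0 : V)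
      apply hv
      apply hpz
      rw [← sum_pn_eq (p := p) hzo (mem_center_iff.1 hzc x) (fun v hv => hcen z hzc hz1 v hv) v]
      refine Finset.sum_eq_zero (fun j _ => ?_)
      have hc1 : x * z ^ j ∈ center P :=
        mul_mem (mem_center_iff.2 hcon) (pow_mem hzc j)
      have h5 : (x * z ^ j) • pn p (x * z ^ j) v = pn p (x * z ^ j) v := by
        apply smul_pn
        have hc : Commute x (z ^ j) := mem_center_iff.1 (pow_mem hzc j) x
        rw [hc.mul_pow, hxp, one_mul, ← pow_mul, mul_comm, pow_mul, ← hzo, pow_orderOf_eq_one,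
          one_pow]
      refine hcen _ hc1 ?_ _ h5
      intro h
      apply hxz
      rw [mul_eq_one_iff_eq_inv] at h
      rw [h]
      exact inv_mem (pow_mem (mem_zpowers z) j)
    -- step data for a noncommuting element
    have hstep : ∀ y : P, y * x ≠ x * y →
        StepData p (⊤ : Subgroup P) z x y (y * x * y⁻¹ * x⁻¹) (⊤ : AddSubgroup V) := by
      intro y hyx
      exact
      { hz := hzo
        hzc := fun g => mem_center_iff.1 hzc g
        hx := hxp
        hd := hx y
        hd1 := by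
          intro e
          apply hyx
          have e1 : y * x * y⁻¹ = x := mul_inv_eq_one.1 e
          exact mul_inv_eq_iff_eq_mul.1 e1
        hconj := by
          have h1 := mem_center_iff.1 (hzle (hx y)) x
          rw [h1]; group
        hxH := mem_top _
        hyH := mem_top _
        hzH := mem_top _
        hW := fun _ _ _ _ => AddSubgroup.mem_top _
        hfpf := fun v _ hv => hcen z hzc hz1 v hv }
    obtain ⟨c, hcC, hcx⟩ := exists_mem_not_commute hC hxnc
    obtain ⟨d, hdD, hdx⟩ := exists_mem_not_commute hD hxnc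
    have D1 := hstep c hcx
    have D2 := hstep d hdx
    have k1 := D1.card_fixIn_le hpr hV
    have k2 := D2.card_fixIn_le hpr hV
    have k3 := D1.card_fixIn_pow_le hpr hV
    have k4 := D1.fixIn_ne_bot hpr hV (by
      intro hbt
      obtain ⟨v, hv⟩ := exists_ne (0 : V)
      have : v ∈ (⊤ : AddSubgroup V) := AddSubgroup.mem_top v
      rw [hbt] at this
      exact hv (AddSubgroup.mem_bot.1 this))
    set w := Nat.card (fixIn (⊤ : AddSubgroup V) x) with hw
    have hw2 : 2 ≤ w := by
      have : Nontrivial (fixIn (⊤ : AddSubgroup V) x) :=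
        (AddSubgroup.nontrivial_iff_ne_bot _).2 k4
      exact Finite.one_lt_card_iff_nontrivial.2 this
    have k5 : Nat.card (⊤ : AddSubgroup V) ≤
        Nat.card (fixIn (⊤ : AddSubgroup V) c) * Nat.card (fixIn (⊤ : AddSubgroup V) d) := by
      rw [← Nat.card_prod]
      let f : fixIn (⊤ : AddSubgroup V) c × fixIn (⊤ : AddSubgroup V) d → (⊤ : AddSubgroup V) :=
        fun ab => ⟨(ab.1 : V) + (ab.2 : V), AddSubgroup.mem_top _⟩
      refine Nat.card_le_card_of_surjective f ?_
      rintro ⟨v, -⟩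
      obtain ⟨a, b, hab, ha, hb⟩ := h c hcC d hdD v
      exact ⟨(⟨a, AddSubgroup.mem_top _, ha⟩, ⟨b, AddSubgroup.mem_top _, hb⟩),
        Subtype.ext hab.symm⟩
    have k6 : w ^ 3 ≤ w ^ p := Nat.pow_le_pow_right (by omega) hp3
    have k7 : w ^ 3 ≤ w * w := by
      calc w ^ 3 ≤ w ^ p := k6
        _ ≤ _ := k3
        _ ≤ _ := k5
        _ ≤ w * w := Nat.mul_le_mul k1 k2
    have k8 : w * w * 2 ≤ w ^ 3 := by
      have : w ^ 3 = w * w * w := by ring
      rw [this]
      exact Nat.mul_le_mul_left _ hw2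
    have k9 : 0 < w * w := by positivity
    omega

theorem two_gen_trivial (hp3 : 3 ≤ p) (hpr : p ≠ r) (hP : IsPGroup p P)
    (hV : ∀ v : V, r • v = 0)
    (hirr : ∀ W : AddSubgroup V, (∀ g : P, ∀ w ∈ W, g • w ∈ W) → W = ⊥ ∨ W = ⊤)
    (C D : Set P) (hC : closure C = ⊤) (hD : closure D = ⊤)
    (h : ∀ c ∈ C, ∀ d ∈ D, ∀ v : V, ∃ a b : V, v = a + b ∧ c • a = a ∧ d • b = b) :
    ∀ (g : P) (v : V), g • v = v := by
  let ρ : P →* Equiv.Perm V := MulAction.toPermHom P V
  let f : P →* ρ.range := ρ.rangeRestrict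
  have hf : Function.Surjective f := ρ.rangeRestrict_surjective
  let _ : DistribMulAction ρ.range V :=
    { (inferInstance : MulAction ρ.range V) with
      smul_zero := by
        intro q
        obtain ⟨g, rfl⟩ := hf q
        exact smul_zero g
      smul_add := by
        intro q a b
        obtain ⟨g, rfl⟩ := hf q
        exact smul_add g a b }
  have hsm : ∀ (g : P) (v : V), (f g) • v = g • v := fun _ _ => rfl
  have hcl : ∀ S : Set P, closure S = ⊤ → closure (f '' S) = ⊤ := by
    intro S hS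
    rw [← MonoidHom.map_closure, hS, ← MonoidHom.range_eq_map, MonoidHom.range_eq_top]
    exact hf
  have key := two_gen_faithful (P := ρ.range) (V := V) (p := p) (r := r) hp3 hpr
    (hP.of_surjective f hf) hV
    (by
      intro q hq
      obtain ⟨g, rfl⟩ := hf q
      apply Subtype.ext
      apply Equiv.ext
      intro v
      exact hq v)
    (by
      intro W hW
      exact hirr W (fun g w hw => hW (f g) w hw))
    (f '' C) (f '' D) (hcl C hC) (hcl D hD)
    (by
      rintro _ ⟨c, hc, rfl⟩ _ ⟨d, hd, rfl⟩ v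
      exact h c hc d hd v)
  intro g v
  rw [← hsm, key (f g), one_smul]

end

end Cfsg.Agent.Lib.Helper38
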