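import Mathlib
import Cfsg.Agent.Lib.Helper29.NormalRankTwo

/-!
The hypothesis of the "two generating sets" theorem, its basic consequences and its inheritance
by subgroups and quotients.
-/

set_option autoImplicit false

namespace Cfsg.Agent.Lib.Helper38

open Subgroup

/-- the hypothesis -/
structure TGHyp (p : ℕ) {G : Type*} [Group G] (P N : Subgroup G) (C D : Set G) : Prop where
  normal : N.Normal
  pgroup : IsPGroup p P
  cop : (Nat.card N).Coprime p
  sup : N ⊔ P = ⊤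
  hC : closure C = P
  hD : closure D = P
  h : ∀ x ∈ N, ∀ c ∈ C, ∀ d ∈ D, ∀ g ∈ closure ({x * c * x⁻¹, d} : Set G),
    ∃ k : ℕ, g ^ p ^ k = 1

theorem map_closure_preimage_val {G : Type*} [Group G] (L : Subgroup G) (C : Set G)
    (hCL : C ⊆ L) : (closure (Subtype.val ⁻¹' C : Set L)).map L.subtype = closure C := by
  rw [MonoidHom.map_closure]
  congr 1
  have h1 : (L.subtype : L → G) = Subtype.val := rfl
  rw [h1]
  exact (Subtype.image_preimage_coe (L : Set G) C).trans (Set.inter_eq_right.2 hCL)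

namespace TGHyp

variable {p : ℕ} {G : Type*} [Group G] {P N : Subgroup G} {C D : Set G}

theorem eq_one_of_mem [Finite G] (H : TGHyp p P N C D) {Q : Subgroup G} (hQ : IsPGroup p Q) {x : G}
    (hxN : x ∈ N) (hxQ : x ∈ Q) : x = 1 := by
  obtain ⟨k, hk⟩ := hQ ⟨x, hxQ⟩
  have hk' : x ^ p ^ k = 1 := congrArg Subtype.val hk
  have h1 : orderOf x ∣ p ^ k := orderOf_dvd_of_pow_eq_one hk'
  have h2 : orderOf x ∣ Nat.card N := Subgroup.orderOf_dvd_natCard N hxN
  have h3 : (orderOf x).Coprime (p ^ k) :=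
    Nat.Coprime.coprime_dvd_left h2 (Nat.Coprime.pow_right k H.cop)
  exact orderOf_eq_one_iff.1 (Nat.Coprime.eq_one_of_dvd h3 h1)

theorem exists_mul (H : TGHyp p P N C D) (g : G) : ∃ n ∈ N, ∃ u ∈ P, n * u = g := by
  have := H.normal
  have h1 : g ∈ N ⊔ P := H.sup ▸ mem_top g
  exact mem_sup_of_normal_left.1 h1

theorem C_le (H : TGHyp p P N C D) : C ⊆ P := by
  intro c hc
  exact H.hC ▸ subset_closure hc

theorem D_le (H : TGHyp p P N C D) : D ⊆ P := by
  intro c hc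
  exact H.hD ▸ subset_closure hc

/-- Sylow's theorem in the present situation -/
theorem exists_conj [Finite G] [Fact p.Prime] (H : TGHyp p P N C D) {T : Subgroup G}
    (hT : IsPGroup p T) : ∃ n ∈ N, ∀ t ∈ T, n⁻¹ * t * n ∈ P := by
  obtain ⟨Q, hQ⟩ := H.pgroup.exists_le_sylow
  have hQP : (Q : Subgroup G) = P := by
    apply le_antisymm _ hQ
    intro q hq
    obtain ⟨n, hn, u, hu, rfl⟩ := H.exists_mul q
    have h1 : n ∈ (Q : Subgroup G) := by
      have := mul_mem hq (inv_mem (hQ hu))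
      rwa [mul_inv_cancel_right] at this
    rw [H.eq_one_of_mem Q.2 hn h1, one_mul]
    exact hu
  obtain ⟨Q', hQ'⟩ := hT.exists_le_sylow
  obtain ⟨g, hg⟩ := MulAction.exists_smul_eq G Q Q'
  obtain ⟨n, hn, u, hu, rfl⟩ := H.exists_mul g
  refine ⟨n, hn, fun t ht => ?_⟩
  have h1 : t ∈ (((n * u) • Q : Sylow p G) : Subgroup G) := hg ▸ hQ' ht
  rw [Sylow.coe_subgroup_smul, mem_pointwise_smul_iff_inv_smul_mem, hQP,
    MulAut.smul_def, ← map_inv, MulAut.conj_apply] at h1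
  have h2 := mul_mem (mul_mem hu h1) (inv_mem hu)
  have e : u * ((n * u)⁻¹ * t * (n * u)⁻¹⁻¹) * u⁻¹ = n⁻¹ * t * n := by group
  rwa [e] at h2

/-- the factorisation `N = C_N(d) C_N(c)` -/
theorem factor [Finite G] [Fact p.Prime] (H : TGHyp p P N C D) {c d x : G} (hc : c ∈ C)
    (hd : d ∈ D) (hx : x ∈ N) :
    ∃ n ∈ N, ∃ m ∈ N, x = n * m ∧ d * n = n * d ∧ c * m = m * c := by
  have hN := H.normal
  have hT : IsPGroup p (closure ({x * c * x⁻¹, d} : Set G)) := by
    intro g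
    obtain ⟨k, hk⟩ := H.h x hx c hc d hd g.1 g.2
    exact ⟨k, Subtype.ext hk⟩
  obtain ⟨n, hn, hconj⟩ := H.exists_conj hT
  refine ⟨n, hn, n⁻¹ * x, mul_mem (inv_mem hn) hx, by group, ?_, ?_⟩
  · have h1 := hconj d (subset_closure (by simp))
    have h2 : d⁻¹ * (n⁻¹ * d * n) ∈ P := mul_mem (inv_mem (H.D_le hd)) h1
    have h3 : d⁻¹ * (n⁻¹ * d * n) ∈ N := by
      have e : d⁻¹ * (n⁻¹ * d * n) = (d⁻¹ * n⁻¹ * d⁻¹⁻¹) * n := by group
      rw [e]
      exact mul_mem (hN.conj_mem _ (inv_mem hn) _) hn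
    have h4 := H.eq_one_of_mem H.pgroup h3 h2
    have h5 : n⁻¹ * d * n = d := by
      rw [inv_mul_eq_one] at h4
      exact h4.symm
    calc d * n = n * (n⁻¹ * d * n) := by group
      _ = n * d := by rw [h5]
  · have h1 := hconj (x * c * x⁻¹) (subset_closure (by simp))
    have h2 : (n⁻¹ * (x * c * x⁻¹) * n) * c⁻¹ ∈ P := mul_mem h1 (inv_mem (H.C_le hc))
    have h3 : (n⁻¹ * (x * c * x⁻¹) * n) * c⁻¹ ∈ N := by
      have e : (n⁻¹ * (x * c * x⁻¹) * n) * c⁻¹ = (n⁻¹ * x) * (c * (n⁻¹ * x)⁻¹ * c⁻¹) := by group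
      rw [e]
      exact mul_mem (mul_mem (inv_mem hn) hx)
        (hN.conj_mem _ (inv_mem (mul_mem (inv_mem hn) hx)) _)
    have h4 := H.eq_one_of_mem H.pgroup h3 h2
    have h5 : n⁻¹ * (x * c * x⁻¹) * n = c := mul_inv_eq_one.1 h4
    calc c * (n⁻¹ * x) = (n⁻¹ * (x * c * x⁻¹) * n) * (n⁻¹ * x) := by rw [h5]
      _ = n⁻¹ * x * c := by group

/-- inheritance by subgroups -/
theorem sub (H : TGHyp p P N C D) {M : Subgroup G} (hMN : M ≤ N)
    (hPM : P ≤ normalizer (M : Set G)) :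
    TGHyp p (P.subgroupOf (M ⊔ P)) (M.subgroupOf (M ⊔ P))
      (Subtype.val ⁻¹' C : Set ↥(M ⊔ P)) (Subtype.val ⁻¹' D : Set ↥(M ⊔ P)) where
  normal := (normal_subgroupOf_iff_le_normalizer le_sup_left).2 (sup_le le_normalizer hPM)
  pgroup := H.pgroup.comap_subtype
  cop := by
    rw [Nat.card_congr (subgroupOfEquivOfLe (le_sup_left : M ≤ M ⊔ P)).toEquiv]
    exact Nat.Coprime.coprime_dvd_left (Subgroup.card_dvd_of_le hMN) H.cop
  sup := by
    rw [← subgroupOf_sup le_sup_left le_sup_right, subgroupOf_self]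
  hC := by
    apply map_injective (M ⊔ P).subtype_injective
    rw [map_closure_preimage_val _ _ (fun c hc => le_sup_right (a := M) (H.C_le hc)), H.hC,
      map_subgroupOf_eq_of_le le_sup_right]
  hD := by
    apply map_injective (M ⊔ P).subtype_injective
    rw [map_closure_preimage_val _ _ (fun c hc => le_sup_right (a := M) (H.D_le hc)), H.hD,
      map_subgroupOf_eq_of_le le_sup_right]
  h := by
    intro x hx c hc d hd g hg
    have h1 : (g : G) ∈ (closure ({x * c * x⁻¹, d} : Set ↥(M ⊔ P))).map (M ⊔ P).subtype :=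
      mem_map_of_mem _ hg
    rw [MonoidHom.map_closure, Set.image_pair] at h1
    obtain ⟨k, hk⟩ := H.h (x : G) (hMN hx) (c : G) hc (d : G) hd (g : G) h1
    exact ⟨k, Subtype.ext hk⟩

/-- inheritance by quotients -/
theorem quot (H : TGHyp p P N C D) (U : Subgroup G) [U.Normal] :
    TGHyp p (P.map (QuotientGroup.mk' U)) (N.map (QuotientGroup.mk' U))
      (QuotientGroup.mk' U '' C) (QuotientGroup.mk' U '' D) where
  normal := H.normal.map _ (QuotientGroup.mk'_surjective U)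
  pgroup := H.pgroup.map _
  cop := Nat.Coprime.coprime_dvd_left (card_map_dvd N _) H.cop
  sup := by
    rw [← Subgroup.map_sup, H.sup, ← MonoidHom.range_eq_map, MonoidHom.range_eq_top]
    exact QuotientGroup.mk'_surjective U
  hC := by rw [← MonoidHom.map_closure, H.hC]
  hD := by rw [← MonoidHom.map_closure, H.hD]
  h := by
    rintro _ ⟨x, hx, rfl⟩ _ ⟨c, hc, rfl⟩ _ ⟨d, hd, rfl⟩ g hg
    have e : ({QuotientGroup.mk' U x * QuotientGroup.mk' U c * (QuotientGroup.mk' U x)⁻¹,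
        QuotientGroup.mk' U d} : Set (G ⧸ U)) = QuotientGroup.mk' U '' {x * c * x⁻¹, d} := by
      rw [Set.image_pair, map_mul, map_mul, map_inv]
    rw [e, ← MonoidHom.map_closure] at hg
    obtain ⟨g0, hg0, rfl⟩ := hg
    obtain ⟨k, hk⟩ := H.h x hx c hc d hd g0 hg0
    exact ⟨k, by rw [← map_pow, hk, map_one]⟩

end TGHyp

end Cfsg.Agent.Lib.Helper38
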