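import Mathlib
import Cfsg.Agent.Lib.Helper38.TwoGenA
import Cfsg.Agent.Lib.Helper38.TwoGenB
import Cfsg.Agent.Lib.Helper38.ESModuleC
import Cfsg.Agent.Lib.Helper22.Generation
import Cfsg.Agent.Lib.Helper29.CoprimeSylow
import Cfsg.Agent.Lib.Helper64.MinNonClosed
import Cfsg.Agent.Lib.Helper24.Basic
import Cfsg.Agent.Lib.Helper1.MinimalNormal

/-!
The "two generating sets" theorem: main induction.
-/

set_option autoImplicit false

namespace Cfsg.Agent.Lib.Helper38

open Subgroup
open scoped IsMulCommutative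

universe u

/-- the minimal normal case -/
theorem TGHyp.comm_of_minimal {p r : ℕ} [Fact p.Prime] [Fact r.Prime] (hp3 : 3 ≤ p)
    {G : Type*} [Group G] [Finite G] {P N : Subgroup G} {C D : Set G} (H : TGHyp p P N C D)
    (hpr : p ≠ r) (hNc : IsMulCommutative N) (hNr : ∀ a ∈ N, a ^ r = 1)
    (hmin : ∀ B : Subgroup G, B.Normal → B ≤ N → B = ⊥ ∨ B = N) :
    ∀ u ∈ P, ∀ x ∈ N, u * x = x * u := by
  have hN := H.normal
  have hPN : P ≤ normalizer (N : Set G) := by rw [normalizer_eq_top]; exact le_top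
  let _ : DistribMulAction ↥P (Additive ↥N) := conjDistrib P N hPN
  have hsmul : ∀ (e : P) (a : Additive ↥N),
      ((e • a).toMul : G) = (e : G) * (a.toMul : G) * (e : G)⁻¹ := fun _ _ => rfl
  have hab : ∀ a ∈ N, ∀ b ∈ N, a * b = b * a := by
    intro a ha b hb
    exact congrArg Subtype.val (hNc.is_comm.comm (⟨a, ha⟩ : N) ⟨b, hb⟩)
  have hV : ∀ v : Additive ↥N, r • v = 0 := by
    intro v
    apply Additive.toMul.injective
    apply Subtype.ext
    show ((v.toMul ^ r : N) : G) = 1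
    rw [Subgroup.coe_pow]
    exact hNr _ v.toMul.2
  have hirr : ∀ W : AddSubgroup (Additive ↥N), (∀ g : P, ∀ w ∈ W, g • w ∈ W) →
      W = ⊥ ∨ W = ⊤ := by
    intro W hW
    let B : Subgroup G :=
      { carrier := {g | ∃ h : g ∈ N, Additive.ofMul (⟨g, h⟩ : N) ∈ W}
        one_mem' := ⟨one_mem N, W.zero_mem⟩
        mul_mem' := by
          rintro a b ⟨ha, ha'⟩ ⟨hb, hb'⟩
          exact ⟨mul_mem ha hb, W.add_mem ha' hb'⟩
        inv_mem' := by
          rintro a ⟨ha, ha'⟩
          exact ⟨inv_mem ha, W.neg_mem ha'⟩ }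
    have hBN : B ≤ N := fun b hb => hb.1
    have hBn : B.Normal := by
      refine ⟨fun b hb g => ?_⟩
      obtain ⟨hbN, hbW⟩ := hb
      obtain ⟨n, hn, u, hu, rfl⟩ := H.exists_mul g
      have h1 : u * b * u⁻¹ ∈ N := hN.conj_mem b hbN u
      have h2 : n * u * b * (n * u)⁻¹ = u * b * u⁻¹ := by
        calc n * u * b * (n * u)⁻¹ = (n * (u * b * u⁻¹)) * n⁻¹ := by group
          _ = ((u * b * u⁻¹) * n) * n⁻¹ := by rw [hab n hn _ h1]
          _ = u * b * u⁻¹ := by group
      rw [h2]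
      exact ⟨h1, hW ⟨u, hu⟩ _ hbW⟩
    rcases hmin B hBn hBN with h | h
    · left
      rw [AddSubgroup.eq_bot_iff_forall]
      intro w hw
      have h1 : (w.toMul : G) ∈ B := ⟨w.toMul.2, hw⟩
      rw [h, mem_bot] at h1
      apply Additive.toMul.injective
      exact Subtype.ext h1
    · right
      rw [AddSubgroup.eq_top_iff']
      intro w
      have h1 : (w.toMul : G) ∈ B := by rw [h]; exact w.toMul.2
      exact h1.2
  have hcl : ∀ S : Set G, closure S = P → closure (Subtype.val ⁻¹' S : Set P) = ⊤ := by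
    intro S hS
    apply map_injective P.subtype_injective
    rw [map_closure_preimage_val _ _ (fun c hc => hS ▸ subset_closure hc), hS,
      ← MonoidHom.range_eq_map, Subgroup.range_subtype]
  have hfac : ∀ c ∈ (Subtype.val ⁻¹' C : Set P), ∀ d ∈ (Subtype.val ⁻¹' D : Set P),
      ∀ v : Additive ↥N, ∃ a b : Additive ↥N, v = a + b ∧ c • a = a ∧ d • b = b := by
    intro c hc d hd v
    obtain ⟨n, hn, m, hm, hx, hdn, hcm⟩ := H.factor hc hd v.toMul.2
    refine ⟨Additive.ofMul ⟨m, hm⟩, Additive.ofMul ⟨n, hn⟩, ?_, ?_, ?_⟩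
    · rw [add_comm]
      apply Additive.toMul.injective
      apply Subtype.ext
      exact hx
    · apply Additive.toMul.injective
      apply Subtype.ext
      rw [hsmul]
      show (c : G) * m * (c : G)⁻¹ = m
      rw [hcm, mul_inv_cancel_right]
    · apply Additive.toMul.injective
      apply Subtype.ext
      rw [hsmul]
      show (d : G) * n * (d : G)⁻¹ = n
      rw [hdn, mul_inv_cancel_right]
  have key := two_gen_trivial (P := ↥P) (V := Additive ↥N) (p := p) (r := r) hp3 hpr H.pgroup hV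
    hirr (Subtype.val ⁻¹' C) (Subtype.val ⁻¹' D) (hcl C H.hC) (hcl D H.hD) hfac
  intro u hu x hx
  have h1 := key ⟨u, hu⟩ (Additive.ofMul ⟨x, hx⟩)
  have h2 := hsmul ⟨u, hu⟩ (Additive.ofMul ⟨x, hx⟩)
  rw [h1] at h2
  have h3 : x = u * x * u⁻¹ := h2
  exact (mul_inv_eq_iff_eq_mul.1 h3.symm)

theorem tg_main {p : ℕ} [Fact p.Prime] (hp3 : 3 ≤ p) :
    ∀ (k : ℕ) (G : Type u) [Group G] [Finite G] (P N : Subgroup G) (C D : Set G),
      TGHyp p P N C D → Nat.card N = k → ∀ u ∈ P, ∀ x ∈ N, u * x = x * u := by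
  intro k
  induction k using Nat.strong_induction_on with
  | _ k ih =>
  intro G _ _ P N C D H hk
  have hN := H.normal
  have hsub : ∀ M : Subgroup G, M ≤ N → M ≠ N → P ≤ normalizer (M : Set G) →
      ∀ u ∈ P, ∀ x ∈ M, u * x = x * u := by
    intro M hMN hne hPM u hu x hx
    have hlt : Nat.card (M.subgroupOf (M ⊔ P)) < k := by
      rw [Nat.card_congr (subgroupOfEquivOfLe (le_sup_left : M ≤ M ⊔ P)).toEquiv, ← hk]
      exact lt_of_not_ge (fun hge => hne (Subgroup.eq_of_le_of_card_ge hMN hge))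
    have := ih _ hlt ↥(M ⊔ P) _ _ _ _ (H.sub hMN hPM) rfl ⟨u, le_sup_right (a := M) hu⟩
      (mem_subgroupOf.2 hu) ⟨x, le_sup_left (b := P) hx⟩ (mem_subgroupOf.2 hx)
    exact congrArg Subtype.val this
  have hPcop : (Nat.card P).Coprime (Nat.card N) := by
    obtain ⟨j, hj⟩ := IsPGroup.iff_card.1 H.pgroup
    rw [hj]
    exact Nat.Coprime.pow_left j H.cop.symm
  have hPN : P ≤ normalizer (N : Set G) := by rw [normalizer_eq_top]; exact le_top
  have hPsolv : Group.IsSolvable P := by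
    have := H.pgroup.isNilpotent
    exact IsNilpotent.to_isSolvable
  by_cases hex : ∃ r : ℕ, r.Prime ∧ IsPGroup r N
  swap
  · have hle : N ≤ centralizer (P : Set G) := by
      apply Cfsg.Agent.Lib.Helper22.le_of_forall_isSylowIn_le
      intro q hq
      have : Fact q.Prime := ⟨hq⟩
      obtain ⟨⟨R, hR⟩, -⟩ :=
        Cfsg.Agent.Lib.Helper29.coprime_sylow P N hPN hPcop (Or.inl hPsolv) q
      refine ⟨(R : Subgroup N).map N.subtype, ⟨R, rfl⟩, ?_⟩
      have hne : (R : Subgroup N).map N.subtype ≠ N := by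
        intro he
        apply hex
        refine ⟨q, hq, ?_⟩
        have := R.2.map N.subtype
        rwa [he] at this
      intro x hx
      rw [mem_centralizer_iff]
      intro u hu
      exact hsub _ (map_subtype_le _) hne hR u hu x hx
    intro u hu x hx
    exact mem_centralizer_iff.1 (hle hx) u hu
  obtain ⟨r, hr, hNr⟩ := hex
  have : Fact r.Prime := ⟨hr⟩
  by_cases hNbot : N = ⊥
  · intro u hu x hx
    rw [hNbot, mem_bot] at hx
    rw [hx]; simp
  have hpr : p ≠ r := by
    rintro rfl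
    apply hNbot
    rw [eq_bot_iff_forall]
    intro x hx
    exact H.eq_one_of_mem hNr hx hx
  obtain ⟨U, hUn, hUne, hUN, hUmin⟩ := Cfsg.Agent.Lib.Helper1.exists_minimal_normal_le hN hNbot
  by_cases hUeq : U = N
  · subst hUeq
    obtain ⟨hc, he⟩ :=
      Cfsg.Agent.Lib.Helper64.elementary_abelian_of_minimal_normal U hUne hNr hUmin
    exact H.comm_of_minimal hp3 hpr hc he hUmin
  · have h1 := hsub U hUN hUeq (by rw [normalizer_eq_top]; exact le_top)
    have hlt : Nat.card (N.map (QuotientGroup.mk' U)) < k := by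
      have e1 := Cfsg.Agent.Lib.Helper29.card_comap_mk' U (N.map (QuotientGroup.mk' U))
      rw [comap_map_eq, QuotientGroup.ker_mk', sup_eq_left.2 hUN, hk] at e1
      have e2 : 1 < Nat.card U := (one_lt_card_iff_ne_bot U).2 hUne
      have e3 : 0 < Nat.card (N.map (QuotientGroup.mk' U)) := Nat.card_pos
      nlinarith
    have h2 := ih _ hlt (G ⧸ U) _ _ _ _ (H.quot U) rfl
    have h3 : ⁅N, P⁆ ≤ U := by
      rw [commutator_le]
      intro x hx u hu
      have h4 := h2 _ (mem_map_of_mem _ hu) _ (mem_map_of_mem _ hx)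
      have h8 : QuotientGroup.mk' U (x * u * x⁻¹ * u⁻¹) = 1 := by
        rw [map_mul, map_mul, map_mul, map_inv, map_inv, ← h4]; group
      exact (QuotientGroup.eq_one_iff _).1 h8
    have h5 : ⁅U, P⁆ = ⊥ := by
      rw [commutator_eq_bot_iff_le_centralizer]
      intro x hx
      rw [mem_centralizer_iff]
      intro u hu
      exact h1 u hu x hx
    have h6 : ⁅⁅N, P⁆, P⁆ = ⊥ := by
      rw [eq_bot_iff, ← h5]
      exact commutator_mono h3 le_rfl
    have h7 := Cfsg.Agent.Lib.Helper24.commutator_eq_bot_of_coprime hPN hPcop h6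
    rw [commutator_eq_bot_iff_le_centralizer] at h7
    intro u hu x hx
    exact mem_centralizer_iff.1 (h7 hx) u hu

end Cfsg.Agent.Lib.Helper38
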